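import Cfsg.Agent.SU3Geo98.C6.Orbit
import Mathlib.RingTheory.IntegralDomain

/-!
Class six of S5777 (helper98): the orbit of the fixed point under a group containing the real
orthogonal group leads to a contradiction.
-/

set_option autoImplicit false
set_option linter.unusedSectionVars false

namespace Cfsg.Agent.SU3Geo98.C6

open Matrix
open Cfsg.Agent.MaxSub (mulVec_ne_zero inv_mulVec_mulVec)
open SL3Geo34 (IsTransvec)
open SL3Geo32.Regular (TM TG TG_coe TG_mul TM_zero TM_mul)

/-- The arithmetic of the orbit. -/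
theorem orbit_arith {p j e : ℕ} (hp : p.Prime) (h11 : 11 ≤ p) (h3 : p % 3 = 2) (hj : 1 ≤ j)
    (hjb : (1 + j) * (p + 1) ≤ p ^ 3 + 1) (he1 : (p - 1) ∣ 2 * e)
    (hX : p * e ∣ 2 * (j * (p + 1)))
    (hM : (p + 1) * (1 + j) * (3 * p * e) ∣ p ^ 3 * (p ^ 3 + 1) * (p ^ 2 - 1)) :
    (1 + j) * (p + 1) = p ^ 3 + 1 := by
  obtain ⟨r, rfl⟩ : ∃ r, p = r + 1 := ⟨p - 1, by omega⟩
  simp only [Nat.add_sub_cancel] at he1
  have hX' : (r + 1) * r ∣ 4 * (j * (r + 1 + 1)) := by
    calc (r + 1) * r ∣ (r + 1) * (2 * e) := mul_dvd_mul_left _ he1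
      _ = 2 * ((r + 1) * e) := by ring
      _ ∣ 2 * (2 * (j * (r + 1 + 1))) := mul_dvd_mul_left _ hX
      _ = 4 * (j * (r + 1 + 1)) := by ring
  have hpj : r + 1 ∣ j := by
    have h := (dvd_mul_right (r + 1) r).trans hX'
    rcases hp.dvd_mul.mp h with h | h
    · exact absurd (Nat.le_of_dvd (by norm_num) h) (by omega)
    rcases hp.dvd_mul.mp h with h | h
    · exact h
    · have := Nat.dvd_sub h (dvd_refl (r + 1))
      simp at this
      omega
  have hrj : r ∣ 8 * j := by
    have h : r ∣ 4 * (j * (r + 1 + 1)) := (dvd_mul_left r (r + 1)).trans hX'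
    have e : 4 * (j * (r + 1 + 1)) = r * (4 * j) + 8 * j := by ring
    rw [e] at h
    exact (Nat.dvd_add_right (dvd_mul_right r (4 * j))).mp h
  obtain ⟨k, hk⟩ : (r + 1) * r ∣ 8 * j :=
    Nat.Coprime.mul_dvd_of_dvd_of_dvd (by simp) (dvd_mul_of_dvd_right hpj 8) hrj
  have hfac : (r + 1) ^ 3 + 1 = (r + 1 + 1) * (r * (r + 1) + 1) := by ring
  have hjle : 1 + j ≤ r * (r + 1) + 1 := by
    refine Nat.le_of_mul_le_mul_right ?_ (show 0 < r + 1 + 1 by omega)
    calc (1 + j) * (r + 1 + 1) ≤ (r + 1) ^ 3 + 1 := hjb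
      _ = (r * (r + 1) + 1) * (r + 1 + 1) := by rw [hfac, mul_comm]
  have hk8 : k ≤ 8 := by
    by_contra hk9
    have h9 : (r + 1) * r * 9 ≤ (r + 1) * r * k := Nat.mul_le_mul_left _ (by omega)
    nlinarith
  rcases Nat.lt_or_ge k 8 with hlt | hge
  · exfalso
    have hk1 : 1 ≤ k := by
      by_contra hk0
      have : k = 0 := by omega
      subst this
      omega
    set D := k * (r + 1) * r + 8 with hD
    have hD8 : D = 8 * (1 + j) := by rw [hD]; linarith [hk]
    have hM' : (r + 1 + 1) * (r + 1) * r * (3 * (1 + j)) ∣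
        (r + 1 + 1) * (r + 1) * r *
          (2 * (r + 1) ^ 2 * ((r * (r + 1) + 1) * (r + 1 + 1))) := by
      calc (r + 1 + 1) * (r + 1) * r * (3 * (1 + j))
          = (r + 1 + 1) * (1 + j) * (3 * (r + 1)) * r := by ring
        _ ∣ (r + 1 + 1) * (1 + j) * (3 * (r + 1)) * (2 * e) := mul_dvd_mul_left _ he1
        _ = 2 * ((r + 1 + 1) * (1 + j) * (3 * (r + 1) * e)) := by ring
        _ ∣ 2 * ((r + 1) ^ 3 * ((r + 1) ^ 3 + 1) * ((r + 1) ^ 2 - 1)) := mul_dvd_mul_left _ hM
        _ = _ := by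
          rw [show (r + 1) ^ 2 - 1 = r * (r + 1 + 1) by
            rw [show (r + 1) ^ 2 = r * (r + 1 + 1) + 1 by ring, Nat.add_sub_cancel], hfac]
          ring
    have hr0 : 0 < r := by omega
    have h1 := Nat.dvd_of_mul_dvd_mul_left (by positivity) hM'
    have h2 : D ∣ (r + 1) ^ 2 * (16 * ((r * (r + 1) + 1) * (r + 1 + 1))) := by
      calc D = 8 * (1 + j) := hD8
        _ ∣ 8 * (3 * (1 + j)) := mul_dvd_mul_left _ (dvd_mul_left _ _)
        _ ∣ 8 * (2 * (r + 1) ^ 2 * ((r * (r + 1) + 1) * (r + 1 + 1))) := mul_dvd_mul_left _ h1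
        _ = _ := by ring
    have hco : Nat.Coprime D ((r + 1) ^ 2) := by
      refine Nat.Coprime.pow_right _ (Nat.Coprime.symm (hp.coprime_iff_not_dvd.mpr fun h => ?_))
      have := (Nat.dvd_add_right (dvd_mul_of_dvd_left (dvd_mul_left (r + 1) k) r)).mp h
      exact absurd (Nat.le_of_dvd (by norm_num) this) (by omega)
    have h3' := hco.dvd_of_dvd_mul_left h2
    have h4 : D ∣ 16 * (r + 1 + 1) * (8 - k) := by
      have e1 : 16 * (r + 1 + 1) * (8 - k) =
          16 * (r + 1 + 1) * D - k * (16 * ((r * (r + 1) + 1) * (r + 1 + 1))) := by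
        have e : 16 * (r + 1 + 1) * D =
            k * (16 * ((r * (r + 1) + 1) * (r + 1 + 1))) + 16 * (r + 1 + 1) * (8 - k) := by
          obtain ⟨l, hl⟩ : ∃ l, 8 = k + l := ⟨8 - k, by omega⟩
          rw [show 8 - k = l by omega, hD]
          nth_rewrite 1 [hl]
          ring
        rw [e, Nat.add_sub_cancel_left]
      rw [e1]
      exact Nat.dvd_sub (dvd_mul_left D _) (dvd_mul_of_dvd_right h3' k)
    have hle := Nat.le_of_dvd (Nat.mul_pos (by omega) (by omega)) h4
    have hsmall : r + 1 < 114 := by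
      by_contra hbig
      have h7 : 16 * (r + 1 + 1) * (8 - k) ≤ 16 * (r + 1 + 1) * 7 :=
        Nat.mul_le_mul_left _ (by omega)
      have h113 : 1 * (r + 1) * r ≤ k * (r + 1) * r := by
        gcongr
      nlinarith
    refine small_cases (r + 1) hsmall k hlt h11 h3 hp hk1 ?_ ?_
    · refine ⟨j, ?_⟩
      rw [Nat.add_sub_cancel, hk]; ring
    · simpa [Nat.add_sub_cancel, hD] using h4
  · have : k = 8 := by omega
    subst this
    have : j = r * (r + 1) := by linarith [hk]
    rw [this, hfac]; ring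

variable {F : Type*} [Field F] [Fintype F]
variable {σ : F ≃+* F} {p : ℕ} {M : Subgroup (GL (Fin 3) F)}

/-- Real up to a scalar. -/
def RS (σ : F ≃+* F) (g : GL (Fin 3) F) : Prop :=
  ∃ (c : F) (R : Matrix (Fin 3) (Fin 3) F), c ≠ 0 ∧ (∀ i j, σ (R i j) = R i j) ∧
    (g : Matrix (Fin 3) (Fin 3) F) = c • R

theorem RS_mul {g h : GL (Fin 3) F} (hg : RS σ g) (hh : RS σ h) : RS σ (g * h) := by
  obtain ⟨c, R, hc, hR, hv⟩ := hg
  obtain ⟨d, S, hd, hS, hw⟩ := hh
  refine ⟨c * d, R * S, mul_ne_zero hc hd, fun i j => ?_, ?_⟩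
  · simp [mul3, map_add, map_mul, hR, hS]
  · rw [Units.val_mul, hv, hw, Matrix.smul_mul, Matrix.mul_smul, smul_smul]

variable (C : Ctx σ p M) (hLM : LM 1 ∈ M)
include C hLM

theorem rs_of_conicStab {g : M} (hg : g ∈ conicStab (σ := σ) (M := M)) :
    RS σ (g : GL (Fin 3) F) := by
  have hup : ∀ k : M, k ∈ Mx M → RS σ (k : GL (Fin 3) F) := by
    intro k hk
    obtain ⟨u, c, s, hu, hs, -, -, hc, hv⟩ := up_shape C hLM k.2 ((mem_Mx C).mp hk)
    refine ⟨c, _, hc, fun i j => ?_, hv⟩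
    fin_cases i <;> fin_cases j <;> simp [mul3, TM, map_add, map_mul, map_ofNat, map_pow, hu, hs]
  obtain ⟨w, hw, hwv⟩ := exists_weyl C hLM
  rcases hg _ (Or.inl rfl) with h | ⟨t, ht, h⟩
  · exact hup g (MulAction.mem_stabilizer_iff.mpr h)
  · set k : M := ⟨TG t, TG_real C ht⟩ * ⟨w, hw⟩
    have hk : RS σ (k : GL (Fin 3) F) := by
      refine RS_mul (g := TG t) (h := w) ⟨1, TM t, one_ne_zero, fun i j => ?_, (one_smul _ _).symm⟩
        ⟨1, _, one_ne_zero, fun i j => ?_, hwv.trans (one_smul _ _).symm⟩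
      · fin_cases i <;> fin_cases j <;> simp [TM, ht, map_mul, map_ofNat, map_pow]
      · fin_cases i <;> fin_cases j <;> simp
    have hke : k • pnt (e0 : Fin 3 → F) = pnt ![t ^ 2, t, 1] := by
      rw [smul_pnt]
      congr 1
      ext i
      fin_cases i <;> simp [k, ap, vec3, hwv, TM, mul3]
    have h' : k⁻¹ * g ∈ Mx M := by
      rw [MulAction.mem_stabilizer_iff, mul_smul, h, ← hke, inv_smul_smul]
    have := RS_mul hk (hup _ h')
    rwa [← Subgroup.coe_mul, mul_inv_cancel_left] at this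

/-- The orbit is more than a conic. -/
theorem index_ne_one {ω : F} (hω : ω ^ 2 + ω + 1 = 0) (hωσ : σ ω ≠ ω) {a b : GL (Fin 3) F}
    (ha : a ∈ M) (hb : b ∈ M) (hab : (a * b).1 = ω • (b * a).1) :
    (conicStab (σ := σ) (M := M)).index ≠ 1 := by
  intro h
  have htop := Subgroup.index_eq_one.mp h
  obtain ⟨c, A, hc, hA, hav⟩ := rs_of_conicStab C hLM (g := ⟨a, ha⟩) (htop ▸ Subgroup.mem_top _)
  obtain ⟨d, B, hd, hB, hbv⟩ := rs_of_conicStab C hLM (g := ⟨b, hb⟩) (htop ▸ Subgroup.mem_top _)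
  simp only at hav hbv
  have hdet : (B * A).det ≠ 0 := by
    intro h0
    have hd' := C.det _ (mul_mem hb ha)
    rw [Units.val_mul, hav, hbv, Matrix.smul_mul, Matrix.mul_smul, smul_smul, Matrix.det_smul, h0,
      mul_zero] at hd'
    exact zero_ne_one hd'
  obtain ⟨i, j, hij⟩ : ∃ i j, (B * A) i j ≠ 0 := by
    by_contra hcon
    simp only [not_exists, not_not] at hcon
    exact hdet (by rw [show B * A = 0 from Matrix.ext hcon]; simp)
  have e := congrFun (congrFun hab i) j
  rw [Units.val_mul, Units.val_mul, hav, hbv] at e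
  simp only [Matrix.smul_mul, Matrix.mul_smul, smul_smul, Matrix.smul_apply, smul_eq_mul] at e
  have e' : (A * B) i j = ω * (B * A) i j :=
    mul_left_cancel₀ (mul_ne_zero hc hd) (by linear_combination e)
  have hre : ∀ (X Y : Matrix (Fin 3) (Fin 3) F), (∀ i j, σ (X i j) = X i j) →
      (∀ i j, σ (Y i j) = Y i j) → σ ((X * Y) i j) = (X * Y) i j := fun X Y hX hY => by
    simp [mul3, map_add, map_mul, hX, hY]
  have := congrArg σ e'
  rw [map_mul, hre A B hA hB, hre B A hB hA, e'] at this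
  exact hωσ (mul_right_cancel₀ hij this).symm

/-- Not every isotropic point is in the orbit. -/
theorem not_all (hcard : Fintype.card F = p ^ 2)
    (hall : ∀ v, v ≠ 0 → f0 σ v v = 0 → pnt v ∈ MulAction.orbit M (pnt (e0 : Fin 3 → F))) : False := by
  classical
  have h2 := two C
  obtain ⟨W₀, hW, hWv⟩ := exists_weyl C hLM
  obtain ⟨H, hH, hHv, hne, hne1, hne2⟩ := exists_four C hLM
  obtain ⟨ε, hε0, hε⟩ := exists_skew' C hcard
  have hWW : W₀ * W₀ = 1 := by
    apply Units.ext
    rw [Units.val_mul, hWv]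
    ext i j
    fin_cases i <;> fin_cases j <;> simp [mul3]
  have hW1 : W₀ ≠ 1 := fun e => by
    have := congrArg (fun x : GL (Fin 3) F => x.1 2 0) e
    simp [hWv] at this
  -- a fixed point of the Weyl element
  obtain ⟨t, ht⟩ : ∃ t : F, t * σ t = -1 := by
    have := C.char
    have := Fact.mk C.prime
    obtain ⟨g, hg⟩ := IsCyclic.exists_generator (α := Fˣ)
    have hord : orderOf g = (p - 1) * (p + 1) := by
      rw [orderOf_eq_card_of_forall_mem_zpowers hg, Nat.card_eq_fintype_card, Fintype.card_units, hcard,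
        mul_comm, ← Nat.sq_sub_sq p 1, one_pow]
    have hσ : ∀ x : F, σ x = x ^ p := frob C hcard
    refine ⟨(g : F) ^ ((p - 1) / 2), ?_⟩
    rw [hσ, ← pow_mul, ← pow_add, ← mul_one ((p - 1) / 2 : ℕ), mul_assoc ((p - 1) / 2) 1 p, one_mul,
      mul_one, show (p - 1) / 2 + (p - 1) / 2 * p = (p - 1) / 2 * (p + 1) by ring]
    have hodd : 2 ∣ p - 1 := by
      rcases C.prime.eq_two_or_odd with h | h
      · have := C.ge; omega
      · omega
    set n := (p - 1) / 2 * (p + 1)
    have hn : 2 * n = orderOf g := by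
      rw [hord, ← mul_assoc, Nat.mul_div_cancel' hodd]
    have h1 : ((g : F) ^ n) * ((g : F) ^ n) = 1 := by
      rw [← pow_add, ← two_mul, hn, ← Units.val_pow_eq_pow_val, pow_orderOf_eq_one, Units.val_one]
    refine (mul_self_eq_one_iff.mp h1).resolve_left fun h => ?_
    have hle := Nat.le_of_dvd (Nat.mul_pos (by have := C.ge; omega) (by omega))
      (orderOf_dvd_of_pow_eq_one (Units.ext (by simpa using h) : g ^ n = 1))
    have := orderOf_pos g
    omega
  obtain ⟨⟨g, hg⟩, hge⟩ := hall ![1, t, -1] (fun e => by simpa using congrFun e 0) (by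
    simp [f0]
    linear_combination 2 * ht)
  change (⟨g, hg⟩ : M) • pnt e0 = _ at hge
  set i := g⁻¹ * W₀ * g with hi
  have hiM : i ∈ M := mul_mem (mul_mem (inv_mem hg) hW) hg
  have hifix : (⟨i, hiM⟩ : M) ∈ Mx M := by
    rw [MulAction.mem_stabilizer_iff, show (⟨i, hiM⟩ : M) = ⟨g, hg⟩⁻¹ * ⟨W₀, hW⟩ * ⟨g, hg⟩ from rfl,
      mul_smul, mul_smul, hge, smul_pnt,
      show ap W₀ ![1, t, -1] = (-1 : F) • ![1, t, -1] from ?_,
      pnt_smul (neg_ne_zero.mpr one_ne_zero), ← hge, inv_smul_smul]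
    ext k
    fin_cases k <;> simp [ap, vec3, hWv]
  have hiu := (mem_Mx C).mp hifix
  have hisv : sv i = -1 := by
    have hii : i * i = 1 := by
      calc i * i = g⁻¹ * (W₀ * W₀) * g := by rw [hi]; group
        _ = 1 := by rw [hWW]; group
    have hsq : sv i * sv i = 1 := by rw [← sv_mul hiu hiu, hii]; exact up_one.2
    refine (mul_self_eq_one_iff.mp hsq).resolve_left fun e => ?_
    obtain ⟨v, r, -, hr, hv⟩ := kernel_form C hiM hiu e
    have e00 := congrArg (fun x : GL (Fin 3) F => x.1 0 0) hii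
    have e12 := congrArg (fun x : GL (Fin 3) F => x.1 1 2) hii
    simp [hv, TM, mul3] at e00 e12
    have hr1 : r = 1 := by linear_combination hr - r * e00
    subst hr1
    have hv0 : v = 0 := (mul_eq_zero.mp (show (2 : F) * v = 0 by linear_combination e12)).resolve_left h2
    have hi1 : i = 1 := Units.ext (by rw [hv, hv0, one_smul, TM_zero, Units.val_one])
    refine hW1 ?_
    calc W₀ = g * i * g⁻¹ := by rw [hi]; group
      _ = 1 := by rw [hi1]; group
  obtain ⟨u, h, -, -, hhM, hhu, hsv, h01, h12⟩ := up_normal C hiM hiu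
  have hd := dg_of_neg C hhM hhu h01 h12 (hsv.trans hisv)
  obtain ⟨hβ, hα, -, -, -, -⟩ := conj_TG C hhM hhu
  obtain ⟨-, -, hdet, -, -⟩ := up_diag C hhM hhu
  obtain ⟨d01, d02, d10, d12, d20, d21⟩ := hd
  rw [hsv, hisv] at hβ hα
  set c := h.1 2 2 with hcdef
  have hc3 : c ^ 3 = -1 := by rw [hα, hβ] at hdet; linear_combination -hdet
  set t0 := h ^ 3 with ht0
  have t0v : (t0 : Matrix (Fin 3) (Fin 3) F) = !![-1, 0, 0; 0, 1, 0; 0, 0, -1] := by
    rw [ht0, Units.val_pow_eq_pow_val, pow_three]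
    ext x y
    fin_cases x <;> fin_cases y <;>
      simp [mul3, d01, d02, d10, d12, d20, d21, hα, hβ, ← hcdef] <;>
      first | linear_combination hc3 | linear_combination -hc3
  have t0M : t0 ∈ M := pow_mem hhM 3
  have t0d : Dg t0 := by refine ⟨?_, ?_, ?_, ?_, ?_, ?_⟩ <;> simp [t0v]
  have t0s : sv t0 = -1 := by simp [sv, t0v]
  have t0t0 : t0 * t0 = 1 := by
    apply Units.ext
    rw [Units.val_mul, t0v]
    ext x y
    fin_cases x <;> fin_cases y <;> simp [mul3]
  -- a point of the axis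
  obtain ⟨⟨k₀, hk₀⟩, hk₀e⟩ := hall ![ε, 0, 1] (fun e => by simpa using congrFun e 2) (by
    simp [f0, hε])
  change (⟨k₀, hk₀⟩ : M) • pnt e0 = _ at hk₀e
  set j := k₀⁻¹ * t0 * k₀ with hj
  have hjM : j ∈ M := mul_mem (mul_mem (inv_mem hk₀) t0M) hk₀
  have hjfix : (⟨j, hjM⟩ : M) ∈ Mx M := by
    rw [MulAction.mem_stabilizer_iff, show (⟨j, hjM⟩ : M) = ⟨k₀, hk₀⟩⁻¹ * ⟨t0, t0M⟩ * ⟨k₀, hk₀⟩ from rfl,
      mul_smul, mul_smul, hk₀e, smul_pnt,
      show ap t0 ![ε, 0, 1] = (-1 : F) • ![ε, 0, 1] from ?_,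
      pnt_smul (neg_ne_zero.mpr one_ne_zero), ← hk₀e, inv_smul_smul]
    ext x
    fin_cases x <;> simp [ap, vec3, t0v]
  obtain ⟨v, j', hvr, hjj, hj'M, hj'u, hj'sv, j01, j12⟩ := up_normal C hjM ((mem_Mx C).mp hjfix)
  have hjj1 : j * j = 1 := by
    calc j * j = k₀⁻¹ * (t0 * t0) * k₀ := by rw [hj]; group
      _ = 1 := by rw [t0t0]; group
  -- `j = TG v * j'` with `j'` diagonal of parameter `-1`, so a conjugate of `t0`
  set k := k₀ * TG (v / 2) with hk
  have hv2 : σ (v / 2) = v / 2 := by rw [map_div₀, hvr, map_ofNat]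
  have hkM : k ∈ M := mul_mem hk₀ (TG_real C hv2)
  have hju := (mem_Mx C).mp hjfix
  have hjs : sv j = -1 := by
    have hsq : sv j * sv j = 1 := by rw [← sv_mul hju hju, hjj1]; exact up_one.2
    refine (mul_self_eq_one_iff.mp hsq).resolve_left fun e => ?_
    obtain ⟨w, r, -, hr, hv⟩ := kernel_form C hjM hju e
    have e00 := congrArg (fun x : GL (Fin 3) F => x.1 0 0) hjj1
    have e12 := congrArg (fun x : GL (Fin 3) F => x.1 1 2) hjj1
    simp [hv, TM, mul3] at e00 e12
    have hr1 : r = 1 := by linear_combination hr - r * e00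
    subst hr1
    have hw0 : w = 0 := (mul_eq_zero.mp (show (2 : F) * w = 0 by linear_combination e12)).resolve_left h2
    have hj1 : j = 1 := Units.ext (by rw [hv, hw0, one_smul, TM_zero, Units.val_one])
    have ht1 : t0 = 1 := by
      calc t0 = k₀ * j * k₀⁻¹ := by rw [hj]; group
        _ = 1 := by rw [hj1]; group
    have := congrArg (fun x : GL (Fin 3) F => x.1 1 1 - x.1 0 0) ht1
    simp [t0v] at this
    exact h2 (by linear_combination this)
  have hke : ∃ r : F, r ≠ 0 ∧ ap k e0 = r • ![ε, 0, 1] := by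
    rw [smul_pnt] at hk₀e
    obtain ⟨r, hr⟩ := exists_of_pnt_eq hk₀e
    refine ⟨r, fun h0 => ?_, ?_⟩
    · rw [h0, zero_smul] at hr
      exact mulVec_ne_zero k₀ (fun e => by simpa using congrFun e 0) hr
    · rw [hk, ap_mul, show ap (TG (v / 2)) e0 = e0 from ?_]
      · exact hr
      · ext x; fin_cases x <;> simp [ap, vec3, TM]
  have hkt : k⁻¹ * t0 * k = t0 := by
    have hj'dg : Dg j' := dg_of_neg C hj'M hj'u j01 j12 (hj'sv.trans hjs)
    have hj's : sv j' = -1 := hj'sv.trans hjs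
    -- `j' = t0` as both are involutions
    obtain ⟨g01, g02, g10, g12, g20, g21⟩ := hj'dg
    obtain ⟨jβ, jα, -, -, -, -⟩ := conj_TG C hj'M hj'u
    rw [hj's] at jβ jα
    set r := j'.1 2 2
    have e00 := congrArg (fun x : GL (Fin 3) F => x.1 0 0) hjj1
    rw [hjj] at e00
    simp [mul3, TM, Matrix.vecMul, dotProduct, Fin.sum_univ_three, g01, g02, g10, g12, g20, g21, jα, jβ] at e00
    obtain ⟨-, -, jd, -, -⟩ := up_diag C hj'M hj'u
    rw [jα, jβ] at jd
    have hr : r = -1 := by linear_combination -jd - r * e00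
    have hj' : j' = t0 := by
      apply Units.ext
      ext x y
      fin_cases x <;> fin_cases y <;> simp [t0v, g01, g02, g10, g12, g20, g21, jα, jβ, r] <;>
        first | linear_combination hr | linear_combination -hr | simp [hr]
    calc k⁻¹ * t0 * k = (TG (v / 2))⁻¹ * j * TG (v / 2) := by rw [hk, hj]; group
      _ = t0 := by
        rw [hjj, hj']
        have e : ∀ x : F, t0 * TG x = TG (-x) * t0 := fun x => by
          apply Units.ext
          simp only [Units.val_mul, t0v, TG_coe]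
          ext a b
          fin_cases a <;> fin_cases b <;> simp [TM, mul3]
        rw [show (TG (v / 2))⁻¹ = TG (-(v / 2)) from inv_eq_of_mul_eq_one_right (by
          rw [TG_mul, add_neg_cancel]; exact Units.ext (by simp [TM_zero]))]
        rw [← mul_assoc, TG_mul, mul_assoc, e, ← mul_assoc, TG_mul,
          show -(v / 2) + v + -(v / 2) = 0 by field_simp; ring,
          show TG (0 : F) = 1 from Units.ext (by simp [TM_zero]), one_mul]
  -- the conjugates of two exchanging involutions exchange, so `k` normalises the torus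
  have hcomm : ∀ w ∈ M, w * w = 1 → w ≠ 1 → w ≠ t0 → w * t0 = t0 * w →
      (k⁻¹ * w * k).1 0 0 = 0 ∧ (k⁻¹ * w * k).1 0 1 = 0 ∧ (k⁻¹ * w * k).1 1 0 = 0 ∧
        (k⁻¹ * w * k).1 1 2 = 0 ∧ (k⁻¹ * w * k).1 2 1 = 0 ∧ (k⁻¹ * w * k).1 2 2 = 0 := by
    intro w hw hww hw1 hwt hwc
    set w' := k⁻¹ * w * k with hw'
    have hw'M : w' ∈ M := mul_mem (mul_mem (inv_mem hkM) hw) hkM
    have ww : w' * w' = 1 := by
      calc w' * w' = k⁻¹ * (w * w) * k := by rw [hw']; group
        _ = 1 := by rw [hww]; group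
    have w1 : w' ≠ 1 := fun e => hw1 (by
      calc w = k * w' * k⁻¹ := by rw [hw']; group
        _ = 1 := by rw [e]; group)
    have wt : w' ≠ t0 := fun e => hwt (by
      calc w = k * w' * k⁻¹ := by rw [hw']; group
        _ = k * (k⁻¹ * t0 * k) * k⁻¹ := by rw [e, hkt]
        _ = t0 := by group)
    have wc : w' * t0 = t0 * w' := by
      calc w' * t0 = (k⁻¹ * w * k) * (k⁻¹ * t0 * k) := by rw [hkt]
        _ = k⁻¹ * (w * t0) * k := by group
        _ = k⁻¹ * (t0 * w) * k := by rw [hwc]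
        _ = (k⁻¹ * t0 * k) * (k⁻¹ * w * k) := by group
        _ = t0 * w' := by rw [hkt]
    obtain ⟨x, hx, -, hsw, hsq⟩ := swap_frame C t0M t0v hw'M ww w1 wt wc
    -- the frame change is trivial, as the torus of the new frame lies in `M`
    have C' := C.conj (adm_W hx)
    have hL' : LM 1 ∈ M.map (cj (W x)) := LM_of_swap C' (Subgroup.mem_map_of_mem _ hw'M) hsw hsq
    obtain ⟨H', hH', hH'v, hne', -, -⟩ := exists_four C' hL'
    obtain ⟨G, hG, hGe⟩ := hH'
    have hGv : G.1 = WMm (-x) * H'.1 * WMm x := by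
      rw [← hGe, cj_apply, Units.val_mul, Units.val_mul, W_inv_coe, W_coe]
      rw [← Matrix.mul_assoc, ← Matrix.mul_assoc, WMm_mul, neg_add_cancel, WMm_zero, Matrix.one_mul,
        Matrix.mul_assoc, WMm_mul, neg_add_cancel, WMm_zero, Matrix.mul_one]
    have hGd := dg_of_torus C hH (by refine ⟨?_, ?_, ?_, ?_, ?_, ?_⟩ <;> simp [hHv])
      (by simpa [hHv] using hne) hG
      (by refine ⟨?_, ?_, ?_⟩ <;> simp [hGv, hH'v, WMm, mul3])
      (by simp [hGv, hH'v, WMm, mul3]) (by simp [hGv, hH'v, WMm, mul3])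
    have h02 := hGd.2.1
    simp [hGv, hH'v, WMm, mul3] at h02
    have hx0 : x = 0 := (mul_eq_zero.mp (show (4 - 4⁻¹ : F) * x = 0 by linear_combination h02)).resolve_left
      (sub_ne_zero.mpr hne)
    have e1 : cj (W x) w' = w' := by
      rw [hx0, show W (0 : F) = 1 from Units.ext (by simp [WMm_zero])]
      simp [cj_apply]
    rw [e1] at hsw
    exact hsw
  have hWH : W₀ * H * (W₀ * H) = 1 := by
    apply Units.ext
    simp only [Units.val_mul, hWv, hHv, Units.val_one]
    have h4 : (4 : F) ≠ 0 := fun e => hne (by rw [e, _root_.inv_zero])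
    ext a b
    fin_cases a <;> fin_cases b <;> simp [mul3, h4]
  have hWne : ∀ w : GL (Fin 3) F, w.1 2 0 ≠ 0 → w ≠ 1 ∧ w ≠ t0 := fun w hw => by
    refine ⟨fun e => hw (by rw [e]; simp), fun e => hw (by rw [e, t0v]; simp)⟩
  obtain ⟨a00, a01, a10, a12, a21, a22⟩ := hcomm W₀ hW hWW (hWne W₀ (by simp [hWv])).1
    (hWne W₀ (by simp [hWv])).2 (by
      apply Units.ext
      simp only [Units.val_mul, hWv, t0v]
      ext a b
      fin_cases a <;> fin_cases b <;> simp [mul3])
  obtain ⟨b00, b01, b10, b12, b21, b22⟩ := hcomm (W₀ * H) (mul_mem hW hH) hWH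
    (hWne (W₀ * H) (by simp [hWv, hHv, mul3]; exact fun e => hne (by rw [e, _root_.inv_zero]))).1
    (hWne (W₀ * H) (by simp [hWv, hHv, mul3]; exact fun e => hne (by rw [e, _root_.inv_zero]))).2 (by
      apply Units.ext
      simp only [Units.val_mul, hWv, hHv, t0v]
      ext a b
      fin_cases a <;> fin_cases b <;> simp [mul3])
  set A := k⁻¹ * W₀ * k with hA
  set B := k⁻¹ * (W₀ * H) * k with hB
  have hAB : k⁻¹ * H = (A * B) * k⁻¹ := by
    calc k⁻¹ * H = k⁻¹ * (W₀ * W₀) * H := by rw [hWW]; group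
      _ = (A * B) * k⁻¹ := by rw [hA, hB]; group
  have hdg : Dg (A * B) := by
    refine ⟨?_, ?_, ?_, ?_, ?_, ?_⟩ <;>
      simp [mul3, a00, a01, a10, a12, a21, a22, b00, b01, b10, b12, b21, b22]
  have hHd : Dg H := by refine ⟨?_, ?_, ?_, ?_, ?_, ?_⟩ <;> simp [hHv]
  have hmono := mono_of_conj C (inv_mem hkM) hHd hdg hAB (by simpa [hHv] using hne1)
    (by simpa [hHv] using hne) (by simpa [hHv] using hne2)
  obtain ⟨r, hr, hke'⟩ := hke
  have hback : ap k⁻¹ ![ε, 0, 1] = r⁻¹ • e0 := by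
    have h := congrArg (ap k⁻¹) hke'
    simp only [ap, inv_mulVec_mulVec, mulVec_smul] at h
    rw [h, smul_smul, inv_mul_cancel₀ hr, one_smul]
  have h2' : (k⁻¹ : GL (Fin 3) F).1 2 0 * ε + (k⁻¹ : GL (Fin 3) F).1 2 2 = 0 := by
    have h := congrFun hback 2
    simp [ap, vec3] at h
    simpa using h
  rcases hmono with h | h
  · obtain ⟨n0, n1, n2⟩ := up_ne C (inv_mem hkM) ⟨h.2.2.1, h.2.2.2.2.1, h.2.2.2.2.2⟩
    rw [h.2.2.2.2.1, zero_mul, zero_add] at h2'
    exact n2 h2'
  · rw [h.2.2.2.2.2, add_zero] at h2'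
    have hk0 := C.det _ (inv_mem hkM)
    rw [Matrix.det_fin_three, h.1, h.2.1, h.2.2.1, h.2.2.2.1, h.2.2.2.2.1, h.2.2.2.2.2,
      (mul_eq_zero.mp h2').resolve_right hε0] at hk0
    exact zero_ne_one (α := F) (by linear_combination hk0)

/-- A group with the real orthogonal group and two elements commuting up to a primitive cube root. -/
theorem false_of_pair (hcard : Fintype.card F = p ^ 2)
    (hdiv : Nat.card M ∣ p ^ 3 * (p ^ 3 + 1) * (p ^ 2 - 1)) {ω : F} (hω : ω ^ 2 + ω + 1 = 0)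
    {a b : GL (Fin 3) F} (ha : a ∈ M) (hb : b ∈ M) (hab : (a * b).1 = ω • (b * a).1) : False := by
  classical
  have h3 := three C
  have := C.char
  have := Fact.mk C.prime
  have hω3 : ω ^ 3 = 1 := by linear_combination (ω - 1) * hω
  have hω1 : ω ≠ 1 := fun e => h3 (by rw [e] at hω; linear_combination hω)
  have hωσ : σ ω ≠ ω := fun e => by
    obtain ⟨m, hm⟩ := (C.real ω).mp e
    have hp : ω ^ p = ω := by rw [← hm, ← frobenius_def, map_natCast]
    rw [← Nat.div_add_mod p 3, C.mod, pow_add, pow_mul, hω3, one_pow, one_mul] at hp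
    have : ω = 1 := mul_left_cancel₀ (a := ω) (fun h0 => by simp [h0] at hω3) (by linear_combination hp)
    exact hω1 this
  set s := a * b * (b * a)⁻¹ with hsdef
  have hs : s ∈ M := mul_mem (mul_mem ha hb) (inv_mem (mul_mem hb ha))
  have hsv : (s : Matrix (Fin 3) (Fin 3) F) = ω • 1 := by
    rw [hsdef, Units.val_mul, hab, Matrix.smul_mul, Units.mul_inv]
  set S := conicStab (σ := σ) (M := M)
  set O := MulAction.orbit M (pnt (e0 : Fin 3 → F))
  have hO : O.ncard = (p + 1) * S.index := by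
    rw [← index_Mx C hLM, MulAction.index_stabilizer]
  have hiso : ∀ Q ∈ O, ∃ v, v ≠ 0 ∧ f0 σ v v = 0 ∧ Q = pnt v := by
    rintro _ ⟨g, rfl⟩
    refine ⟨ap (g : GL (Fin 3) F) e0, mulVec_ne_zero _ (fun e => by simpa using congrFun e 0), ?_,
      smul_pnt g _⟩
    rw [C.iso _ g.2]
    simp [f0]
  obtain ⟨hObd, hOall⟩ := ncard_iso C hcard O hiso
  have hSne := index_ne_one C hLM hω hωσ ha hb hab
  have hS0 : S.index ≠ 0 := Subgroup.index_ne_zero_of_finite
  obtain ⟨j, hj⟩ : ∃ j, S.index = 1 + j := ⟨S.index - 1, by omega⟩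
  -- the action off the conic
  set X := {Q : Submodule F (Fin 3 → F) // Q ∈ O ∧ Q ∉ conic σ}
  let _ : MulAction (Mx M) X :=
    { smul := fun g Q => ⟨(g : M) • Q.1, MulAction.mem_orbit_of_mem_orbit (g : M) Q.2.1, fun h => Q.2.2 (by
        have := conic_stable C hLM (inv_mem g.2) _ h
        rwa [inv_smul_smul] at this)⟩
      one_smul := fun Q => Subtype.ext (one_smul M Q.1)
      mul_smul := fun g h Q => Subtype.ext (mul_smul (g : M) (h : M) Q.1) }
  have hX : Nat.card X = j * (p + 1) := by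
    have hsub : conic σ ⊆ O := by
      rw [← conic_orbit C hLM]
      rintro _ ⟨g, rfl⟩
      exact ⟨(g : M), rfl⟩
    rw [show Nat.card X = (O \ conic σ).ncard from Nat.card_coe_set_eq (O \ conic σ),
      Set.ncard_sdiff hsub, hO, card_conic C hLM, hj, mul_add, mul_one, Nat.add_sub_cancel_left, mul_comm]
  have hstab : ∀ x : X, Nat.card (MulAction.stabilizer (Mx M) x) ∣ 6 := by
    rintro ⟨Q, hQO, hQc⟩
    obtain ⟨v, hv0, hvf, rfl⟩ := hiso Q hQO
    set St := MulAction.stabilizer (Mx M) (⟨pnt v, hQO, hQc⟩ : X)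
    have hv2 : v 2 ≠ 0 := by
      intro hz
      have hf := hvf
      simp [f0, hz] at hf
      rcases hf with h | h
      · exact two C h
      refine hQc (Or.inl ?_)
      have e : v = v 0 • e0 := by
        ext i; fin_cases i <;> simp [h, hz]
      rw [e, pnt_smul]
      intro h0; exact hv0 (by rw [e, h0, zero_smul])
    have hfix : ∀ g : St, ∃ l, ap (((g : Mx M) : M) : GL (Fin 3) F) v = l • v := fun g => by
      have h := congrArg Subtype.val (MulAction.mem_stabilizer_iff.mp g.2)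
      exact exists_of_pnt_eq ((smul_pnt _ v).symm.trans h)
    set ψ := (svHom C).comp St.subtype
    have hker : Nat.card ψ.ker ∣ 3 := by
      let χ : ψ.ker →* Fˣ :=
        { toFun := fun g => Units.mk0 ((((g : St) : Mx M) : M).1.1 0 0)
            (up_ne C ((g : St) : Mx M).1.2 ((mem_Mx C).mp ((g : St) : Mx M).2)).1
          map_one' := Units.ext (by simp)
          map_mul' := fun g h => Units.ext (by
            simpa using (up_mul ((mem_Mx C).mp ((g : St) : Mx M).2)
              ((mem_Mx C).mp ((h : St) : Mx M).2)).2.1) }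
      have hform : ∀ g : ψ.ker, ∃ r : F, r ^ 3 = 1 ∧
          (((g : St) : Mx M) : M).1.1 = r • (1 : Matrix (Fin 3) (Fin 3) F) := fun g => by
        obtain ⟨u, r, -, hr, hv⟩ := kernel_form C ((g : St) : Mx M).1.2
          ((mem_Mx C).mp ((g : St) : Mx M).2) (congrArg Units.val (MonoidHom.mem_ker.mp g.2))
        obtain ⟨l, hl⟩ := hfix g
        have h1 := congrFun hl 1
        have h2 := congrFun hl 2
        simp [ap, vec3, hv, TM] at h1 h2
        have hr0 : r ≠ 0 := fun h0 => by simp [h0] at hr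
        have hlr : l = r := (h2.resolve_right hv2).symm
        have hu : u = 0 := (mul_eq_zero.mp (show u * (r * v 2) = 0 by
          rw [hlr] at h1; linear_combination h1)).resolve_right (mul_ne_zero hr0 hv2)
        exact ⟨r, hr, by rw [hv, hu, TM_zero]⟩
      have hinj : Function.Injective χ := fun g h e => by
        obtain ⟨r, -, hr⟩ := hform g
        obtain ⟨r', -, hr'⟩ := hform h
        have e' := congrArg Units.val e
        simp [χ, hr, hr'] at e'
        exact Subtype.ext (Subtype.ext (Subtype.ext (Subtype.ext (Units.ext (by rw [hr, hr', e'])))))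
      rw [Nat.card_congr (MonoidHom.ofInjective hinj).toEquiv]
      refine card_units_dvd _ 3 ?_
      rintro _ ⟨g, rfl⟩
      obtain ⟨r, hr3, hr⟩ := hform g
      exact Units.ext (by simp [χ, hr, hr3])
    have hrange : Nat.card ψ.range ∣ 2 := by
      refine card_units_dvd _ 2 ?_
      rintro _ ⟨g, rfl⟩
      obtain ⟨u, c, s, hu, hs, hs0, hseq, hc, hv⟩ :=
        up_shape C hLM ((g : Mx M) : M).2 ((mem_Mx C).mp (g : Mx M).2)
      refine Units.ext ?_
      show sv ((((g : St) : Mx M) : M) : GL (Fin 3) F) ^ 2 = 1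
      rw [← hseq]
      by_contra hne
      obtain ⟨l, hl⟩ := hfix g
      have h0 := congrFun hl 0
      have h1 := congrFun hl 1
      have h2 := congrFun hl 2
      simp [ap, vec3, hv, TM, mul3] at h0 h1 h2
      have hlc : l = c := (h2.resolve_right hv2).symm
      rw [hlc] at h0 h1
      have hs1 : (1 : F) - s ≠ 0 := sub_ne_zero.mpr fun e => hne (by rw [← e, one_pow])
      have hs2 : (1 : F) - s * s ≠ 0 := sub_ne_zero.mpr fun e => hne (by rw [pow_two, ← e])
      have k1 : (1 - s) * v 1 = u * v 2 :=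
        mul_left_cancel₀ hc (by linear_combination -h1)
      set t := u / (1 - s)
      refine hQc (Or.inr ⟨t, by simp [t, map_div₀, map_sub, hu, hs], ?_⟩)
      have ev1 : v 1 = t * v 2 := by
        simp only [t]; field_simp; linear_combination k1
      have hut : u = (1 - s) * t := by simp only [t]; field_simp
      have ev0 : v 0 = t ^ 2 * v 2 := by
        refine mul_left_cancel₀ (mul_ne_zero hc hs2) ?_
        rw [ev1, hut] at h0
        linear_combination -h0
      have e : v = v 2 • ![t ^ 2, t, 1] := by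
        ext i; fin_cases i <;> simp [ev0, ev1, mul_comm]
      rw [e, pnt_smul hv2]
    rw [← Subgroup.card_mul_index ψ.ker, Subgroup.index_ker]
    exact mul_dvd_mul hker hrange
  -- the torus
  set e := Nat.card (svHom C).range
  have hMx : Nat.card (Mx M) = 3 * p * e := by
    rw [← Subgroup.card_mul_index (svHom C).ker, Subgroup.index_ker, card_ker C hω hs hsv]
  have he1 : (p - 1) ∣ 2 * e := by
    obtain ⟨ι, hι, hreal⟩ := zmod_real C
    obtain ⟨u, hu⟩ := IsCyclic.exists_generator (α := (ZMod p)ˣ)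
    have hord : orderOf u = p - 1 := by
      rw [orderOf_eq_card_of_forall_mem_zpowers hu, Nat.card_eq_fintype_card, ZMod.card_units]
    obtain ⟨h, hh, hhv⟩ := exists_torus C hLM (u := ι u) ((hreal _).mpr ⟨_, rfl⟩)
      (by rw [map_ne_zero]; exact u.ne_zero)
    have hhm : (⟨h, hh⟩ : M) ∈ Mx M := (mem_Mx C).mpr (by refine ⟨?_, ?_, ?_⟩ <;> simp [hhv])
    set x := svHom C ⟨_, hhm⟩
    have hx : (x : F) = ι u ^ 2 := by
      show sv h = _
      simp [sv, hhv]
    have hxe : orderOf x ∣ e := by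
      have := orderOf_dvd_natCard (G := (svHom C).range) ⟨x, ⟨_, rfl⟩⟩
      rw [← orderOf_injective _ (svHom C).range.subtype_injective] at this
      exact this
    have hxo : orderOf x = orderOf (u ^ 2) := by
      rw [← orderOf_units, hx, ← map_pow, ← Units.val_pow_eq_pow_val]
      exact (orderOf_injective (f := (ι : ZMod p →* F)) hι _).trans (orderOf_units ..)
    rw [hxo, orderOf_pow' _ (by norm_num), hord] at hxe
    have hev : 2 ∣ p - 1 := by
      rcases C.prime.eq_two_or_odd with h | h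
      · have := C.ge; omega
      · omega
    rw [Nat.gcd_eq_right hev] at hxe
    have := Nat.mul_dvd_mul_left 2 hxe
    rwa [Nat.mul_div_cancel' hev] at this
  have hXd : p * e ∣ 2 * (j * (p + 1)) := by
    have h := card_dvd_mul_of_stab (G := Mx M) 6 hstab
    rw [hMx, hX] at h
    refine Nat.dvd_of_mul_dvd_mul_left (by norm_num : 0 < 3) ?_
    rw [← mul_assoc, ← mul_assoc, show (3 : ℕ) * 2 = 6 by rfl]
    exact h
  have hMd : (p + 1) * (1 + j) * (3 * p * e) ∣ p ^ 3 * (p ^ 3 + 1) * (p ^ 2 - 1) := by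
    rw [← hMx, ← hj, ← index_Mx C hLM, Subgroup.index_mul_card]
    exact hdiv
  have hn := orbit_arith C.prime C.ge C.mod
    (Nat.pos_of_ne_zero fun h0 => hSne (hj.trans (by rw [h0]))) (by rw [mul_comm, ← hj, ← hO]; exact hObd) he1 hXd hMd
  exact not_all C hLM hcard (hOall (by rw [hO, hj, mul_comm]; exact hn))

end Cfsg.Agent.SU3Geo98.C6
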