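import Cfsg.Agent.SU3Geo98.C6.Pair

/-!
Class six of S5777 (helper98): the torus of odd order. Transfer removes its primes until an element
inverts it; a trivial torus would give `p` commuting involutions.
-/

set_option autoImplicit false
set_option linter.unusedSectionVars false

namespace Cfsg.Agent.SU3Geo98.C6

open Matrix
open SL3Geo34 (IsTransvec)
open SL3Geo32.Regular (TM TG TG_coe TG_mul TM_zero)

variable {F : Type*} [Field F] [Fintype F]
variable {σ : F ≃+* F} {p : ℕ} {M : Subgroup (GL (Fin 3) F)}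

theorem TG_zero' : TG (0 : F) = 1 := Units.ext (by simp [TM_zero])

/-- An element commuting with a non-trivial root element, or conjugating one to one, fixes the
first point. -/
theorem col_of_conj {u v : F} (hv : v ≠ 0) (h2 : (2 : F) ≠ 0) {g : GL (Fin 3) F}
    (h : g * TG u = TG v * g) : g.1 1 0 = 0 ∧ g.1 2 0 = 0 := by
  have e1 := congrArg (fun x : GL (Fin 3) F => x.1 1 0) h
  have e2 := congrArg (fun x : GL (Fin 3) F => x.1 0 0) h
  simp [TM, mul3] at e1 e2
  have h20 : g.1 2 0 = 0 := e1.resolve_left hv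
  rw [h20, mul_zero, add_zero] at e2
  refine ⟨?_, h20⟩
  first
    | exact (mul_eq_zero.mp (show (2 * v) * g.1 1 0 = 0 by linear_combination e2)).resolve_left
        (mul_ne_zero h2 hv)
    | simpa [h2, hv] using e2

variable (C : Ctx σ p M)
include C

/-- An idempotent of trace zero vanishes. -/
theorem idem_zero {E : Matrix (Fin 3) (Fin 3) F} (hE : E * E = E) (ht : E.trace = 0) : E = 0 := by
  have := C.char
  have hf : ∀ x, Matrix.toLin' E (Matrix.toLin' E x) = Matrix.toLin' E x := fun x => by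
    simp only [Matrix.toLin'_apply, mulVec_mulVec, hE]
  have hp : LinearMap.IsProj (LinearMap.range (Matrix.toLin' E)) (Matrix.toLin' E) :=
    ⟨fun x => LinearMap.mem_range_self _ x, by rintro _ ⟨x, rfl⟩; exact hf x⟩
  have h := hp.trace
  rw [Matrix.trace_toLin'_eq, ht, eq_comm, CharP.cast_eq_zero_iff F p] at h
  have hle : Module.finrank F (LinearMap.range (Matrix.toLin' E)) ≤ 3 :=
    (Submodule.finrank_le _).trans (by simp)
  have h0 : Module.finrank F (LinearMap.range (Matrix.toLin' E)) = 0 := by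
    have := C.ge
    rcases Nat.eq_zero_or_pos (Module.finrank F (LinearMap.range (Matrix.toLin' E))) with h' | h'
    · exact h'
    · have := Nat.le_of_dvd h' h
      omega
  have hz : Matrix.toLin' E = 0 := LinearMap.range_eq_bot.mp (Submodule.finrank_eq_zero.mp h0)
  simpa using hz

/-- A non-trivial involution has trace `-1`. -/
theorem trace_invol {g : GL (Fin 3) F} (hg : g ∈ M) (hg2 : g * g = 1) (hg1 : g ≠ 1) :
    (g : Matrix (Fin 3) (Fin 3) F).trace = -1 := by
  set A := (g : Matrix (Fin 3) (Fin 3) F)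
  have hA : A * A = 1 := by rw [← Units.val_mul, hg2, Units.val_one]
  have hd : A.det = 1 := C.det g hg
  have hadj : A.adjugate = A := by
    calc A.adjugate = (A * A) * A.adjugate := by rw [hA, one_mul]
      _ = A := by rw [mul_assoc, Matrix.mul_adjugate, hd, one_smul, mul_one]
  have key : 2 * A.adjugate.trace = A.trace ^ 2 - (A * A).trace := by
    simp [Matrix.adjugate_fin_three, Matrix.trace_fin_three, mul3]
    ring
  rw [hadj, hA, Matrix.trace_one, Fintype.card_fin] at key
  push_cast at key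
  rcases mul_eq_zero.mp (show (A.trace - 3) * (A.trace + 1) = 0 by linear_combination -key) with h | h
  · exfalso
    have h2 := two C
    set E := (2 : F)⁻¹ • ((1 : Matrix (Fin 3) (Fin 3) F) - A)
    have hE : E * E = E := by
      simp only [E, Matrix.smul_mul, Matrix.mul_smul, smul_smul, Matrix.mul_sub, Matrix.sub_mul, hA,
        Matrix.one_mul, Matrix.mul_one]
      match_scalars <;> field_simp <;> ring
    have hE0 := idem_zero C hE (by
      simp only [E, Matrix.trace_smul, Matrix.trace_sub, Matrix.trace_one, Fintype.card_fin, smul_eq_mul]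
      push_cast
      linear_combination (-(2 : F)⁻¹) * h)
    refine hg1 (Units.ext ?_)
    rw [smul_eq_zero, or_iff_right (inv_ne_zero h2)] at hE0
    exact (sub_eq_zero.mp hE0).symm
  · exact eq_neg_of_add_eq_zero_left h

/-- A `p`-element of the kernel is a root element. -/
theorem TG_of_kernel {g : GL (Fin 3) F} (hg : g ∈ M) (hu : Up g) (hs : sv g = 1) {k : ℕ}
    (hk : g ^ p ^ k = 1) : ∃ u, σ u = u ∧ g = TG u := by
  obtain ⟨u, r, hu', hr, hv⟩ := kernel_form C hg hu hs
  refine ⟨u, hu', Units.ext ?_⟩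
  have hT : ∀ n : ℕ, (TM u ^ n : Matrix (Fin 3) (Fin 3) F) 0 0 = 1 := by
    intro n
    induction n with
    | zero => simp
    | succ n ih =>
      rw [pow_succ, mul3, ih]
      simp [TM]
  have e := congrArg (fun x : GL (Fin 3) F => x.1 0 0) hk
  simp [hv, _root_.smul_pow, hT] at e
  have h3 : orderOf r ∣ 3 := orderOf_dvd_of_pow_eq_one hr
  have hp' : orderOf r ∣ p ^ k := orderOf_dvd_of_pow_eq_one e
  have hc : Nat.Coprime 3 (p ^ k) := by
    refine Nat.Coprime.pow_right _ ((Nat.coprime_primes Nat.prime_three C.prime).mpr ?_)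
    have := C.ge
    omega
  have hr1 : r = 1 := orderOf_eq_one_iff.mp (Nat.eq_one_of_dvd_coprimes hc h3 hp')
  rw [hv, hr1, one_smul, TG_coe]

omit C in
theorem TG_ne_one {h : GL (Fin 3) F} {u : F} (hu : h = TG u) (hne : h ≠ 1) : u ≠ 0 :=
  fun e => hne (by rw [hu, e, TG_zero'])

/-- An involution commutes with no root element. -/
theorem invol_comm {i : GL (Fin 3) F} (hi : i ∈ M) (hi2 : i * i = 1) (hi1 : i ≠ 1)
    (hall : ∀ g ∈ M, Up g → sv g = 1) {u : F} (hu : u ≠ 0) (h : i * TG u = TG u * i) : False := by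
  obtain ⟨h10, h20⟩ := col_of_conj hu (two C) h
  have hup := up_of_fix C hi h10 h20
  obtain ⟨v, r, -, hr, hv⟩ := kernel_form C hi hup (hall i hi hup)
  have e := congrArg (fun x : GL (Fin 3) F => x.1 0 0) hi2
  have e' := congrArg (fun x : GL (Fin 3) F => x.1 1 2) hi2
  simp [hv, TM, mul3] at e e'
  have hr1 : r = 1 := by linear_combination hr - r * e
  subst hr1
  have hv0 : v = 0 := (mul_eq_zero.mp (show (2 : F) * v = 0 by linear_combination e')).resolve_left
    (two C)
  exact hi1 (Units.ext (by rw [hv, hv0, one_smul, TM_zero, Units.val_one]))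

/-- With a trivial torus there is no involution. -/
theorem false_of_trivial (hall : ∀ g ∈ M, Up g → sv g = 1) {z : GL (Fin 3) F} (hz : z ∈ M)
    (hz2 : z * z = 1) (hz1 : z ≠ 1) : False := by
  classical
  have := Fact.mk C.prime
  have := Fact.mk Nat.prime_two
  have h2 := two C
  set x₁ : M := ⟨TG 1, C.tg⟩
  have hx1 : x₁ ^ p = 1 := Subtype.ext <| Units.ext (by
    have hT : ∀ n : ℕ, TG (1 : F) ^ n = TG (n : F) := by
      intro n
      induction n with
      | zero => simp [TG_zero']
      | succ n ih => rw [pow_succ, ih, TG_mul, Nat.cast_succ]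
    simp only [SubmonoidClass.coe_pow, x₁, hT, natCast_p C, TG_zero', OneMemClass.coe_one])
  have hx1' : x₁ ≠ 1 := fun e => by
    have := congrArg (fun y : M => (y : GL (Fin 3) F).1 1 2) e
    simp [x₁, TM] at this
  have hord : orderOf x₁ = p := orderOf_eq_prime hx1 hx1'
  obtain ⟨P, hP⟩ := (IsPGroup.of_card (p := p) (n := 1)
    (by rw [Nat.card_zpowers, hord, pow_one]) : IsPGroup p (Subgroup.zpowers x₁)).exists_le_sylow
  have hxP : x₁ ∈ (P : Subgroup M) := hP (Subgroup.mem_zpowers x₁)
  have hpow : ∀ g ∈ (P : Subgroup M), ∃ k, (g : GL (Fin 3) F) ^ p ^ k = 1 := fun g hg => by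
    obtain ⟨k, hk⟩ := P.2 ⟨g, hg⟩
    exact ⟨k, by simpa using congrArg (fun y : P => ((y : M) : GL (Fin 3) F)) hk⟩
  have hPT : ∀ g ∈ (P : Subgroup M), ∃ u, σ u = u ∧ (g : GL (Fin 3) F) = TG u := by
    have : Nontrivial P := ⟨⟨⟨x₁, hxP⟩, 1, fun e => hx1' (congrArg Subtype.val e)⟩⟩
    obtain ⟨c, hc⟩ : ∃ c : Subgroup.center P, c ≠ 1 := by
      have := P.2.center_nontrivial
      exact exists_ne 1
    have hc' : ∀ g : P, g * (c : P) = (c : P) * g := fun g => Subgroup.mem_center_iff.mp c.2 g
    have hcM : ((c : P) : M).1 ∈ M := ((c : P) : M).2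
    have e := congrArg (fun y : P => ((y : M) : GL (Fin 3) F)) (hc' ⟨x₁, hxP⟩).symm
    obtain ⟨c10, c20⟩ := col_of_conj (u := (1 : F)) (v := 1) one_ne_zero h2
      (g := ((c : P) : M).1) (by simpa [x₁] using e)
    have hcu := up_of_fix C hcM c10 c20
    obtain ⟨k, hk⟩ := hpow _ (c : P).2
    obtain ⟨u, hu, hcv⟩ := TG_of_kernel C hcM hcu (hall _ hcM hcu) hk
    have hu0 : u ≠ 0 := TG_ne_one hcv fun e' => hc
      (Subtype.ext (Subtype.ext (Subtype.ext e')))
    intro g hg
    have eg := congrArg (fun y : P => ((y : M) : GL (Fin 3) F)) (hc' ⟨g, hg⟩)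
    obtain ⟨g10, g20⟩ := col_of_conj hu0 h2 (g := (g : GL (Fin 3) F)) (by
      simpa [hcv] using eg)
    have hgu := up_of_fix C g.2 g10 g20
    obtain ⟨k', hk'⟩ := hpow g hg
    exact TG_of_kernel C g.2 hgu (hall _ g.2 hgu) hk'
  have hNC : Subgroup.normalizer ((P : Subgroup M) : Set M) ≤
      Subgroup.centralizer ((P : Subgroup M) : Set M) := by
    intro n hn
    rw [Subgroup.mem_centralizer_iff]
    intro g hg
    have hn1 : n * x₁ * n⁻¹ ∈ (P : Subgroup M) := (Subgroup.mem_normalizer_iff.mp hn x₁).mp hxP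
    obtain ⟨u, -, hu⟩ := hPT _ hn1
    have hu0 : u ≠ 0 := TG_ne_one hu fun e => hx1' (by
      have e1 : n * x₁ * n⁻¹ = 1 := Subtype.ext e
      simpa using e1)
    obtain ⟨n10, n20⟩ := col_of_conj (u := (1 : F)) hu0 h2 (g := (n : GL (Fin 3) F)) (by
      rw [← hu]; simp [x₁, mul_assoc])
    have hnu := up_of_fix C n.2 n10 n20
    obtain ⟨v, r, -, -, hv⟩ := kernel_form C n.2 hnu (hall _ n.2 hnu)
    obtain ⟨w, -, hw⟩ := hPT g hg
    refine Subtype.ext (Units.ext ?_)
    simp only [Subgroup.coe_mul, Units.val_mul, hw, TG_coe, hv, Matrix.mul_smul, Matrix.smul_mul,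
      SL3Geo32.Regular.TM_mul, add_comm]
  set φ := MonoidHom.transferSylow P hNC
  set K := φ.ker
  have hzK : (⟨z, hz⟩ : M) ∈ K := by
    rw [MonoidHom.mem_ker]
    set y := φ ⟨z, hz⟩ with hy
    have hy2 : y * y = 1 := by
      rw [hy, ← map_mul, show (⟨z, hz⟩ : M) * ⟨z, hz⟩ = 1 from Subtype.ext hz2, map_one]
    obtain ⟨u, -, hu⟩ := hPT _ y.2
    have e := congrArg (fun y : P => (((y : M) : GL (Fin 3) F) : Matrix (Fin 3) (Fin 3) F) 1 2) hy2
    simp [hu, TM, mul3] at e
    have hu0 : u = 0 := (mul_eq_zero.mp (show (2 : F) * u = 0 by linear_combination e)).resolve_left h2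
    exact Subtype.ext (Subtype.ext (by rw [hu, hu0, TG_zero']; rfl))
  obtain ⟨S⟩ := (inferInstance : Nonempty (Sylow 2 K))
  have hS2 : 2 ∣ Nat.card S := by
    refine S.dvd_card_of_dvd_card ?_
    have ho : orderOf (⟨⟨z, hz⟩, hzK⟩ : K) = 2 := orderOf_eq_prime
      (by rw [pow_two]; exact Subtype.ext (Subtype.ext hz2))
      fun e => hz1 (congrArg (fun y : K => ((y : M) : GL (Fin 3) F)) e)
    exact ho ▸ orderOf_dvd_natCard _
  have : Nontrivial S := Finite.one_lt_card_iff_nontrivial.mp
    (lt_of_lt_of_le (by norm_num : 1 < 2) (Nat.le_of_dvd Nat.card_pos hS2))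
  obtain ⟨i, hi⟩ : ∃ i : Subgroup.center S, orderOf i = 2 := by
    have := S.2.center_nontrivial
    refine exists_prime_orderOf_dvd_card' 2 ?_
    obtain ⟨n, hn⟩ := (S.2.to_subgroup (Subgroup.center S)).exists_card_eq
    rw [hn]
    rcases n with _ | n
    · have := Finite.one_lt_card (α := Subgroup.center S)
      omega
    · exact dvd_pow_self 2 (by omega)
  -- a `p`-element normalising `S`
  set SK := ((S : Subgroup K).map K.subtype) with hSK
  obtain ⟨x, hxN, hxo⟩ : ∃ x ∈ Subgroup.normalizer (SK : Set M), orderOf x = p := by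
    have htop := Sylow.normalizer_sup_eq_top S
    obtain ⟨n, hn, hφn⟩ : ∃ n ∈ Subgroup.normalizer (SK : Set M), φ n ≠ 1 := by
      by_contra hcon
      simp only [not_exists, not_and, not_not] at hcon
      have hK : (⊤ : Subgroup M) ≤ K := htop ▸ sup_le (fun n hn => hcon n hn) le_rfl
      exact hx1' (Subgroup.disjoint_def.mp (MonoidHom.ker_transferSylow_disjoint P hNC
        (P : Subgroup M) P.2) (hK (Subgroup.mem_top x₁)) hxP)
    have hdvd : p ∣ orderOf n := by
      obtain ⟨k, hk⟩ := P.2 (φ n)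
      have h1 := orderOf_dvd_of_pow_eq_one hk
      obtain ⟨j, -, hj⟩ := (Nat.dvd_prime_pow C.prime).mp h1
      rcases j with _ | j
      · exact absurd (orderOf_eq_one_iff.mp (by simpa using hj)) hφn
      · exact (hj ▸ dvd_pow_self p (Nat.succ_ne_zero j) : p ∣ orderOf (φ n)).trans
          (orderOf_map_dvd φ n)
    refine ⟨n ^ (orderOf n / p), pow_mem hn _, ?_⟩
    rw [orderOf_pow_of_dvd (by
      have := orderOf_pos n
      exact (Nat.div_pos (Nat.le_of_dvd this hdvd) C.prime.pos).ne') (Nat.div_dvd_of_dvd hdvd),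
      Nat.div_div_self hdvd (orderOf_pos n).ne']
  set i₀ : M := (((i : S) : K) : M)
  have hi₀2 : i₀ * i₀ = 1 := by
    have h := pow_orderOf_eq_one i
    rw [hi, pow_two] at h
    exact congrArg (fun y : Subgroup.center S => (((y : S) : K) : M)) h
  have hi₀1 : i₀ ≠ 1 := fun e => by
    have h1 : i = 1 := Subtype.ext (Subtype.ext (Subtype.ext e))
    rw [h1, orderOf_one] at hi
    exact absurd hi (by norm_num)
  have hiS : i₀ ∈ SK := ⟨((i : S) : K), (i : S).2, rfl⟩
  have hconj : ∀ n : ℕ, x ^ n * i₀ * (x ^ n)⁻¹ ∈ SK := fun n =>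
    (Subgroup.mem_normalizer_iff.mp (pow_mem hxN n) i₀).mp hiS
  have hcent : ∀ y ∈ SK, i₀ * y = y * i₀ := by
    rintro _ ⟨y, hy, rfl⟩
    have h := congrArg (fun s : S => ((s : K) : M)) (Subgroup.mem_center_iff.mp i.2 ⟨y, hy⟩)
    exact h.symm
  -- no power of `x` commutes with it
  have hfree : ∀ n : ℕ, ¬ p ∣ n → x ^ n * i₀ * (x ^ n)⁻¹ ≠ i₀ := by
    intro n hn e
    have hc : Commute (x ^ n) i₀ := mul_inv_eq_iff_eq_mul.mp e
    obtain ⟨m, hm⟩ : ∃ m : ℕ, n * m % p = 1 := by
      obtain ⟨m, -, hm⟩ := Nat.exists_mul_mod_eq_one_of_coprime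
        ((C.prime.coprime_iff_not_dvd.mpr hn).symm) C.prime.one_lt
      exact ⟨m, hm⟩
    have hcx : Commute x i₀ := by
      have h := hc.pow_left m
      rwa [← pow_mul, ← pow_mod_orderOf, hxo, hm, pow_one] at h
    obtain ⟨Q, hQ⟩ := (IsPGroup.of_card (p := p) (n := 1)
      (by rw [Nat.card_zpowers, hxo, pow_one]) : IsPGroup p (Subgroup.zpowers x)).exists_le_sylow
    obtain ⟨m', hm'⟩ := MulAction.exists_smul_eq M Q P
    have hxQ : MulAut.conj m' x ∈ (P : Subgroup M) := by
      rw [← hm']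
      exact Subgroup.smul_mem_pointwise_smul x (MulAut.conj m') Q (hQ (Subgroup.mem_zpowers x))
    obtain ⟨u, -, hu⟩ := hPT _ hxQ
    have hu0 : u ≠ 0 := TG_ne_one hu fun e' => by
      have e1 : MulAut.conj m' x = 1 := Subtype.ext e'
      rw [map_eq_one_iff _ (MulAut.conj m').injective] at e1
      rw [e1, orderOf_one] at hxo
      exact absurd hxo.symm C.prime.one_lt.ne'
    have hc' := hcx.map (MulAut.conj m').toMonoidHom
    refine invol_comm C (i := (MulAut.conj m' i₀ : M).1) (MulAut.conj m' i₀).2 ?_ ?_ hall hu0 ?_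
    · rw [← Subgroup.coe_mul, ← map_mul, hi₀2, map_one]; rfl
    · intro e'
      exact hi₀1 ((map_eq_one_iff _ (MulAut.conj m').injective).mp (Subtype.ext e'))
    · rw [← hu]
      exact (congrArg Subtype.val hc'.eq).symm
  -- orthogonal idempotents
  let I : ℕ → M := fun n => x ^ n * i₀ * (x ^ n)⁻¹
  have hI2 : ∀ n, I n * I n = 1 := fun n => by
    calc I n * I n = x ^ n * (i₀ * i₀) * (x ^ n)⁻¹ := by simp only [I]; group
      _ = 1 := by rw [hi₀2]; group
  have hI1 : ∀ n, I n ≠ 1 := fun n e => hi₀1 (by simpa [I] using e)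
  have hpair : ∀ a b, a < b → b < p → I a * I b = I b * I a ∧ I a * I b ≠ 1 := by
    intro a b hab hb
    obtain ⟨d, rfl⟩ : ∃ d, b = a + d := ⟨b - a, by omega⟩
    have e : I (a + d) = x ^ a * I d * (x ^ a)⁻¹ := by simp only [I, pow_add]; group
    have hcd : i₀ * I d = I d * i₀ := hcent _ (hconj d)
    refine ⟨?_, fun h => ?_⟩
    · calc I a * I (a + d) = x ^ a * (i₀ * I d) * (x ^ a)⁻¹ := by rw [e]; simp only [I]; group
        _ = x ^ a * (I d * i₀) * (x ^ a)⁻¹ := by rw [hcd]
        _ = I (a + d) * I a := by rw [e]; simp only [I]; group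
    · have h' : x ^ a * (i₀ * I d) * (x ^ a)⁻¹ = 1 := by
        rw [← h, e]; simp only [I]; group
      have h'' : i₀ * I d = 1 := by simpa using h'
      refine hfree d (fun hd => by have := Nat.le_of_dvd (by omega) hd; omega) ?_
      calc x ^ d * i₀ * (x ^ d)⁻¹ = i₀ * i₀ * I d := by rw [hi₀2, one_mul]
        _ = i₀ := by rw [mul_assoc, h'', mul_one]
  let A : ℕ → Matrix (Fin 3) (Fin 3) F := fun n => ((I n : M) : GL (Fin 3) F).1
  let E : ℕ → Matrix (Fin 3) (Fin 3) F := fun n => (2 : F)⁻¹ • (1 + A n)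
  have hAA : ∀ n, A n * A n = 1 := fun n => by
    simp only [A, ← Units.val_mul, ← Subgroup.coe_mul, hI2]; rfl
  have hAt : ∀ n, (A n).trace = -1 := fun n => trace_invol C (I n).2
    (congrArg Subtype.val (hI2 n)) fun e => hI1 n (Subtype.ext e)
  have hEE : ∀ n, E n * E n = E n := fun n => by
    simp only [E, Matrix.smul_mul, Matrix.mul_smul, smul_smul, Matrix.mul_add, Matrix.add_mul, hAA,
      Matrix.one_mul, Matrix.mul_one]
    match_scalars <;> field_simp <;> ring
  have hEt : ∀ n, (E n).trace = 1 := fun n => by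
    simp only [E, Matrix.trace_smul, Matrix.trace_add, Matrix.trace_one, Fintype.card_fin, hAt,
      smul_eq_mul]
    field_simp
    norm_num
  have hAc : ∀ a b, a < p → b < p → A a * A b = A b * A a := by
    intro a b ha hb
    simp only [A, ← Units.val_mul, ← Subgroup.coe_mul]
    rcases lt_trichotomy a b with h | rfl | h
    · rw [(hpair a b h hb).1]
    · rfl
    · rw [(hpair b a h ha).1]
  have horth : ∀ a b, a < p → b < p → a ≠ b → E a * E b = 0 := by
    intro a b ha hb hne
    have hab : I a * I b ≠ 1 := by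
      rcases lt_or_gt_of_ne hne with h | h
      · exact (hpair a b h hb).2
      · rw [← (hpair b a h ha).1]; exact (hpair b a h ha).2
    have hsq : (I a * I b) * (I a * I b) = 1 := by
      have hc : I a * I b = I b * I a := by
        rcases lt_or_gt_of_ne hne with h | h
        · exact (hpair a b h hb).1
        · exact ((hpair b a h ha).1).symm
      calc I a * I b * (I a * I b) = I a * I b * (I b * I a) := by rw [← hc]
        _ = I a * (I b * I b) * I a := by group
        _ = 1 := by rw [hI2, mul_one, hI2]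
    have ht : (A a * A b).trace = -1 := trace_invol C (I a * I b).2
      (congrArg Subtype.val hsq) fun e => hab (Subtype.ext e)
    refine idem_zero C ?_ ?_
    · have hc : E a * E b = E b * E a := by
        simp only [E, Matrix.smul_mul, Matrix.mul_smul, Matrix.mul_add, Matrix.add_mul, hAc a b ha hb,
          Matrix.one_mul, Matrix.mul_one]
        match_scalars <;> ring
      calc E a * E b * (E a * E b) = E a * E b * (E b * E a) := by rw [← hc]
        _ = E a * (E b * E b) * E a := by noncomm_ring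
        _ = E a * E b * E a := by rw [hEE]
        _ = E a * (E a * E b) := by rw [mul_assoc, ← hc]
        _ = E a * E b := by rw [← mul_assoc, hEE]
    · simp only [E, Matrix.smul_mul, Matrix.mul_smul, Matrix.mul_add, Matrix.add_mul, Matrix.one_mul,
        Matrix.mul_one, Matrix.trace_smul, Matrix.trace_add, Matrix.trace_one, Fintype.card_fin, hAt,
        ht, smul_eq_mul]
      push_cast
      ring
  set T := ∑ n ∈ Finset.range p, E n with hT
  have hTE : ∀ n, n < p → T * E n = E n := fun n hn => by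
    rw [hT, Finset.sum_mul, Finset.sum_eq_single n (fun m hm hne => horth m n (Finset.mem_range.mp hm)
      hn hne) (fun h => absurd (Finset.mem_range.mpr hn) h), hEE]
  have hTT : T * T = T := by
    conv_lhs => arg 2; rw [hT]
    rw [Finset.mul_sum]
    exact Finset.sum_congr rfl fun n hn => hTE n (Finset.mem_range.mp hn)
  have hTt : T.trace = 0 := by
    rw [hT, Matrix.trace_sum, Finset.sum_congr rfl fun n _ => hEt n, Finset.sum_const,
      Finset.card_range, nsmul_one, natCast_p C]
  have h0 := hTE 0 C.prime.pos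
  rw [idem_zero C hTT hTt, zero_mul] at h0
  have h0' := congrArg Matrix.trace h0
  rw [Matrix.trace_zero, hEt] at h0'
  exact zero_ne_one h0'

/-- The odd case. -/
theorem good_odd (hodd : ∀ g ∈ M, Up g → sv g ≠ -1) {z : GL (Fin 3) F} (hz : z ∈ M)
    (hz2 : z * z = 1) (hz1 : z ≠ 1) : Good σ M := by
  induction hn : Nat.card M using Nat.strong_induction_on generalizing M z with
  | _ n ih =>
    classical
    by_cases hall : ∀ g ∈ M, Up g → sv g = 1
    · exact (false_of_trivial C hall hz hz2 hz1).elim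
    simp only [not_forall] at hall
    obtain ⟨g, hg, hgu, hgs⟩ := hall
    obtain ⟨u, h, -, rfl, hh, hhu, hsv, h01, h12⟩ := up_normal C hg hgu
    have hs1 : sv h ≠ 1 := fun e => hgs (hsv.symm.trans e)
    obtain ⟨hβ, hα, hsσ, hs0, -, -⟩ := conj_TG C hh hhu
    obtain ⟨-, -, -, -, hb⟩ := up_diag C hh hhu
    obtain ⟨n0, n1, n2⟩ := up_ne C hh hhu
    rw [h12, map_zero, mul_zero] at hb
    have hs2 : sv h * sv h ≠ 1 := fun e => (mul_self_eq_one_iff.mp e).elim hs1 (hodd h hh hhu)
    set s := sv h with hsdef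
    set w := h.1 0 2 / ((s * s - 1) * h.1 2 2) with hw
    have hw' : w + σ w = 0 := by
      have h1 : σ (h.1 2 2) ≠ 0 := (map_ne_zero σ).mpr n2
      have h2 : s * s - 1 ≠ 0 := sub_ne_zero.mpr hs2
      have h2' : s ^ 2 - 1 ≠ 0 := by rwa [pow_two]
      rw [hw, map_div₀, map_mul, map_sub, map_mul, map_one, hsσ]
      field_simp
      linear_combination -hb
    refine good_of_conj (adm_W hw') ?_
    set M' := M.map (cj (W w)) with hM'
    have C' : Ctx σ p M' := C.conj (adm_W hw')
    set H := cj (W w) h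
    have hH : H ∈ M' := Subgroup.mem_map_of_mem _ hh
    have hHv : H.1 = WMm w * h.1 * WMm (-w) := by
      show (cj (W w) h).1 = _
      rw [cj_apply]; rfl
    have hHd : Dg H := by
      obtain ⟨p10, p20, p21⟩ := hhu
      refine ⟨?_, ?_, ?_, ?_, ?_, ?_⟩ <;>
        simp [hHv, mul3, WMm, Matrix.vecMul, dotProduct, Fin.sum_univ_three, h01, h12, p10, p20, p21]
      rw [hw, hα, hβ]
      have h2 : s * s - 1 ≠ 0 := sub_ne_zero.mpr hs2
      have h2' : s ^ 2 - 1 ≠ 0 := by rwa [pow_two]
      field_simp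
      ring
    have hodd' : ∀ g ∈ M', Up g → sv g ≠ -1 := by
      rintro _ ⟨g, hg, rfl⟩ hu' he
      obtain ⟨a1, a2, a3, a4⟩ := up_W w
      have e : g = (W w)⁻¹ * cj (W w) g * W w := by simp [cj_apply, mul_assoc]
      refine hodd g hg (e ▸ (up_mul (up_mul a3 hu').1 a1).1) ?_
      rw [e, sv_mul (up_mul a3 hu').1 a1, sv_mul a3 hu', a2, a4, he, one_mul, mul_one]
    have hHu : Up H := dg_up hHd
    have hHs : sv H = s := (sv_cj_W w hhu).2
    -- a prime of the torus
    obtain ⟨r, hr, hrs⟩ := Nat.exists_prime_and_dvd (n := orderOf s)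
      (fun e => hs1 (orderOf_eq_one_iff.mp e))
    have hsp : s ^ (p - 1) = 1 := sv_pow_eq_one C hh hhu
    have hp11 := C.ge
    have hsfin : 0 < orderOf s :=
      orderOf_pos_iff.mpr (isOfFinOrder_iff_pow_eq_one.mpr ⟨p - 1, by omega, hsp⟩)
    have hr2 : r ≠ 2 := by
      rintro rfl
      obtain ⟨m, hm⟩ := hrs
      have h1 : s ^ m * s ^ m = 1 := by rw [← pow_add, ← two_mul, ← hm, pow_orderOf_eq_one]
      rcases mul_self_eq_one_iff.mp h1 with e | e
      · have := Nat.le_of_dvd (by omega) (orderOf_dvd_of_pow_eq_one e)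
        omega
      · exact hodd' (H ^ m) (pow_mem hH m) (sv_pow hHu m).1 (by rw [(sv_pow hHu m).2, hHs, e])
    have hrp : r ≠ p := by
      rintro rfl
      have := Nat.le_of_dvd (by omega) (hrs.trans (orderOf_dvd_of_pow_eq_one hsp))
      omega
    set N := orderOf (⟨H, hH⟩ : M')
    have hN : 0 < N := orderOf_pos _
    obtain ⟨a, m, hrm, hNe⟩ := Nat.exists_eq_pow_mul_and_not_dvd hN.ne' r hr.ne_one
    set τ : M' := ⟨H, hH⟩ ^ m
    have hτr : τ ^ r ^ a = 1 := by rw [← pow_mul, mul_comm, ← hNe]; exact pow_orderOf_eq_one _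
    have hτd : Dg (τ : GL (Fin 3) F) := by simp [τ, dg_pow hHd]
    have hτs : sv (τ : GL (Fin 3) F) = s ^ m := by simp [τ, (sv_pow hHu m).2, hHs]
    have hsm : s ^ m ≠ 1 := fun e => hrm (hrs.trans (orderOf_dvd_of_pow_eq_one e))
    have hτne : (τ.1).1 0 0 ≠ (τ.1).1 1 1 ∧ (τ.1).1 0 0 ≠ (τ.1).1 2 2 ∧
        (τ.1).1 1 1 ≠ (τ.1).1 2 2 := by
      obtain ⟨tβ, tα, -, -, -, -⟩ := conj_TG C' τ.2 (dg_up hτd)
      obtain ⟨t0, t1, t2⟩ := up_ne C' τ.2 (dg_up hτd)
      rw [hτs] at tβ tα
      have hne' : s ^ m * s ^ m ≠ 1 := fun e => by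
        rcases mul_self_eq_one_iff.mp e with e | e
        · exact hsm e
        · exact hodd' _ τ.2 (dg_up hτd) (hτs.trans e)
      refine ⟨fun e => hsm ?_, fun e => hne' ?_, fun e => hsm ?_⟩
      · exact mul_right_cancel₀ t1 (by rw [one_mul, ← tα, e])
      · exact mul_right_cancel₀ t2 (by rw [one_mul, mul_assoc, ← tβ, ← tα, e])
      · exact mul_right_cancel₀ t2 (by rw [one_mul, ← tβ, e])
    by_cases hswap : ∃ g ∈ M', Swap g
    · obtain ⟨g, hg', hgs⟩ := hswap
      refine ⟨1, adm_one, ?_⟩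
      rw [show cj (1 : GL (Fin 3) F) = MonoidHom.id _ by ext g : 1; simp [cj_apply], Subgroup.map_id]
      obtain ⟨q00, q01, q10, q12, q21, q22⟩ := hgs
      have hsq : Dg (g * g) := by
        refine ⟨?_, ?_, ?_, ?_, ?_, ?_⟩ <;> simp [mul3, q00, q01, q10, q12, q21, q22]
      obtain ⟨cβ, cα, -, -, -, -⟩ := conj_TG C' (mul_mem hg' hg') (dg_up hsq)
      obtain ⟨d0, d1, d2⟩ := up_ne C' (mul_mem hg' hg') (dg_up hsq)
      set c := sv (g * g)
      simp [mul3, q00, q01, q10, q12, q21, q22] at cβ cα d1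
      refine LM_of_swap C' hg' ⟨q00, q01, q10, q12, q21, q22⟩ ?_
      have hc : c * c = 1 := mul_right_cancel₀ (mul_ne_zero d1 d1)
        (by linear_combination -cβ - c * cα)
      rcases mul_self_eq_one_iff.mp hc with e | e
      · rw [cα, e, one_mul]
      · exact absurd e (hodd' _ (mul_mem hg' hg') (dg_up hsq))
    -- transfer
    have := Fact.mk hr
    have hmono : ∀ g : M', ∀ Δ : M', Dg (Δ : GL (Fin 3) F) → g * τ = Δ * g →
        Dg (g : GL (Fin 3) F) := by
      intro g Δ hΔ he
      rcases mono_of_conj C' g.2 hτd hΔ (congrArg Subtype.val he) hτne.1 hτne.2.1 hτne.2.2 with h' | h'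
      · exact h'
      · exact absurd ⟨_, g.2, h'⟩ hswap
    have hpg : IsPGroup r (Subgroup.zpowers τ) := by
      obtain ⟨j, -, hj⟩ := (Nat.dvd_prime_pow hr).mp (orderOf_dvd_of_pow_eq_one hτr)
      exact IsPGroup.of_card (n := j) (by rw [Nat.card_zpowers, hj])
    obtain ⟨R, hR⟩ := hpg.exists_le_sylow
    have hτR : τ ∈ (R : Subgroup M') := hR (Subgroup.mem_zpowers τ)
    have hRd : ∀ g ∈ (R : Subgroup M'), Dg (g : GL (Fin 3) F) := by
      let A : Subgroup R :=
        { carrier := {g | Dg ((g : M') : GL (Fin 3) F)}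
          mul_mem' := fun ha hb => by simpa using dg_mul ha hb
          one_mem' := by simpa using dg_one
          inv_mem' := fun {g} hg => by
            have e : g⁻¹ = g ^ (orderOf g - 1) := inv_eq_of_mul_eq_one_right (by
              rw [← pow_succ', Nat.sub_add_cancel (orderOf_pos g), pow_orderOf_eq_one])
            show Dg (((g⁻¹ : R) : M') : GL (Fin 3) F)
            rw [e]
            simpa using dg_pow hg _ }
      have hAN : Subgroup.normalizer (A : Set R) ≤ A := by
        intro g hg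
        have h1 := (Subgroup.mem_normalizer_iff.mp hg ⟨τ, hτR⟩).mp hτd
        exact hmono _ _ h1 (by simp [mul_assoc])
      have := R.2.isNilpotent
      intro g hg
      have htop : A = ⊤ := by
        by_contra hne
        exact (normalizerCondition_of_isNilpotent A (lt_top_iff_ne_top.mpr hne)).not_ge hAN
      exact (htop ▸ Subgroup.mem_top (⟨g, hg⟩ : R) : _ ∈ A)
    have hNC : Subgroup.normalizer ((R : Subgroup M') : Set M') ≤
        Subgroup.centralizer ((R : Subgroup M') : Set M') := by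
      intro g hg
      have hgd := hmono g _ (hRd _ ((Subgroup.mem_normalizer_iff.mp hg τ).mp hτR)) (by simp [mul_assoc])
      rw [Subgroup.mem_centralizer_iff]
      intro y hy
      exact Subtype.ext (dg_comm (hRd y hy) hgd)
    set φ := MonoidHom.transferSylow R hNC
    have hker : ∀ (y : M') (k : ℕ), y ^ k = 1 → ¬ r ∣ k → y ∈ φ.ker := by
      intro y k hk hrk
      rw [MonoidHom.mem_ker, ← orderOf_eq_one_iff]
      obtain ⟨j, hj⟩ := R.2 (φ y)
      refine Nat.eq_one_of_dvd_coprimes (Nat.Coprime.pow_left j (hr.coprime_iff_not_dvd.mpr hrk))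
        (orderOf_dvd_of_pow_eq_one hj) ((orderOf_map_dvd φ y).trans (orderOf_dvd_of_pow_eq_one hk))
    set K := φ.ker.map M'.subtype with hK
    have hKM : K ≤ M' := Subgroup.map_subtype_le _
    have hT : ∀ n : ℕ, TG (1 : F) ^ n = TG (n : F) := by
      intro n
      induction n with
      | zero => simp [TG_zero']
      | succ n ih => rw [pow_succ, ih, TG_mul, Nat.cast_succ]
    have htgK : TG 1 ∈ K := ⟨⟨TG 1, C'.tg⟩, hker _ p (Subtype.ext (by
      simp [hT, natCast_p C, TG_zero'])) fun e =>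
        hrp ((Nat.prime_dvd_prime_iff_eq hr C.prime).mp e), rfl⟩
    have hzK : cj (W w) z ∈ K := ⟨⟨_, Subgroup.mem_map_of_mem _ hz⟩, hker _ 2 (Subtype.ext (by
      rw [pow_two]; simp only [Subgroup.coe_mul, ← map_mul, hz2, map_one, OneMemClass.coe_one]))
        fun e => hr2 ((Nat.prime_dvd_prime_iff_eq hr Nat.prime_two).mp e), rfl⟩
    have CK : Ctx σ p K :=
      { prime := C.prime, char := C.char, invol := C.invol, real := C.real, ge := C.ge, mod := C.mod
        iso := fun g hg => C'.iso g (hKM hg)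
        det := fun g hg => C'.det g (hKM hg)
        tg := htgK
        no := fun g hg => C'.no g (hKM hg) }
    have hlt : Nat.card K < n := by
      rw [← hn, hK, Subgroup.card_map_of_injective M'.subtype_injective]
      have hτk : τ ∉ φ.ker := fun e => hsm (by
        have e' := Subgroup.disjoint_def.mp (MonoidHom.ker_transferSylow_disjoint R hNC _ R.2) e hτR
        rw [← hτs, e']
        exact up_one.2)
      calc Nat.card φ.ker < Nat.card M' :=
            lt_of_le_of_ne (Subgroup.card_le_card_group _) fun e =>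
              hτk ((Subgroup.eq_top_of_card_eq _ e).symm ▸ Subgroup.mem_top τ)
        _ = Nat.card M := Subgroup.card_map_of_injective (MulAut.conj (W w)).injective
    obtain ⟨k, hk, hm⟩ := ih _ hlt CK (fun g hg => hodd' g (hKM hg)) hzK
      (by rw [← map_mul, hz2, map_one]) (fun e => hz1 ((map_eq_one_iff _ (MulAut.conj (W w)).injective).mp e))
      rfl
    exact ⟨k, hk, Subgroup.map_mono hKM hm⟩

end Cfsg.Agent.SU3Geo98.C6
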