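import Cfsg.Agent.SU3Geo98.C6.Normal
import Cfsg.Agent.SU3Geo98.C6.Odd
import Cfsg.Agent.SU3Geo98.C6.Count
import Cfsg.Agent.MinIndexU3.Global

/-!
Class six of S5777 (helper98): a group without transvections containing the class six data has order
prime to the characteristic.
-/

set_option autoImplicit false
set_option linter.unusedSectionVars false

namespace Cfsg.Agent.SU3Geo98.C6

open Matrix
open Cfsg.Agent.MaxSub (inv_mulVec_mulVec mulVec_inv_mulVec)
open SL3Geo34 (IsTransvec)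

variable {F : Type*} [Field F] [Fintype F] {σ : F ≃+* F} {p : ℕ} {M : Subgroup (GL (Fin 3) F)}

/-- Every real number is a norm. -/
theorem exists_norm' (C : Ctx σ p M) (hcard : Fintype.card F = p ^ 2) {r : F} (hr : σ r = r) :
    ∃ s, s * σ s = r := by
  classical
  by_cases hr0 : r = 0
  · exact ⟨0, by rw [hr0, zero_mul]⟩
  obtain ⟨g, hg⟩ := IsCyclic.exists_generator (α := Fˣ)
  have hord : orderOf g = (p - 1) * (p + 1) := by
    rw [orderOf_eq_card_of_forall_mem_zpowers hg, Nat.card_eq_fintype_card, Fintype.card_units, hcard,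
      mul_comm, ← Nat.sq_sub_sq p 1, one_pow]
  obtain ⟨i, hi⟩ : ∃ i : ℕ, g ^ i = Units.mk0 r hr0 :=
    Submonoid.mem_powers_iff _ _ |>.mp (mem_powers_iff_mem_zpowers.mpr (hg _))
  have h1 : Units.mk0 r hr0 ^ (p - 1) = 1 := by
    refine Units.ext (mul_left_cancel₀ hr0 ?_)
    rw [Units.val_pow_eq_pow_val, Units.val_mk0, ← pow_succ', Nat.sub_add_cancel C.prime.one_le,
      ← frob C hcard, hr, Units.val_one, mul_one]
  rw [← hi, ← pow_mul] at h1
  have hd := orderOf_dvd_of_pow_eq_one h1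
  rw [hord, mul_comm (p - 1)] at hd
  obtain ⟨m, rfl⟩ := Nat.dvd_of_mul_dvd_mul_right (by have := C.ge; omega) hd
  refine ⟨(g : F) ^ m, ?_⟩
  rw [frob C hcard, ← pow_mul, ← pow_add, show m + m * p = (p + 1) * m by ring,
    ← Units.val_pow_eq_pow_val, hi, Units.val_mk0]

/-- The order divides that of the special unitary group. -/
theorem card_dvd (C : Ctx σ p M) (hcard : Fintype.card F = p ^ 2) :
    Nat.card M ∣ p ^ 3 * (p ^ 3 + 1) * (p ^ 2 - 1) := by
  have h2 := two C
  have hhalf : σ ((2 : F)⁻¹) = 2⁻¹ := by rw [map_inv₀, map_ofNat]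
  obtain ⟨s1, hs1⟩ := exists_norm' C hcard hhalf
  obtain ⟨s2, hs2⟩ := exists_norm' C hcard (r := -(2 : F)⁻¹) (by rw [map_neg, hhalf])
  set K : Matrix (Fin 3) (Fin 3) F := !![0, s2, s1; s1, 0, 0; 0, s2, -s1] with hK
  have h1 : s1 ≠ 0 := fun h => by simp [h] at hs1; exact h2 hs1.symm
  have h2' : s2 ≠ 0 := fun h => by simp [h] at hs2; first | exact h2 hs2.symm | exact h2 hs2
  have hdet : K.det ≠ 0 := by
    rw [hK, Matrix.det_fin_three]
    simp [h1, h2']
    ring_nf
    simp [h1, h2', h2]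
  set k : GL (Fin 3) F := GeneralLinearGroup.mkOfDetNeZero K hdet
  have hk : ∀ u v : Fin 3 → F, f0 σ (ap k u) (ap k v) = hermForm 3 F p u v := fun u v => by
    show f0 σ (K *ᵥ u) (K *ᵥ v) = _
    simp only [hermForm, Fin.sum_univ_three, ← frob C hcard]
    simp [f0, vec3, hK]
    linear_combination (2 * u 0 * σ (v 0) + 2 * u 2 * σ (v 2)) * hs1 - 2 * (u 1 * σ (v 1)) * hs2 +
      (u 0 * σ (v 0) + u 1 * σ (v 1) + u 2 * σ (v 2)) * mul_inv_cancel₀ h2
  let φ : M →* SU 3 F p :=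
    { toFun := fun g => ⟨⟨(k⁻¹ * g * k : GL (Fin 3) F).1, by
          rw [Units.val_mul, Units.val_mul, Matrix.det_mul, Matrix.det_mul, C.det g g.2, mul_one,
            ← Matrix.det_mul, Units.inv_mul, Matrix.det_one]⟩, fun u v => by
          show hermForm 3 F p (ap (k⁻¹ * g * k) u) (ap (k⁻¹ * g * k) v) = hermForm 3 F p u v
          rw [← hk, ← hk, ← ap_mul, ← ap_mul,
            show k * (k⁻¹ * (g : GL (Fin 3) F) * k) = (g : GL (Fin 3) F) * k by group, ap_mul, ap_mul,
            C.iso g g.2]⟩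
      map_one' := Subtype.ext (Subtype.ext (by simp))
      map_mul' := fun g h => Subtype.ext (Subtype.ext (by
        show (k⁻¹ * (g * h : M) * k : GL (Fin 3) F).1 = (k⁻¹ * g * k : GL (Fin 3) F).1 * (k⁻¹ * h * k : GL (Fin 3) F).1
        rw [← Units.val_mul, Subgroup.coe_mul]
        congr 1
        group)) }
  have hφ : Function.Injective φ := fun g h e => by
    have e' : (k⁻¹ * g * k : GL (Fin 3) F) = k⁻¹ * h * k :=
      Units.ext (congrArg (fun x : SU 3 F p => x.1.1) e)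
    exact Subtype.ext (mul_left_cancel (mul_right_cancel e'))
  have := Subgroup.card_dvd_of_injective φ hφ
  rwa [MinIndexU3.card_SU_three hcard] at this

/-- The main statement of this directory. -/
theorem not_dvd {f : (Fin 3 → F) → (Fin 3 → F) → F} (hf : Geo.IsUnitaryForm σ f) (hp : p.Prime)
    (hcard : Fintype.card F = p ^ 2) (h3 : p % 3 = 2) (h11 : 11 ≤ p)
    (hMG : M ≤ HermStab.su f) (hno : ∀ g ∈ M, ¬ IsTransvec g) {ω : F} (hω : ω ^ 2 + ω + 1 = 0)
    {a b z : GL (Fin 3) F} (ha : a ∈ M) (hb : b ∈ M) (hz : z ∈ M)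
    (hab : (a * b).1 = ω • (b * a).1) (hz2 : z * z = 1) (hz1 : z ≠ 1)
    (hinv : ∀ t ∈ M, t * t = 1 → t ≠ 1 → ∃ g ∈ M, g * g = 1 ∧ g ≠ 1 ∧ g ≠ t ∧ g * t = t * g) :
    ¬ p ∣ Nat.card M := by
  intro hdvd
  obtain ⟨k, hC⟩ := exists_ctx hf hp hcard h3 h11 hMG hno hdvd
  set c : GL (Fin 3) F →* GL (Fin 3) F := cj k
  have hinj : Function.Injective c := (MulAut.conj k).injective
  have hC' : Ctx σ p (M.map c) := hC
  have hG : Good σ (M.map c) := by
    by_cases he : ∃ g ∈ M.map c, Up g ∧ sv g = -1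
    · obtain ⟨g, hg, hu, hs⟩ := he
      refine good_even hC' ?_ hg hu hs
      rintro _ ⟨t, ht, rfl⟩ htt ht1
      obtain ⟨g', hg', hgg, hg1, hgt, hgc⟩ := hinv t ht (hinj (by rw [map_mul, htt, map_one]))
        fun e => ht1 (by rw [e, map_one])
      exact ⟨c g', Subgroup.mem_map_of_mem _ hg', by rw [← map_mul, hgg, map_one],
        fun e => hg1 (hinj (by rw [e, map_one])), fun e => hgt (hinj e),
        by rw [← map_mul, hgc, map_mul]⟩
    · exact good_odd hC' (fun g hg hu hs => he ⟨g, hg, hu, hs⟩) (Subgroup.mem_map_of_mem c hz)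
        (by rw [← map_mul, hz2, map_one]) fun e => hz1 (hinj (by rw [e, map_one]))
  obtain ⟨l, hl, hLM⟩ := hG
  have C := hC'.conj hl
  rw [map_cj_cj] at C hLM
  set d := cj (l * k)
  refine false_of_pair C hLM hcard (card_dvd C hcard) hω (Subgroup.mem_map_of_mem d ha)
    (Subgroup.mem_map_of_mem d hb) ?_
  rw [← map_mul, ← map_mul]
  simp only [d, cj_apply, Units.val_mul]
  rw [← Units.val_mul a b, hab, Matrix.mul_smul, Matrix.smul_mul, Units.val_mul]

end Cfsg.Agent.SU3Geo98.C6
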