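import Cfsg.Agent.SU3Geo98.C6.Integral

/-!
Class six of S5777, order prime to the characteristic (helper93): if every involution has a second one
commuting with it, the centraliser of `gZ` has an element excluded by integrality.
-/

set_option autoImplicit false
set_option linter.unusedSectionVars false
open Cfsg

namespace Cfsg.Agent.SU3Geo98.C6

open Matrix
open SL3Geo34 (CubeRoot stA stB stS stPhi gB gZ)

variable {F : Type*} [Field F] [Fintype F]

theorem eq_one_or_gZ {ω : F} (h : CubeRoot ω) (h2 : (2 : F) ≠ 0) {y : GL (Fin 3) F}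
    (hd : (y : Matrix (Fin 3) (Fin 3) F).det = 1) (h0 : y * h.gQ 0 = h.gQ 0 * y)
    (h1 : y * h.gQ 1 = h.gQ 1 * y) (hy : y * y = 1) : y = 1 ∨ y = gZ := by
  have hne : (2 * ω + 1)⁻¹ ≠ 0 := inv_ne_zero h.two_ne
  have hc : ∀ k, y * h.gQ k = h.gQ k * y →
      (y : Matrix (Fin 3) (Fin 3) F) * stPhi ω k = stPhi ω k * (y : Matrix (Fin 3) (Fin 3) F) := by
    intro k hk
    have e := congrArg Units.val hk
    rw [Units.val_mul, Units.val_mul, h.gQ_val, Matrix.mul_smul, Matrix.smul_mul] at e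
    exact smul_right_injective _ hne e
  have hz : (y : Matrix (Fin 3) (Fin 3) F) * stS = stS * (y : Matrix (Fin 3) (Fin 3) F) := by
    have hzy : y * gZ = gZ * y := by rw [← h.gQ_sq 0]; exact (Commute.mul_right h0 h0).eq
    have e := congrArg Units.val hzy
    rw [Units.val_mul, Units.val_mul, SL3Geo34.gZ_val, mul_neg, neg_mul] at e
    exact neg_injective e
  obtain ⟨X, hX⟩ : ∃ X, X = (y : Matrix (Fin 3) (Fin 3) F) := ⟨_, rfl⟩
  have hr := h.rel
  have ec := fun {M N : Matrix (Fin 3) (Fin 3) F} (e : M = N) (i j : Fin 3) =>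
    congrArg (fun M : Matrix (Fin 3) (Fin 3) F => M i j) e
  have hsq : X * X = 1 := by rw [hX, ← Units.val_mul, hy, Units.val_one]
  rw [← hX] at hd hz
  have e0 := hc 0 h0
  have e1 := hc 1 h1
  rw [← hX] at e0 e1
  have s01 := ec hz 0 1
  have s10 := ec hz 1 0
  have s11 := ec hz 1 1
  have s12 := ec hz 1 2
  have p00 := ec e0 0 0
  have p01 := ec e0 0 1
  have q00 := ec e1 0 0
  have q01 := ec e1 0 1
  have t00 := ec hsq 0 0
  have t11 := ec hsq 1 1
  have t12 := ec hsq 1 2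
  simp [stS, stPhi, Matrix.mul_apply, Fin.sum_univ_three] at s01 s10 s11 s12 p00 p01 q00 q01 t00 t11 t12
  have h3 := h.three
  have hb : X 0 1 = 0 := by grind
  have hc' : X 1 0 = 0 := by grind
  have hb' : X 0 2 = 0 := by grind
  have hc'' : X 2 0 = 0 := by grind
  have ha : X 0 0 = X 1 1 + X 1 2 := by grind
  rw [Matrix.det_fin_three, hb, hc', hb', hc''] at hd
  have hd1 : X 1 1 - X 1 2 = 1 := by grind
  have hcases : X 0 0 = 1 ∨ X 0 0 = -1 := mul_self_eq_one_iff.mp (by grind)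
  rcases hcases with ha1 | ha1
  · left
    apply Units.ext
    rw [← hX, Units.val_one]
    ext i j
    fin_cases i <;> fin_cases j <;> simp <;> grind
  · right
    apply Units.ext
    rw [← hX, SL3Geo34.gZ_val]
    ext i j
    fin_cases i <;> fin_cases j <;> simp [stS] <;> grind

/-- The case of order prime to the characteristic with commuting involutions. -/
theorem false_of_prime_to {p : ℕ} (hp : p.Prime) (hF : Fintype.card F = p ^ 2) (h3 : p % 3 = 2)
    (h2 : (2 : F) ≠ 0) {ω : F} (h : CubeRoot ω) {M : Subgroup (GL (Fin 3) F)}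
    (hdet : ∀ g ∈ M, (g : Matrix (Fin 3) (Fin 3) F).det = 1) (hM : ¬ p ∣ Nat.card M)
    (hA : h.gA ∈ M) (hB : gB ∈ M) (hQ : ∀ k, h.gQ k ∈ M)
    (hinv : ∀ t ∈ M, t * t = 1 → t ≠ 1 → ∃ g ∈ M, g * g = 1 ∧ g ≠ 1 ∧ g ≠ t ∧ g * t = t * g) :
    False := by
  have hq := h.quat h2
  have hzM : gZ ∈ M := h.gQ_sq 0 ▸ mul_mem (hQ 0) (hQ 0)
  set C : Subgroup (GL (Fin 3) F) := M ⊓ Subgroup.centralizer {gZ} with hC
  have hiC : h.gQ 0 ∈ C := ⟨hQ 0, Subgroup.mem_centralizer_singleton_iff.mpr hq.zi.symm⟩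
  have hjC : h.gQ 1 ∈ C := ⟨hQ 1, Subgroup.mem_centralizer_singleton_iff.mpr hq.zj.symm⟩
  have hcent : ∀ y ∈ C, y * h.gQ 0 = h.gQ 0 * y → y * h.gQ 1 = h.gQ 1 * y → y * y = 1 →
      y ∈ Subgroup.closure ({h.gQ 0, h.gQ 1} : Set (GL (Fin 3) F)) := by
    intro y hy e0 e1 e2
    rcases eq_one_or_gZ h h2 (hdet y hy.1) e0 e1 e2 with rfl | rfl
    · exact one_mem _
    · rw [← h.gQ_sq 0]
      exact mul_mem (Subgroup.subset_closure (by simp)) (Subgroup.subset_closure (by simp))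
  rcases hq.centralizer_cases hiC hjC (fun c hc => Subgroup.mem_centralizer_singleton_iff.mp hc.2)
      hcent with hall | ⟨y, hy, e0, e1, e2⟩ | ⟨y, hy, q, hq', e0, e2⟩
  · obtain ⟨g, hg, hg2, hg1, hgz, hgc⟩ := hinv gZ hzM hq.z2 hq.z1
    exact hgz (hall g ⟨hg, Subgroup.mem_centralizer_singleton_iff.mpr hgc⟩ hg2 hg1)
  · exact false_pauli hp hF h3 h hM hA hB hQ hy.1 e0 e1 e2
  · obtain ⟨k, rfl⟩ : ∃ k, q = h.gQ k := by
      rcases hq' with e | e | e
      · exact ⟨0, e⟩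
      · exact ⟨1, e⟩
      · exact ⟨2, by rw [e, h.gQ_01]⟩
    rcases e2 with e2 | e2
    · exact false_quarter hp hF h3 h hM hA hB hQ hy.1 k e0 e2
    · exact false_quarter hp hF h3 h hM hA hB hQ (inv_mem hy.1) k
        (Commute.inv_left e0).eq (by rw [← _root_.mul_inv_rev, e2, inv_inv])

end Cfsg.Agent.SU3Geo98.C6
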