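import Cfsg.Agent.SU3Geo98.C6.Isolated
import Cfsg.Agent.SU3Geo98.C6.Quat
import Cfsg.Agent.SU3Geo98.C6.NotDvd
import Cfsg.Agent.SU3Geo98.Stab
import Cfsg.Agent.SU3Geo98.Singer.Glue
import Cfsg.Agent.Aschbacher.UnitaryBasics

/-!
Clause (7) of S5777 (helper93, helper98): the normaliser of the extraspecial group of order 27 is maximal in
`SU₃(p)`, `p ≡ 2 (mod 3)`, `p ≥ 11`.
-/

set_option autoImplicit false
set_option linter.unusedSectionVars false
set_option linter.unusedSimpArgs false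
set_option linter.style.haveILetI false
open Cfsg

namespace Cfsg.Agent.SU3Geo98.C6

open Matrix Cfsg.Agent.MaxSub Cfsg.Agent.HermStab
open SL3Geo34 (CubeRoot stA stB stS stPhi stR gB gW gZ IsTransvec)

variable {F : Type*} [Field F] [Fintype F]

local notation "Mt" => Matrix (Fin 3) (Fin 3) F

/-- A non-commutative subgroup of a group of order 27 is everything. -/
theorem card_eq_of_not_comm {G : Type*} [Group G] {L R : Subgroup G} (hle : L ≤ R)
    (hR : Nat.card R = 27) {x y : G} (hx : x ∈ L) (hy : y ∈ L) (hxy : x * y ≠ y * x) :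
    Nat.card L = 27 := by
  haveI : Fact (Nat.Prime 3) := ⟨Nat.prime_three⟩
  have hdvd : Nat.card L ∣ 3 ^ 3 := by
    have := Subgroup.card_dvd_of_le hle; rwa [hR] at this
  obtain ⟨k, hk, hkc⟩ := (Nat.dvd_prime_pow Nat.prime_three).mp hdvd
  interval_cases k
  · refine absurd ?_ hxy
    have := (Nat.card_eq_one_iff_unique.mp hkc).1
    exact congrArg Subtype.val (Subsingleton.elim ((⟨x, hx⟩ : L) * ⟨y, hy⟩) (⟨y, hy⟩ * ⟨x, hx⟩))
  · refine absurd ?_ hxy
    haveI := isCyclic_of_prime_card (p := 3) (α := L) (by simpa using hkc)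
    obtain ⟨g, hg⟩ := IsCyclic.exists_generator (α := L)
    obtain ⟨i, hi⟩ := hg ⟨x, hx⟩
    obtain ⟨j, hj⟩ := hg ⟨y, hy⟩
    have := ((Commute.refl g).zpow_zpow i j).eq
    simp only at hi hj
    rw [hi, hj] at this
    exact congrArg Subtype.val this
  · refine absurd ?_ hxy
    have := IsPGroup.isMulCommutative_of_card_eq_prime_sq (p := 3) hkc
    exact congrArg Subtype.val (this.is_comm.comm ⟨x, hx⟩ ⟨y, hy⟩)
  · simpa using hkc

/-- The data give a group of class two. -/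
theorem classTwo_of {R : Subgroup (GL (Fin 3) F)} (h2 : (2 : F) ≠ 0) (h3 : (3 : F) ≠ 0)
    (hS : Geo.IsSymplecticTypeGroup 3 R) (habs : Geo.ActsAbsolutelyIrreducibly (Geo.matrixSet R))
    (hc : Nat.card R = 27) (hz : Nat.card (Subgroup.center R) = 3) : Aschbacher.ClassTwo R := by
  haveI : Fact (Nat.Prime 3) := ⟨Nat.prime_three⟩
  have hscal : ∀ z ∈ Subgroup.center R, (z : GL (Fin 3) F) ∈ Geo.scalars (Fin 3) F := fun z hzc =>
    Aschbacher.mem_scalars_of_commute habs fun y hy =>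
      (congrArg Subtype.val (Subgroup.mem_center_iff.mp hzc ⟨y, hy⟩)).symm
  have hcard : Nat.card (R ⧸ Subgroup.center R) = 3 ^ 2 := by
    have := Subgroup.card_eq_card_quotient_mul_card_subgroup (Subgroup.center R)
    rw [hc, hz] at this
    omega
  have hq := IsPGroup.isMulCommutative_of_card_eq_prime_sq (p := 3) hcard
  have hcz : ∀ x y : R, x * y * x⁻¹ * y⁻¹ ∈ Subgroup.center R := fun x y => by
    rw [← QuotientGroup.eq_one_iff]
    simp only [QuotientGroup.mk_mul, QuotientGroup.mk_inv]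
    rw [hq.is_comm.comm (x : R ⧸ Subgroup.center R) y]
    group
  have hexp : ∀ x ∈ R, x ^ 3 = 1 := fun x hx => by
    have := Monoid.pow_exponent_eq_one (⟨x, hx⟩ : R)
    rw [hS.exponent_eq] at this
    simpa using congrArg Subtype.val this
  refine ⟨fun hcomm => ?_, Subgroup.commutator_le.mpr fun x hx y hy => hscal _ (hcz ⟨x, hx⟩ ⟨y, hy⟩),
    fun x hx => Units.ext ?_, habs⟩
  · have : Subgroup.center R = ⊤ := (Subgroup.eq_top_iff' _).mpr fun z => Subgroup.mem_center_iff.mpr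
      fun w => Subtype.ext (hcomm w w.2 z z.2)
    rw [this, Subgroup.card_top, hc] at hz
    norm_num at hz
  · have hexp' : (x : Mt) ^ 3 = 1 := by rw [← Units.val_pow_eq_pow_val, hexp x hx, Units.val_one]
    show (x : Mt).det = 1
    by_cases hs : x ∈ Geo.scalars (Fin 3) F
    · obtain ⟨c, hc'⟩ := (Geo.mem_scalars_iff x).mp hs
      rw [hc', Matrix.det_smul, Matrix.det_one, mul_one, Fintype.card_fin]
      rw [hc', _root_.smul_pow, one_pow] at hexp'
      simpa using congrArg (fun M : Mt => M 0 0) hexp'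
    · obtain ⟨y, hy, hne⟩ : ∃ y ∈ R, x * y ≠ y * x := by
        by_contra hcon
        simp only [not_exists, not_and, not_not] at hcon
        exact hs (Aschbacher.mem_scalars_of_commute habs hcon)
      obtain ⟨c, hc'⟩ := (Geo.mem_scalars_iff _).mp (hscal _ (hcz ⟨x, hx⟩ ⟨y, hy⟩))
      simp only [Subgroup.coe_mul, Subgroup.coe_inv] at hc'
      have hrel : (x : Mt) * (y : Mt) = (c : F) • ((y : Mt) * (x : Mt)) := by
        rw [← Units.val_mul, show x * y = x * y * x⁻¹ * y⁻¹ * (y * x) by group, Units.val_mul, hc',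
          Matrix.smul_mul, one_mul, Units.val_mul]
      have hc1 : (c : F) ≠ 1 := fun e => hne (Units.ext (by simpa [e] using hrel))
      exact SL3Geo34.det_eq_one_of_trace h2 h3 hexp' (Isolated.trace_eq_zero_of_twist hc1 hrel)

/-- The frame. -/
theorem exists_std_frame {R : Subgroup (GL (Fin 3) F)} (h2 : (2 : F) ≠ 0) (h3 : (3 : F) ≠ 0)
    (hC : Aschbacher.ClassTwo R) (hc : Nat.card R = 27) :
    ∃ (ω : F) (h : CubeRoot ω) (T : GL (Fin 3) F),
      (∀ r, T * r * T⁻¹ ∈ R ↔ r ∈ stR h) ∧ Nat.card (stR h) = 27 := by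
  obtain ⟨x, hx, y, hy, hne⟩ : ∃ x ∈ R, ∃ y ∈ R, x * y ≠ y * x := by
    by_contra hcon
    simp only [not_exists, not_and, not_not] at hcon
    exact hC.notComm hcon
  have hd : ∀ z ∈ R, (z : Mt).det = 1 := fun z hz => congrArg Units.val (hC.det_one hz)
  obtain ⟨c, hcr⟩ := (Geo.mem_scalars_iff _).mp (hC.comm_le (Subgroup.commutator_mem_commutator hx hy))
  rw [commutatorElement_def] at hcr
  have hrel : (x : Mt) * (y : Mt) = (c : F) • ((y : Mt) * (x : Mt)) := by
    rw [← Units.val_mul, show x * y = x * y * x⁻¹ * y⁻¹ * (y * x) by group, Units.val_mul, hcr,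
      Matrix.smul_mul, one_mul, Units.val_mul]
  have hc1 : (c : F) ≠ 1 := fun e => hne (Units.ext (by simpa [e] using hrel))
  have hc3 : (c : F) ^ 3 = 1 := Isolated.cube_one_of_det hcr
    (hd _ (mul_mem (mul_mem (mul_mem hx hy) (inv_mem hx)) (inv_mem hy)))
  have h : CubeRoot (c : F) := ⟨by
    refine mul_left_cancel₀ (sub_ne_zero.mpr hc1) ?_
    linear_combination hc3, h3⟩
  obtain ⟨T, μ, -, hTx, hTy⟩ := Isolated.exists_frame_pair h h2 (hd x hx) (hd y hy) hrel
  set R' := R.comap (MulAut.conj T).toMonoidHom with hR'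
  have hmem : ∀ r, r ∈ R' ↔ T * r * T⁻¹ ∈ R := fun r => Iff.rfl
  have hBm : gB ∈ R' := by
    rw [hmem, show T * gB = y * T from Units.ext (by
      rw [Units.val_mul, Units.val_mul, hTy, SL3Geo34.gB_val]), mul_inv_cancel_right]
    exact hy
  set s : GL (Fin 3) F := T⁻¹ * x * T * h.gA⁻¹ with hs
  have hsv : (s : Mt) = μ • 1 := by
    rw [hs, Units.val_mul, Units.val_mul, Units.val_mul, mul_assoc _ (x : Mt), hTx, Matrix.mul_smul,
      ← mul_assoc, Units.inv_mul, one_mul, Matrix.smul_mul, ← h.gA_val, Units.mul_inv]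
  have hsd : (s : Mt).det = 1 := by
    have e2 : ((h.gA⁻¹ : GL (Fin 3) F) : Mt).det = 1 := congrArg Units.val (inv_mem h.det_gA)
    rw [hs, Units.val_mul, det_mul, e2, mul_one, Units.val_mul, Units.val_mul, det_units_conj', hd x hx]
  have hscen : ∀ z : GL (Fin 3) F, s * z = z * s := fun z => Units.ext (by simp [hsv])
  have hsA : s * h.gA ∈ R' := by
    rw [hmem, hs, show T * (T⁻¹ * x * T * h.gA⁻¹ * h.gA) * T⁻¹ = x by group]
    exact hx
  have hWm : gW h ∈ R' := by
    have : gW h = (s * h.gA) * gB * (s * h.gA)⁻¹ * (gB : GL (Fin 3) F)⁻¹ := by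
      rw [gW, commutatorElement_def, _root_.mul_inv_rev,
        show s * h.gA * gB * (h.gA⁻¹ * s⁻¹) * (gB : GL (Fin 3) F)⁻¹ =
          (s * (h.gA * gB * h.gA⁻¹)) * (s⁻¹ * (gB : GL (Fin 3) F)⁻¹) by group,
        hscen (h.gA * gB * h.gA⁻¹)]
      group
    rw [this]
    exact mul_mem (mul_mem (mul_mem hsA hBm) (inv_mem hsA)) (inv_mem hBm)
  have hsW : ∃ k : ℕ, s = gW h ^ k := by
    have hμ := Isolated.cube_one_of_det hsv hsd
    have e : (μ - 1) * ((μ - (c : F)) * (μ - (c : F) ^ 2)) = 0 := by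
      linear_combination hμ + (-(μ ^ 2) + μ) * h.rel + (μ - 1) * h.cube
    simp [mul_eq_zero, sub_eq_zero] at e
    rcases e with e | e | e
    · exact ⟨0, Units.ext (by rw [hsv, h.gW_pow_val, e, pow_zero])⟩
    · exact ⟨1, Units.ext (by rw [hsv, h.gW_pow_val, e, pow_one])⟩
    · exact ⟨2, Units.ext (by rw [hsv, h.gW_pow_val, e])⟩
  have hAm : h.gA ∈ R' := by
    obtain ⟨k, hk⟩ := hsW
    have := mul_mem (inv_mem (pow_mem hWm k)) hsA
    rwa [← hk, inv_mul_cancel_left] at this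
  have hle : stR h ≤ R' := by
    rw [stR, Subgroup.closure_le]
    simp [Set.insert_subset_iff, hAm, hBm]
  have hR'c : Nat.card R' = 27 := by
    rw [← hc]
    exact Nat.card_congr
      { toFun := fun r => ⟨T * r * T⁻¹, r.2⟩
        invFun := fun r => ⟨T⁻¹ * r * T, by rw [hmem]; simp [mul_assoc]⟩
        left_inv := fun r => Subtype.ext (by simp [mul_assoc])
        right_inv := fun r => Subtype.ext (by simp [mul_assoc]) }
  have hst : Nat.card (stR h) = 27 := by
    refine card_eq_of_not_comm hle hR'c h.gA_mem h.gB_mem fun e => h.gW_ne ?_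
    rw [gW, commutatorElement_eq_one_iff_mul_comm, e]
  have heq : stR h = R' := Subgroup.eq_of_le_of_card_ge hle (by rw [hR'c, hst])
  exact ⟨_, h, T, fun r => by rw [heq, hmem], hst⟩

section Std

variable {p : ℕ} {ω : F} (h : CubeRoot ω) {σ : F ≃+* F}
include h

theorem sigma_omega (hσ : ∀ x, σ x = x ^ p) (h3 : p % 3 = 2) : σ ω = ω ^ 2 := by
  rw [hσ, ← Nat.div_add_mod p 3, h3, pow_add, pow_mul, h.cube, one_pow, one_mul]

theorem gA_mem_GU (hσ : ∀ x, σ x = x ^ p) (h3 : p % 3 = 2) : h.gA ∈ GU 3 F p := by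
  intro u v
  have hw := sigma_omega h hσ h3
  show hermForm 3 F p ((h.gA : Mt) *ᵥ u) ((h.gA : Mt) *ᵥ v) = hermForm 3 F p u v
  simp only [hermForm, ← hσ, h.gA_val, Fin.sum_univ_three]
  simp [stA, Matrix.mulVec, dotProduct, Fin.sum_univ_three, hw, map_pow, Matrix.vecHead, Matrix.vecTail]
  have := h.cube
  grind

theorem gQ_mem_GU (hσ : ∀ x, σ x = x ^ p) (h3 : p % 3 = 2) (k : Fin 3) : h.gQ k ∈ GU 3 F p := by
  intro u v
  have hw := sigma_omega h hσ h3
  have hr := h.rel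
  show hermForm 3 F p ((h.gQ k : Mt) *ᵥ u) ((h.gQ k : Mt) *ᵥ v) = hermForm 3 F p u v
  simp only [hermForm, ← hσ, h.gQ_val, Matrix.smul_mulVec, Pi.smul_apply, smul_eq_mul, map_mul,
    Fin.sum_univ_three]
  have ht : (2 * ω + 1)⁻¹ * σ (2 * ω + 1)⁻¹ = 3⁻¹ := by
    rw [map_inv₀, map_add, map_mul, map_one, map_ofNat, hw, ← mul_inv]
    congr 1
    linear_combination (4 * ω - 2) * hr
  have key : ∀ (k : Fin 3), (stPhi ω k *ᵥ u) 0 * σ ((stPhi ω k *ᵥ v) 0) +
      (stPhi ω k *ᵥ u) 1 * σ ((stPhi ω k *ᵥ v) 1) + (stPhi ω k *ᵥ u) 2 * σ ((stPhi ω k *ᵥ v) 2) =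
      3 * (u 0 * σ (v 0) + u 1 * σ (v 1) + u 2 * σ (v 2)) := by
    intro k
    fin_cases k <;>
      simp [stPhi, Matrix.mulVec, dotProduct, Fin.sum_univ_three, hw, map_pow, Matrix.vecHead,
        Matrix.vecTail] <;> grind
  have h30 := h.three
  linear_combination ((2 * ω + 1)⁻¹ * σ (2 * ω + 1)⁻¹) * key k +
    (3 * (u 0 * σ (v 0) + u 1 * σ (v 1) + u 2 * σ (v 2))) * ht +
    (u 0 * σ (v 0) + u 1 * σ (v 1) + u 2 * σ (v 2)) * mul_inv_cancel₀ h30

end Std

theorem gB_mem_GU {p : ℕ} : (gB : GL (Fin 3) F) ∈ GU 3 F p := by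
  intro u v
  show hermForm 3 F p ((gB : GL (Fin 3) F).1 *ᵥ u) ((gB : GL (Fin 3) F).1 *ᵥ v) = hermForm 3 F p u v
  simp [hermForm, SL3Geo34.gB_val, stB, Matrix.mulVec, dotProduct, Fin.sum_univ_three, Matrix.vecHead,
    Matrix.vecTail]
  ring

/-- A transvection in the group gives everything. -/
theorem le_of_transvec {p : ℕ} (hp : p.Prime) (hF : Fintype.card F = p ^ 2) (hp3 : 3 ≤ p) {σ : F ≃+* F}
    (hσ : ∀ x, σ x = x ^ p) (hf : Geo.IsUnitaryForm σ (hermForm 3 F p)) {ω : F} (h : CubeRoot ω)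
    {M : Subgroup (GL (Fin 3) F)} (hMG : M ≤ su (hermForm 3 F p)) (hA : h.gA ∈ M) (hB : gB ∈ M)
    {t : GL (Fin 3) F} (ht : t ∈ M) (htt : IsTransvec t) : su (hermForm 3 F p) ≤ M := by
  set f := hermForm 3 F p with hfdef
  have hirr : ∀ W : Submodule F (Fin 3 → F), (∀ g ∈ M, ∀ x ∈ W, (g : Mt) *ᵥ x ∈ W) → W = ⊥ ∨ W = ⊤ :=
    fun W hW => Isolated.irr h (fun v hv => h.gA_val ▸ hW _ hA v hv)
      fun v hv => SL3Geo34.gB_val (F := F) ▸ hW _ hB v hv
  obtain ⟨v, c, hv0, hvv, hc0, hc, rfl⟩ := Singer.Glue.exists_ut_of_transvec hf (hMG ht).1 htt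
  have hfix : ∀ r : F, σ r = r → ∃ m : ℕ, (m : F) = r := by
    haveI : CharP F p := by
      obtain ⟨n, hp', hn⟩ := FiniteField.card F (ringChar F)
      have : ringChar F = p := by
        have h1 : ringChar F ∣ p ^ 2 := by rw [← hF, hn]; exact dvd_pow_self _ n.2.ne'
        exact (Nat.prime_dvd_prime_iff_eq hp' hp).mp (hp'.dvd_of_dvd_pow h1)
      exact this ▸ ringChar.charP F
    intro r hr
    let φ : Fin p → {x : F // x ^ p = x} := fun i => ⟨(i : ℕ), by rw [← hσ, map_natCast]⟩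
    have hinj : Function.Injective φ := fun a b e => Fin.ext
      (CharP.natCast_injOn_Iio F p a.2 b.2 (congrArg Subtype.val e))
    obtain ⟨i, hi⟩ := ((Nat.bijective_iff_injective_and_card φ).mpr
      ⟨hinj, by rw [Nat.card_fin, Unitary.card_fixed hF]⟩).surjective ⟨r, by rw [← hσ]; exact hr⟩
    exact ⟨i, congrArg Subtype.val hi⟩
  have hcv : Centre σ f M v := by
    refine ⟨hvv, fun d hd => ?_⟩
    obtain ⟨m, hm⟩ := hfix (d / c) (by
      rw [map_div₀, eq_neg_of_add_eq_zero_right hd, eq_neg_of_add_eq_zero_right hc, neg_div_neg_eq])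
    have hpow : ∀ n : ℕ, ut f v c ^ n = ut f v ((n : F) * c) := by
      intro n
      induction n with
      | zero => exact gl_ext fun x => by rw [ut_mulVec hf hvv]; simp
      | succ n ih =>
        refine gl_ext fun x => ?_
        rw [pow_succ', ih, Units.val_mul, ← mulVec_mulVec, ut_mulVec hf hvv, ut_mulVec hf hvv,
          ut_mulVec hf hvv, hf.add_left, hf.smul_left, hvv, mul_zero, add_zero, Nat.cast_succ]
        module
    have := pow_mem ht m
    rwa [hpow, hm, div_mul_cancel₀ _ hc0] at this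
  obtain ⟨g, hg, hgv⟩ : ∃ g ∈ M, f v ((g : Mt) *ᵥ v) ≠ 0 := by
    by_contra hcon
    simp only [not_exists, not_and, not_not] at hcon
    set S : Set (Fin 3 → F) := (fun g : GL (Fin 3) F => (g : Mt) *ᵥ v) '' M
    have hinv : ∀ g ∈ M, ∀ x ∈ Submodule.span F S, (g : Mt) *ᵥ x ∈ Submodule.span F S := by
      intro g hg x hx
      induction hx using Submodule.span_induction with
      | mem x hx =>
        obtain ⟨k, hk, rfl⟩ := hx
        exact Submodule.subset_span ⟨g * k, mul_mem hg hk, by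
          show ((g * k : GL (Fin 3) F) : Mt) *ᵥ v = _
          rw [Units.val_mul, ← mulVec_mulVec]⟩
      | zero => simp
      | add a b _ _ ha hb => rw [mulVec_add]; exact add_mem ha hb
      | smul a x _ hx => rw [mulVec_smul]; exact Submodule.smul_mem _ a hx
    have hmem : v ∈ Submodule.span F S := Submodule.subset_span ⟨1, one_mem M, by simp⟩
    rcases hirr _ hinv with e | e
    · exact hv0 (by simpa [e] using hmem)
    · obtain ⟨y, hy⟩ := (hf.nondegenerate v hv0).2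
      refine hy ?_
      have hy' : y ∈ Submodule.span F S := e ▸ Submodule.mem_top
      clear hy
      induction hy' using Submodule.span_induction with
      | mem x hx => obtain ⟨k, hk, rfl⟩ := hx; exact hcon k hk
      | zero => exact hzero_right hf v
      | add a b _ _ ha hb => rw [hadd_right hf, ha, hb, add_zero]
      | smul a x _ hx => rw [hsmul_right hf, hx, mul_zero]
  have hcy := centre_map hf hcv hg (hMG hg).1
  obtain ⟨w, hw0, hwv, hwy⟩ := exists_pole hf (by simp) v ((g : Mt) *ᵥ v)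
  obtain ⟨k, hk, hkw⟩ : ∃ k ∈ M, ¬ ∃ r : F, (k : Mt) *ᵥ w = r • w := by
    by_contra hcon
    replace hcon : ∀ k ∈ M, ∃ r : F, (k : Mt) *ᵥ w = r • w := fun k hk => by
      by_contra hne; exact hcon ⟨k, hk, hne⟩
    rcases hirr (Submodule.span F {w}) (fun k hk x hx => by
        obtain ⟨a, rfl⟩ := Submodule.mem_span_singleton.mp hx
        obtain ⟨r, hr⟩ := hcon k hk
        exact Submodule.mem_span_singleton.mpr ⟨a * r, by rw [mulVec_smul, hr, smul_smul]⟩) with e | e
    · exact hw0 (by simpa using e)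
    · have := finrank_span_singleton (K := F) hw0
      rw [e, finrank_top, Module.finrank_fin_fun] at this
      norm_num at this
  exact le_of_centres hF hp3 hσ hf
    (centre_of_two hf (by simp) hMG hcv hcy hgv hwv hwy hk hkw)

end Cfsg.Agent.SU3Geo98.C6

namespace Cfsg.Agent.SU3Geo98

open Matrix Cfsg.Agent.MaxSub Cfsg.Agent.HermStab
open SL3Geo34 (CubeRoot stR gB gW gZ IsTransvec)

/-- Clause 7 of S5777. -/
theorem c6_maximal {F : Type*} [Field F] [Fintype F] (q : ℕ) (hF : Fintype.card F = q ^ 2) (_hq : 3 ≤ q) :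
    ∀ (p : ℕ) (R : Subgroup (Matrix.GeneralLinearGroup (Fin 3) F)), p.Prime → q = p → p % 3 = 2 → 11 ≤ p → Cfsg.Geo.IsSymplecticTypeGroup 3 R → Cfsg.Geo.ActsAbsolutelyIrreducibly (Cfsg.Geo.matrixSet R) → R ≤ Cfsg.Geo.similarityGroup (Cfsg.hermForm 3 F q) → Nat.card R = 27 → Nat.card (Subgroup.center R) = 3 → Cfsg.Geo.IsMaximalIn (Cfsg.GU 3 F q ⊓ Cfsg.Geo.specialLinear (Fin 3) F) (Cfsg.Geo.subgroupNormalizer R ⊓ (Cfsg.GU 3 F q ⊓ Cfsg.Geo.specialLinear (Fin 3) F)) := by
  intro p R hp hqp hp3 hp11 hS habs hsim hR27 hZ3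
  subst hqp
  haveI : Fact q.Prime := ⟨hp⟩
  haveI : CharP F q := by
    obtain ⟨n, hp', hn⟩ := FiniteField.card F (ringChar F)
    have : ringChar F = q := by
      have h1 : ringChar F ∣ q ^ 2 := by rw [← hF, hn]; exact dvd_pow_self _ n.2.ne'
      exact (Nat.prime_dvd_prime_iff_eq hp' hp).mp (hp'.dvd_of_dvd_pow h1)
    exact this ▸ ringChar.charP F
  have hn0 : ∀ m : ℕ, 0 < m → m < q → (m : F) ≠ 0 := fun m h0 hm e => by
    have := Nat.le_of_dvd h0 ((CharP.cast_eq_zero_iff F q m).mp e)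
    omega
  have h2 : (2 : F) ≠ 0 := by exact_mod_cast hn0 2 two_pos (by omega)
  have h30 : (3 : F) ≠ 0 := by exact_mod_cast hn0 3 (by norm_num) (by omega)
  obtain ⟨σ, hσ, hf⟩ := exists_setup (n := 3) hF
  set f := hermForm 3 F q with hfdef
  have hC := C6.classTwo_of h2 h30 hS habs hR27 hZ3
  obtain ⟨ω, h, T, hmem, hst⟩ := C6.exists_std_frame h2 h30 hC hR27
  have hw := C6.sigma_omega h hσ hp3
  -- the group consists of isometries
  have hRiso : ∀ r ∈ R, ∀ u v, f ((r : Matrix (Fin 3) (Fin 3) F) *ᵥ u) ((r : Matrix (Fin 3) (Fin 3) F) *ᵥ v) = f u v := by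
    intro r hr
    obtain ⟨μ, hμ⟩ := hsim hr
    have hμ3 : (μ : F) ^ 3 = 1 := by
      have hr3 : r ^ 3 = 1 := by
        have := Monoid.pow_exponent_eq_one (⟨r, hr⟩ : R)
        rw [hS.exponent_eq] at this
        simpa using congrArg Subtype.val this
      obtain ⟨v, hv⟩ := (hf.nondegenerate (Pi.single 0 1) (by simp)).1
      have e : f ((r : Matrix (Fin 3) (Fin 3) F) *ᵥ ((r : Matrix (Fin 3) (Fin 3) F) *ᵥ
          ((r : Matrix (Fin 3) (Fin 3) F) *ᵥ v)))
          ((r : Matrix (Fin 3) (Fin 3) F) *ᵥ ((r : Matrix (Fin 3) (Fin 3) F) *ᵥ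
            ((r : Matrix (Fin 3) (Fin 3) F) *ᵥ Pi.single 0 1))) =
          (μ : F) * ((μ : F) * ((μ : F) * f v (Pi.single 0 1))) := by rw [hμ, hμ, hμ]
      simp only [mulVec_mulVec, ← Units.val_mul] at e
      rw [show r * (r * r) = 1 from by rw [← hr3, pow_succ, pow_two, mul_assoc],
        Units.val_one, one_mulVec, one_mulVec] at e
      refine mul_right_cancel₀ hv ?_
      rw [one_mul]
      linear_combination -e
    have hμr : σ (μ : F) = μ := by
      obtain ⟨v, hv⟩ := (hf.nondegenerate (Pi.single 0 1) (by simp)).1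
      have e := hμ v (Pi.single 0 1)
      rw [hf.herm, hμ, map_mul, ← hf.herm] at e
      exact mul_right_cancel₀ hv e
    have hμ1 : (μ : F) = 1 := by
      rw [hσ, ← Nat.div_add_mod q 3, hp3, pow_add, pow_mul, hμ3, one_pow, one_mul] at hμr
      exact mul_left_cancel₀ μ.ne_zero (by linear_combination hμr)
    intro u v
    rw [hμ, hμ1, one_mul]
  -- the basis of the frame is orthogonal with equal norms
  set e : Fin 3 → Fin 3 → F := fun i => (T : Matrix (Fin 3) (Fin 3) F) *ᵥ Pi.single i 1 with he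
  have hact : ∀ r ∈ stR h, ∀ i j : Fin 3,
      f ((T : Matrix (Fin 3) (Fin 3) F) *ᵥ ((r : Matrix (Fin 3) (Fin 3) F) *ᵥ Pi.single i 1))
        ((T : Matrix (Fin 3) (Fin 3) F) *ᵥ ((r : Matrix (Fin 3) (Fin 3) F) *ᵥ Pi.single j 1)) = f (e i) (e j) := by
    intro r hr i j
    have e1 := hRiso _ ((hmem r).mpr hr) (e i) (e j)
    simp only [he, mulVec_mulVec, ← Units.val_mul, inv_mul_cancel_right] at e1 ⊢
    exact e1
  have hA' : ∀ i : Fin 3, (h.gA : Matrix (Fin 3) (Fin 3) F) *ᵥ Pi.single i 1 = ω ^ (i : ℕ) • Pi.single i 1 := by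
    intro i; rw [h.gA_val]; ext a; fin_cases i <;> fin_cases a <;> simp [SL3Geo34.stA]
  have hB' : ∀ i : Fin 3, ((gB : GL (Fin 3) F) : Matrix (Fin 3) (Fin 3) F) *ᵥ Pi.single i 1 = Pi.single (i + 1) 1 := by
    intro i; rw [SL3Geo34.gB_val]; ext a; fin_cases i <;> fin_cases a <;> simp [SL3Geo34.stB]
  have horth : ∀ i j : Fin 3, i ≠ j → f (e i) (e j) = 0 := by
    intro i j hij
    have h1 := hact _ h.gA_mem i j
    rw [hA', hA', mulVec_smul, mulVec_smul, hf.smul_left, hsmul_right hf, map_pow, hw, ← mul_assoc] at h1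
    by_contra hne
    have h2' := (mul_eq_right₀ hne).mp h1
    have hw1 := h.ne_one
    have hr := h.rel
    fin_cases i <;> fin_cases j <;> first | exact absurd rfl hij | (simp at h2'; grind)
  have hdiag : ∀ i : Fin 3, f (e (i + 1)) (e (i + 1)) = f (e i) (e i) := by
    intro i
    have h1 := hact _ h.gB_mem i i
    rwa [hB'] at h1
  set c0 := f (e 0) (e 0) with hc0def
  have hTf : ∀ u v, f ((T : Matrix (Fin 3) (Fin 3) F) *ᵥ u) ((T : Matrix (Fin 3) (Fin 3) F) *ᵥ v) = c0 * f u v := by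
    intro u v
    have hu : ∀ u : Fin 3 → F, (T : Matrix (Fin 3) (Fin 3) F) *ᵥ u = u 0 • e 0 + u 1 • e 1 + u 2 • e 2 := by
      intro u
      simp only [he, ← mulVec_smul, ← mulVec_add]
      congr 1
      ext a; fin_cases a <;> simp
    have d1 : f (e 1) (e 1) = c0 := hdiag 0
    have d2 : f (e 2) (e 2) = c0 := (hdiag 1).trans d1
    rw [hu u, hu v]
    simp only [hf.add_left, hf.smul_left, hadd_right hf, hsmul_right hf, ← hc0def, d1, d2,
      horth 0 1 (by decide), horth 0 2 (by decide), horth 1 0 (by decide), horth 1 2 (by decide),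
      horth 2 0 (by decide), horth 2 1 (by decide)]
    rw [hfdef]
    simp only [hermForm, Fin.sum_univ_three, ← hσ]
    ring
  have hc0 : c0 ≠ 0 := by
    intro e0
    obtain ⟨x, hx⟩ := (hf.nondegenerate (e 0) (fun e' => by
      have := congrArg (fun v => ((T⁻¹ : GL (Fin 3) F) : Matrix (Fin 3) (Fin 3) F) *ᵥ v) e'
      simp only [he, MaxSub.inv_mulVec_mulVec, mulVec_zero] at this
      exact one_ne_zero ((Pi.single_eq_same (M := fun _ : Fin 3 => F) 0 1).symm.trans
        (congrFun this 0)))).1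
    refine hx ?_
    rw [← MaxSub.mulVec_inv_mulVec T x, he, hTf, e0, zero_mul]
  have hGU : ∀ x, T * x * T⁻¹ ∈ GU 3 F q ↔ x ∈ GU 3 F q := by
    intro x
    constructor
    · intro hx u v
      show f ((x : Matrix (Fin 3) (Fin 3) F) *ᵥ u) ((x : Matrix (Fin 3) (Fin 3) F) *ᵥ v) = f u v
      refine mul_left_cancel₀ hc0 ?_
      rw [← hTf, ← hTf]
      have e1 : f (((T * x * T⁻¹ : GL (Fin 3) F) : Matrix (Fin 3) (Fin 3) F) *ᵥ ((T : Matrix (Fin 3) (Fin 3) F) *ᵥ u))
          (((T * x * T⁻¹ : GL (Fin 3) F) : Matrix (Fin 3) (Fin 3) F) *ᵥ ((T : Matrix (Fin 3) (Fin 3) F) *ᵥ v)) = _ :=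
        hx _ _
      simp only [mulVec_mulVec, ← Units.val_mul, inv_mul_cancel_right] at e1 ⊢
      exact e1
    · intro hx u v
      show f (((T * x * T⁻¹ : GL (Fin 3) F) : Matrix (Fin 3) (Fin 3) F) *ᵥ u)
        (((T * x * T⁻¹ : GL (Fin 3) F) : Matrix (Fin 3) (Fin 3) F) *ᵥ v) = f u v
      conv_rhs => rw [← MaxSub.mulVec_inv_mulVec T u, ← MaxSub.mulVec_inv_mulVec T v]
      simp only [Units.val_mul, ← mulVec_mulVec]
      rw [hTf, hTf]
      exact congrArg (c0 * ·) (hx _ _)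
  have hsl : ∀ x, T * x * T⁻¹ ∈ Geo.specialLinear (Fin 3) F ↔ x ∈ Geo.specialLinear (Fin 3) F :=
    fun x => by
      show GeneralLinearGroup.det (T * x * T⁻¹) = 1 ↔ GeneralLinearGroup.det x = 1
      rw [map_mul, map_mul, map_inv, mul_comm (GeneralLinearGroup.det T), mul_inv_cancel_right]
  have hnorm : ∀ x, T * x * T⁻¹ ∈ Geo.subgroupNormalizer R ↔ x ∈ Geo.subgroupNormalizer (stR h) := by
    intro x
    have key : ∀ r, T * x * T⁻¹ * (T * r * T⁻¹) * (T * x * T⁻¹)⁻¹ = T * (x * r * x⁻¹) * T⁻¹ :=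
      fun r => by group
    constructor
    · intro hx
      refine Subgroup.mem_normalizer_iff.mpr fun r => ?_
      rw [← hmem r, ← hmem (x * r * x⁻¹), ← key r]
      exact Subgroup.mem_normalizer_iff.mp hx _
    · intro hx
      refine Subgroup.mem_normalizer_iff.mpr fun r => ?_
      have e : r = T * (T⁻¹ * r * T) * T⁻¹ := by group
      rw [e, hmem, key, hmem]
      exact Subgroup.mem_normalizer_iff.mp hx _
  refine ⟨lt_of_le_not_ge inf_le_right fun hle =>
    Aschbacher.su_not_le_normalizer hF (by omega) Nat.prime_three le_rfl hC (hle.trans inf_le_left), ?_⟩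
  intro M hlo hhi
  set M' := M.comap (MulAut.conj T).toMonoidHom with hM'
  have hM : ∀ x, x ∈ M' ↔ T * x * T⁻¹ ∈ M := fun x => Iff.rfl
  have hM'G : M' ≤ su f := fun x hx => ⟨(hGU x).mp (hhi ((hM x).mp hx)).1, (hsl x).mp (hhi ((hM x).mp hx)).2⟩
  have hdet : ∀ g ∈ M', (g : Matrix (Fin 3) (Fin 3) F).det = 1 := fun g hg => congrArg Units.val (hM'G hg).2
  have hgen : ∀ x, x ∈ Geo.subgroupNormalizer (stR h) → x ∈ GU 3 F q →
      x ∈ Geo.specialLinear (Fin 3) F → x ∈ M' := fun x h1 h2' h3' =>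
    (hM x).mpr (hlo ⟨(hnorm x).mpr h1, (hGU x).mpr h2', (hsl x).mpr h3'⟩)
  have hnR : stR h ≤ Geo.subgroupNormalizer (stR h) := Subgroup.le_normalizer
  have hA := hgen _ (hnR h.gA_mem) (C6.gA_mem_GU h hσ hp3) h.det_gA
  have hB := hgen _ (hnR h.gB_mem) C6.gB_mem_GU SL3Geo34.det_gB
  have hQ := fun k => hgen _ (h.gQ_normalizer k) (C6.gQ_mem_GU h hσ hp3 k) (h.det_gQ k)
  by_cases htr : ∃ t ∈ M', IsTransvec t
  · right
    obtain ⟨t, ht, htt⟩ := htr
    have hle := C6.le_of_transvec hp hF (by omega) hσ hf h hM'G hA hB ht htt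
    refine le_antisymm hhi fun x hx => ?_
    have e : x = T * (T⁻¹ * x * T) * T⁻¹ := by group
    rw [e]
    refine (hM _).mp (hle ⟨(hGU _).mp ?_, (hsl _).mp ?_⟩)
    · rw [← e]; exact hx.1
    · rw [← e]; exact hx.2
  left
  push Not at htr
  refine le_antisymm (le_inf ?_ hhi) hlo
  suffices hN : M' ≤ Geo.subgroupNormalizer (stR h) by
    intro x hx
    have e : x = T * (T⁻¹ * x * T) * T⁻¹ := by group
    rw [e, hnorm]
    exact hN ((hM _).mpr (by rw [← e]; exact hx))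
  have hτ : ∃ τ : F, τ ^ 2 = -1 := by
    obtain ⟨τ, hτ⟩ := FiniteField.isSquare_neg_one_iff.mpr (show Fintype.card F % 4 ≠ 3 by
      have ho : q % 2 = 1 := Nat.odd_iff.mp (hp.odd_of_ne_two (by omega))
      rw [hF, Nat.pow_mod]
      have : q % 4 = 1 ∨ q % 4 = 3 := by omega
      rcases this with e | e <;> rw [e] <;> norm_num)
    exact ⟨τ, by rw [hτ, pow_two]⟩
  have C : C6.Isolated.Setup h M' := ⟨hdet, h2, hA, hB, hQ 0, hτ⟩
  by_cases hinv : ∀ t ∈ M', t * t = 1 → t ≠ 1 → ∃ g ∈ M', g * g = 1 ∧ g ≠ 1 ∧ g ≠ t ∧ g * t = t * g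
  · exfalso
    have hab : (h.gA * gB : GL (Fin 3) F).1 = ω • (gB * h.gA : GL (Fin 3) F).1 := by
      rw [Units.val_mul, Units.val_mul, h.gA_val, SL3Geo34.gB_val, h.rel_BA, smul_smul,
        show ω * ω ^ 2 = 1 by linear_combination h.cube, one_smul]
    have hq := h.quat h2
    have hzM : gZ ∈ M' := C.gZ_mem
    have hnd := C6.not_dvd hf hp hF hp3 hp11 hM'G htr h.rel hA hB hzM hab hq.z2 hq.z1 hinv
    exact C6.false_of_prime_to hp hF hp3 h2 h hdet hnd hA hB hQ hinv
  · simp only [not_forall, not_exists, not_and, not_not] at hinv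
    obtain ⟨t, ht, ht2, ht1, hiso⟩ := hinv
    refine C.le_normalizer hst ht ht2 ht1 fun g hg hg2 hgc => ?_
    by_contra hcon
    rw [not_or] at hcon
    exact hiso g hg hg2 hcon.1 hcon.2 hgc

end Cfsg.Agent.SU3Geo98
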