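import Cfsg.Agent.SL3Geo32.Regular

/-!
Class six of S5777, the characteristic (helper98): a group of isometries of a unitary form in three
variables over `GF(p²)`, without transvections, in the normal form of a regular unipotent element.

The form is `2 u₁ v̄₁ - u₀ v̄₂ - u₂ v̄₀` and the element is `TG 1`.
-/

set_option autoImplicit false
set_option linter.unusedSectionVars false

namespace Cfsg.Agent.SU3Geo98.C6

open Matrix
open SL3Geo34 (IsTransvec)
open SL3Geo32.Regular (TM TG TG_coe TG_mul TM_mulVec)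

variable {F : Type*} [Field F] [Fintype F]

/-- The normal form of the unitary form. -/
def f0 (σ : F ≃+* F) (u v : Fin 3 → F) : F := 2 * u 1 * σ (v 1) - u 0 * σ (v 2) - u 2 * σ (v 0)

/-- A group of isometries of the normal form without transvections, containing `TG 1`. -/
structure Ctx (σ : F ≃+* F) (p : ℕ) (M : Subgroup (GL (Fin 3) F)) : Prop where
  prime : p.Prime
  char : CharP F p
  invol : ∀ x, σ (σ x) = x
  real : ∀ x, σ x = x ↔ ∃ m : ℕ, (m : F) = x
  ge : 11 ≤ p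
  mod : p % 3 = 2
  iso : ∀ g ∈ M, ∀ u v : Fin 3 → F,
    f0 σ ((g : Matrix (Fin 3) (Fin 3) F) *ᵥ u) ((g : Matrix (Fin 3) (Fin 3) F) *ᵥ v) = f0 σ u v
  det : ∀ g ∈ M, (g : Matrix (Fin 3) (Fin 3) F).det = 1
  tg : TG 1 ∈ M
  no : ∀ g ∈ M, ¬ IsTransvec g

variable {σ : F ≃+* F} {p : ℕ} {M : Subgroup (GL (Fin 3) F)} (C : Ctx σ p M)

/-- The first coordinate vector. -/
abbrev e0 : Fin 3 → F := ![1, 0, 0]

/-- Upper triangular elements. -/
def Up (g : GL (Fin 3) F) : Prop := g.1 1 0 = 0 ∧ g.1 2 0 = 0 ∧ g.1 2 1 = 0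

/-- Diagonal elements. -/
def Dg (g : GL (Fin 3) F) : Prop :=
  g.1 0 1 = 0 ∧ g.1 0 2 = 0 ∧ g.1 1 0 = 0 ∧ g.1 1 2 = 0 ∧ g.1 2 0 = 0 ∧ g.1 2 1 = 0

/-- The ratio of the first two diagonal entries. -/
def sv (g : GL (Fin 3) F) : F := g.1 0 0 / g.1 1 1

/-- The operator of `g` on vectors. -/
abbrev ap (g : GL (Fin 3) F) (v : Fin 3 → F) : Fin 3 → F := (g : Matrix (Fin 3) (Fin 3) F) *ᵥ v

theorem ap_mul (g h : GL (Fin 3) F) (v : Fin 3 → F) : ap (g * h) v = ap g (ap h v) := by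
  simp [ap, ← mulVec_mulVec]

theorem mul3 (A B : Matrix (Fin 3) (Fin 3) F) (i j : Fin 3) :
    (A * B) i j = A i 0 * B 0 j + A i 1 * B 1 j + A i 2 * B 2 j := by
  simp [Matrix.mul_apply, Fin.sum_univ_three]

theorem vec3 (A : Matrix (Fin 3) (Fin 3) F) (v : Fin 3 → F) (i : Fin 3) :
    (A *ᵥ v) i = A i 0 * v 0 + A i 1 * v 1 + A i 2 * v 2 := by
  simp [Matrix.mulVec, dotProduct, Fin.sum_univ_three]

theorem up_mul {g h : GL (Fin 3) F} (hg : Up g) (hh : Up h) : Up (g * h) ∧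
    (g * h).1 0 0 = g.1 0 0 * h.1 0 0 ∧ (g * h).1 1 1 = g.1 1 1 * h.1 1 1 ∧
      (g * h).1 2 2 = g.1 2 2 * h.1 2 2 := by
  obtain ⟨a1, a2, a3⟩ := hg
  obtain ⟨b1, b2, b3⟩ := hh
  refine ⟨⟨?_, ?_, ?_⟩, ?_, ?_, ?_⟩ <;> simp [Units.val_mul, mul3, a1, a2, a3, b1, b2, b3]

theorem sv_mul {g h : GL (Fin 3) F} (hg : Up g) (hh : Up h) : sv (g * h) = sv g * sv h := by
  obtain ⟨-, e0', e1, -⟩ := up_mul hg hh
  rw [sv, sv, sv, e0', e1, mul_div_mul_comm]

theorem up_TG (t : F) : Up (TG t) ∧ sv (TG t) = 1 := by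
  refine ⟨⟨?_, ?_, ?_⟩, ?_⟩ <;> simp [sv, TM]

theorem up_one : Up (1 : GL (Fin 3) F) ∧ sv (1 : GL (Fin 3) F) = 1 := by
  refine ⟨⟨?_, ?_, ?_⟩, ?_⟩ <;> simp [sv]

include C

theorem two : (2 : F) ≠ 0 := by
  intro h
  have := C.char
  have h' : ((2 : ℕ) : F) = 0 := by exact_mod_cast h
  rw [CharP.cast_eq_zero_iff F p] at h'
  have := Nat.le_of_dvd (by norm_num) h'
  have := C.ge
  omega

theorem three : (3 : F) ≠ 0 := by
  intro h
  have := C.char
  have h' : ((3 : ℕ) : F) = 0 := by exact_mod_cast h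
  rw [CharP.cast_eq_zero_iff F p] at h'
  have := Nat.le_of_dvd (by norm_num) h'
  have := C.ge
  omega

theorem natCast_eq (m : ℕ) : σ (m : F) = m := map_natCast σ m

theorem TG_real {t : F} (ht : σ t = t) : TG t ∈ M := by
  obtain ⟨m, rfl⟩ := (C.real t).mp ht
  have h : ∀ k : ℕ, TG (k : F) ∈ M := by
    intro k
    induction k with
    | zero => rw [show TG ((0 : ℕ) : F) = 1 from Units.ext (by simp [SL3Geo32.Regular.TM_zero])]; exact one_mem M
    | succ k ih => rw [Nat.cast_succ, ← TG_mul]; exact mul_mem ih C.tg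
  exact h m

/-- An element fixing the first point is upper triangular. -/
theorem up_of_fix {g : GL (Fin 3) F} (hg : g ∈ M) (h10 : g.1 1 0 = 0) (h20 : g.1 2 0 = 0) :
    Up g := by
  refine ⟨h10, h20, ?_⟩
  have h00 : g.1 0 0 ≠ 0 := fun h => by
    have hd := C.det g hg
    rw [Matrix.det_fin_three, h, h10, h20] at hd
    simp at hd
  have h := C.iso g hg e0 ![0, 1, 0]
  simp [f0, vec3, h10, h20] at h
  exact h.resolve_left h00

theorem up_diag {g : GL (Fin 3) F} (hg : g ∈ M) (hu : Up g) :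
    g.1 0 0 * σ (g.1 2 2) = 1 ∧ g.1 1 1 * σ (g.1 1 1) = 1 ∧
      g.1 0 0 * g.1 1 1 * g.1 2 2 = 1 ∧
      2 * g.1 1 1 * σ (g.1 1 2) = g.1 0 1 * σ (g.1 2 2) ∧
      2 * g.1 1 2 * σ (g.1 1 2) = g.1 0 2 * σ (g.1 2 2) + g.1 2 2 * σ (g.1 0 2) := by
  obtain ⟨h10, h20, h21⟩ := hu
  have a := C.iso g hg e0 ![0, 0, 1]
  have b := C.iso g hg ![0, 1, 0] ![0, 1, 0]
  have c := C.iso g hg ![0, 1, 0] ![0, 0, 1]
  have d := C.iso g hg ![0, 0, 1] ![0, 0, 1]
  have e := C.det g hg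
  rw [Matrix.det_fin_three, h10, h20, h21] at e
  simp [f0, vec3, h10, h20, h21] at a b c d
  refine ⟨?_, ?_, by linear_combination e, by linear_combination c, by linear_combination d⟩
  · linear_combination a
  · refine mul_left_cancel₀ (two C) ?_
    linear_combination b

theorem up_ne {g : GL (Fin 3) F} (hg : g ∈ M) (hu : Up g) :
    g.1 0 0 ≠ 0 ∧ g.1 1 1 ≠ 0 ∧ g.1 2 2 ≠ 0 := by
  obtain ⟨-, -, h, -⟩ := up_diag C hg hu
  refine ⟨?_, ?_, ?_⟩ <;> intro h' <;> simp [h'] at h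

/-- Elements of `M` agreeing up to a transvection commute. -/
theorem commute_of {y z : GL (Fin 3) F} (hy : y ∈ M) (hz : z ∈ M)
    (hD : ((y * z : GL (Fin 3) F).1 - (z * y : GL (Fin 3) F).1) * (z * y : GL (Fin 3) F)⁻¹.1 *
      ((y * z : GL (Fin 3) F).1 - (z * y : GL (Fin 3) F).1) = 0) : y * z = z * y := by
  by_contra hne
  refine C.no (y * z * (z * y)⁻¹) (mul_mem (mul_mem hy hz) (inv_mem (mul_mem hz hy)))
    ⟨fun h => hne (mul_inv_eq_one.mp h), ?_⟩
  have e : (y * z * (z * y)⁻¹ : GL (Fin 3) F).1 - 1 =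
      ((y * z : GL (Fin 3) F).1 - (z * y : GL (Fin 3) F).1) * (z * y : GL (Fin 3) F)⁻¹.1 := by
    rw [Units.val_mul, Matrix.sub_mul, Units.mul_inv]
  rw [e, ← Matrix.mul_assoc, hD, Matrix.zero_mul]

/-- An upper unipotent element with the single entry in the corner is trivial. -/
theorem central_eq_one {y : GL (Fin 3) F} (hy : y ∈ M) {b : F}
    (h : (y : Matrix (Fin 3) (Fin 3) F) = !![1, 0, b; 0, 1, 0; 0, 0, 1]) : y = 1 := by
  by_contra hne
  refine C.no y hy ⟨hne, ?_⟩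
  rw [h]
  ext i j
  fin_cases i <;> fin_cases j <;> simp [mul3]

/-- The unipotent radical meets `M` in the real `TG`. -/
theorem eq_TG {y : GL (Fin 3) F} (hy : y ∈ M) (hu : Up y) (h00 : y.1 0 0 = 1) (h11 : y.1 1 1 = 1)
    (h22 : y.1 2 2 = 1) : σ (y.1 1 2) = y.1 1 2 ∧ y = TG (y.1 1 2) := by
  obtain ⟨-, -, -, hc, -⟩ := up_diag C hy hu
  rw [h11, h22, map_one, mul_one, mul_one] at hc
  obtain ⟨h10, h20, h21⟩ := hu
  set a := y.1 0 1
  set b := y.1 0 2
  set c := y.1 1 2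
  have hyv : (y : Matrix (Fin 3) (Fin 3) F) = !![1, a, b; 0, 1, c; 0, 0, 1] := by
    ext i j; fin_cases i <;> fin_cases j <;> simp [h00, h11, h22, h10, h20, h21, a, b, c]
  have hD : (y * TG 1 : GL (Fin 3) F).1 - (TG 1 * y : GL (Fin 3) F).1 =
      !![0, 0, a - 2 * c; 0, 0, 0; 0, 0, 0] := by
    simp only [Units.val_mul, hyv, TG_coe]
    ext i j
    fin_cases i <;> fin_cases j <;> simp [mul3, TM] <;> ring
  have hcomm : y * TG 1 = TG 1 * y := by
    refine commute_of C hy C.tg ?_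
    obtain ⟨E, hE⟩ : ∃ E : Matrix (Fin 3) (Fin 3) F, E = (TG 1 * y)⁻¹.1 := ⟨_, rfl⟩
    have hE1 : E * (TG 1 * y : GL (Fin 3) F).1 = 1 := by rw [hE, Units.inv_mul]
    have e20 := congrFun (congrFun hE1 2) 0
    simp [mul3, hyv, TM] at e20
    rw [hD, ← hE]
    ext i j
    fin_cases i <;> fin_cases j <;>
      simp [mul3, Matrix.vecMul, dotProduct, Fin.sum_univ_three, e20]
  rw [hcomm, sub_self] at hD
  have hac : a = 2 * c := by
    have := congrFun (congrFun hD 0) 2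
    simp at this
    linear_combination -this
  have hreal : σ c = c := mul_left_cancel₀ (two C) (by linear_combination hc + hac)
  refine ⟨hreal, ?_⟩
  have h := central_eq_one C (mul_mem hy (TG_real C (t := -c) (by rw [map_neg, hreal])))
    (b := c ^ 2 + a * -c + b) (by
      rw [Units.val_mul, hyv, TG_coe, hac]
      ext i j
      fin_cases i <;> fin_cases j <;> simp [mul3, TM] <;> ring)
  calc y = y * TG (-c) * TG c := by
        rw [mul_assoc, TG_mul, neg_add_cancel,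
          show TG (0 : F) = 1 from Units.ext (by simp [SL3Geo32.Regular.TM_zero]), mul_one]
    _ = TG c := by rw [h, one_mul]

/-- A stabiliser element: the real torus parameter and the conjugate of `TG`. -/
theorem conj_TG {g : GL (Fin 3) F} (hg : g ∈ M) (hu : Up g) :
    g.1 1 1 = sv g * g.1 2 2 ∧ g.1 0 0 = sv g * g.1 1 1 ∧ σ (sv g) = sv g ∧ sv g ≠ 0 ∧
      g.1 0 1 = 2 * sv g * g.1 1 2 ∧ g * TG 1 = TG (sv g) * g := by
  obtain ⟨n0, n1, n2⟩ := up_ne C hg hu
  set y := g * TG 1 * g⁻¹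
  have hy : y ∈ M := mul_mem (mul_mem hg C.tg) (inv_mem hg)
  have hyg : y.1 * g.1 = g.1 * TM 1 := by
    rw [← TG_coe, ← Units.val_mul, ← Units.val_mul]; congr 1; simp [y, mul_assoc]
  obtain ⟨h10, h20, h21⟩ := hu
  have E := fun i j => congrFun (congrFun hyg i) j
  have y10 : y.1 1 0 = 0 := by
    have := E 1 0; simp [mul3, TM, h10, h20] at this; exact this.resolve_right n0
  have y20 : y.1 2 0 = 0 := by
    have := E 2 0; simp [mul3, TM, h10, h20] at this; exact this.resolve_right n0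
  have y00 : y.1 0 0 = 1 := by
    have := E 0 0; simp [mul3, TM, h10, h20] at this
    exact mul_right_cancel₀ n0 (by rw [this, one_mul])
  have y21 : y.1 2 1 = 0 := by
    have := E 2 1; simp [mul3, TM, h10, h20, h21, y20] at this; exact this.resolve_right n1
  have y11 : y.1 1 1 = 1 := by
    have := E 1 1; simp [mul3, TM, h10, h20, h21, y10] at this
    exact mul_right_cancel₀ n1 (by rw [this, one_mul])
  have y22 : y.1 2 2 = 1 := by
    have := E 2 2; simp [mul3, TM, h10, h20, h21, y20, y21] at this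
    exact mul_right_cancel₀ n2 (by rw [this, one_mul])
  obtain ⟨hr, hy'⟩ := eq_TG C hy ⟨y10, y20, y21⟩ y00 y11 y22
  set r := y.1 1 2
  have e01 := E 0 1
  have e12 := E 1 2
  have e02 := E 0 2
  rw [hy'] at e01 e12 e02
  simp [mul3, TM, h10, h20, h21] at e01 e12 e02
  have hα : g.1 0 0 = r * g.1 1 1 :=
    mul_left_cancel₀ (two C) (by linear_combination -e01)
  have hs : sv g = r := by rw [sv, hα, mul_div_cancel_right₀ _ n1]
  have hβ : g.1 1 1 = r * g.1 2 2 := by linear_combination -e12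
  rw [hs]
  refine ⟨hβ, hα, hr, fun h => n0 (by rw [hα, h, zero_mul]), ?_, ?_⟩
  · linear_combination -e02 - hα - r * hβ
  · rw [← hy']; simp [y, mul_assoc]

/-- A stabiliser element is a real `TG` times a normalised one. -/
theorem up_normal {g : GL (Fin 3) F} (hg : g ∈ M) (hu : Up g) :
    ∃ u h, σ u = u ∧ g = TG u * h ∧ h ∈ M ∧ Up h ∧ sv h = sv g ∧ h.1 0 1 = 0 ∧ h.1 1 2 = 0 := by
  obtain ⟨hβ, hα, hs, hs0, ha, -⟩ := conj_TG C hg hu
  obtain ⟨-, hN, -, hc, -⟩ := up_diag C hg hu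
  obtain ⟨n0, n1, n2⟩ := up_ne C hg hu
  set u := g.1 1 2 / g.1 2 2
  have hσs : σ (sv g) ≠ 0 := (map_ne_zero σ).mpr hs0
  have hu' : σ u = u := by
    have e : σ (g.1 1 1) = sv g * σ (g.1 2 2) := by rw [hβ, map_mul, hs]
    have h1 : g.1 2 2 * σ (g.1 1 2) = g.1 1 2 * σ (g.1 2 2) := by
      refine mul_left_cancel₀ (mul_ne_zero (two C) hs0) ?_
      rw [hβ, ha] at hc
      linear_combination hc
    simp only [u, map_div₀]
    rw [div_eq_div_iff ((map_ne_zero σ).mpr n2) n2]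
    linear_combination h1
  have hm : σ (-u) = -u := by rw [map_neg, hu']
  have h1 := up_mul (up_TG (-u)).1 hu
  refine ⟨u, TG (-u) * g, hu', ?_, mul_mem (TG_real C hm) hg, h1.1, ?_, ?_, ?_⟩
  · rw [← mul_assoc, TG_mul, add_neg_cancel,
      show TG (0 : F) = 1 from Units.ext (by simp [SL3Geo32.Regular.TM_zero]), one_mul]
  · rw [sv_mul (up_TG _).1 hu, (up_TG _).2, one_mul]
  · simp [Units.val_mul, mul3, TM, hu.2.2, u]
    field_simp
    rw [ha, hβ]
    ring
  · simp [Units.val_mul, mul3, TM, hu.1, u]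
    field_simp
    ring

/-- Trivial parameter, normalised: a scalar. -/
theorem scalar_of_sv {g : GL (Fin 3) F} (hg : g ∈ M) (hu : Up g) (h01 : g.1 0 1 = 0)
    (h12 : g.1 1 2 = 0) (hs : sv g = 1) :
    ∃ r : F, r ^ 3 = 1 ∧ (g : Matrix (Fin 3) (Fin 3) F) = r • 1 := by
  obtain ⟨hβ, hα, -, -, -, -⟩ := conj_TG C hg hu
  obtain ⟨-, -, hd, -, -⟩ := up_diag C hg hu
  rw [hs, one_mul] at hβ hα
  obtain ⟨h10, h20, h21⟩ := hu
  set r := g.1 2 2
  set b := g.1 0 2
  have hr : r ^ 3 = 1 := by rw [hα, hβ] at hd; linear_combination hd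
  have hv : (g : Matrix (Fin 3) (Fin 3) F) = !![r, 0, b; 0, r, 0; 0, 0, r] := by
    ext i j; fin_cases i <;> fin_cases j <;> simp [h01, h12, h10, h20, h21, hα, hβ, b, r]
  have h := central_eq_one C (pow_mem hg 3) (b := 3 * r ^ 2 * b) (by
    rw [Units.val_pow_eq_pow_val, hv, pow_three]
    ext i j
    fin_cases i <;> fin_cases j <;> simp [mul3] <;>
      first | linear_combination hr | ring)
  have e := congrArg (fun x : GL (Fin 3) F => x.1 0 2) h
  rw [Units.val_pow_eq_pow_val, hv, pow_three] at e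
  simp [mul3] at e
  have hb : b = 0 := by
    have hr0 : r ≠ 0 := fun h0 => by simp [h0] at hr
    refine (mul_eq_zero.mp (show (3 * r ^ 2) * b = 0 by linear_combination e)).resolve_left ?_
    exact mul_ne_zero (three C) (pow_ne_zero 2 hr0)
  refine ⟨r, hr, ?_⟩
  rw [hv, hb]
  ext i j
  fin_cases i <;> fin_cases j <;> simp

/-- Parameter one: a scalar times a real `TG`. -/
theorem kernel_form {g : GL (Fin 3) F} (hg : g ∈ M) (hu : Up g) (hs : sv g = 1) :
    ∃ (u r : F), σ u = u ∧ r ^ 3 = 1 ∧ (g : Matrix (Fin 3) (Fin 3) F) = r • TM u := by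
  obtain ⟨u, h, hu', rfl, hh, huh, hsv, h01, h12⟩ := up_normal C hg hu
  obtain ⟨r, hr, hv⟩ := scalar_of_sv C hh huh h01 h12 (hsv.trans hs)
  exact ⟨u, r, hu', hr, by rw [Units.val_mul, hv, TG_coe, Matrix.mul_smul, mul_one]⟩

/-- A normalised element of parameter minus one is diagonal. -/
theorem dg_of_neg {g : GL (Fin 3) F} (hg : g ∈ M) (hu : Up g) (h01 : g.1 0 1 = 0)
    (h12 : g.1 1 2 = 0) (hs : sv g = -1) : Dg g := by
  obtain ⟨hβ, hα, -, -, -, -⟩ := conj_TG C hg hu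
  obtain ⟨n0, -, -⟩ := up_ne C hg hu
  obtain ⟨h10, h20, h21⟩ := hu
  have h2 := up_mul (g := g) (h := g) ⟨h10, h20, h21⟩ ⟨h10, h20, h21⟩
  obtain ⟨r, -, hv⟩ := scalar_of_sv C (mul_mem hg hg) h2.1
    (by simp [Units.val_mul, mul3, h01, h21]) (by simp [Units.val_mul, mul3, h10, h12])
    (by rw [sv_mul ⟨h10, h20, h21⟩ ⟨h10, h20, h21⟩, hs]; ring)
  have e := congrFun (congrFun hv 0) 2
  simp [Units.val_mul, mul3, h01] at e
  have h00 : g.1 2 2 = g.1 0 0 := by rw [hα, hβ, hs]; ring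
  refine ⟨h01, ?_, h10, h12, h20, h21⟩
  refine (mul_eq_zero.mp (show (2 * g.1 0 0) * g.1 0 2 = 0 by rw [h00] at e; linear_combination e))
    |>.resolve_left (mul_ne_zero (two C) n0)

/-- With a diagonal element of distinct outer entries, normalised elements are diagonal. -/
theorem dg_of_torus {H : GL (Fin 3) F} (hH : H ∈ M) (hD : Dg H) (hne : H.1 0 0 ≠ H.1 2 2)
    {g : GL (Fin 3) F} (hg : g ∈ M) (hu : Up g) (h01 : g.1 0 1 = 0) (h12 : g.1 1 2 = 0) :
    Dg g := by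
  obtain ⟨h10, h20, h21⟩ := hu
  obtain ⟨d01, d02, d10, d12, d20, d21⟩ := hD
  have hcomm : g * H = H * g := by
    refine commute_of C hg hH ?_
    obtain ⟨E, hE⟩ : ∃ E : Matrix (Fin 3) (Fin 3) F, E = (H * g)⁻¹.1 := ⟨_, rfl⟩
    have hE1 : E * (H * g : GL (Fin 3) F).1 = 1 := by rw [hE, Units.inv_mul]
    have e20 := congrFun (congrFun hE1 2) 0
    simp [mul3, h10, h20, d01, d02, d10, d20] at e20
    have g0 := (up_ne C hg ⟨h10, h20, h21⟩).1
    have H0 := (up_ne C hH ⟨d10, d20, d21⟩).1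
    replace e20 : E 2 0 = 0 := by
      first
        | exact (e20.resolve_right (mul_ne_zero H0 g0))
        | simpa [g0, H0] using e20
    have hD' : (g * H : GL (Fin 3) F).1 - (H * g : GL (Fin 3) F).1 =
        !![0, 0, g.1 0 2 * (H.1 2 2 - H.1 0 0); 0, 0, 0; 0, 0, 0] := by
      ext i j
      fin_cases i <;> fin_cases j <;>
        simp [mul3, h01, h10, h12, h20, h21, d01, d02, d10, d12, d20, d21] <;> ring
    rw [hD', ← hE]
    ext i j
    fin_cases i <;> fin_cases j <;>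
      simp [mul3, Matrix.vecMul, dotProduct, Fin.sum_univ_three, e20]
  have e := congrArg (fun x : GL (Fin 3) F => x.1 0 2) hcomm
  simp [Units.val_mul, mul3, h01, d01, d02, d12] at e
  refine ⟨h01, ?_, h10, h12, h20, h21⟩
  exact (mul_eq_zero.mp (show g.1 0 2 * (H.1 2 2 - H.1 0 0) = 0 by linear_combination e)).resolve_right
    (sub_ne_zero.mpr hne.symm)

end Cfsg.Agent.SU3Geo98.C6
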