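import Cfsg.Agent.SL3Geo60.Integral
import Mathlib.FieldTheory.IsAlgClosed.AlgebraicClosure

/-!
S5777 (7): over `GF(p²)` the characteristic zero contradiction (helper60, for helper98 / helper93).

A representation over `GF(p²)` is read as one of degree six over `ZMod p`, lifted to the `p`-adic integers;
over an algebraic closure the eigenspace of the lifted scalar of order three has dimension three.
-/

set_option autoImplicit false
set_option linter.unusedSectionVars false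

namespace Cfsg.Agent.SU3Geo98.C6

open Matrix Cfsg.Agent.SL3Geo34
open scoped MatrixGroups commutatorElement Classical

/-- A three-dimensional space with a Heisenberg pair has a standard basis. -/
theorem exists_normal {K : Type*} [Field K] {z : K} (hz : CubeRoot z) {V : Type*} [AddCommGroup V]
    [Module K V] [FiniteDimensional K V] (hV : Module.finrank K V = 3) {G : Type*} [Group G]
    (ρ : G →* Module.End K V) {a b : G} (ha : a ^ 3 = 1) (hb : b ^ 3 = 1)
    (hw : ∀ v, ρ ⁅a, b⁆ v = z • v) :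
    ∃ ψ : G →* GL (Fin 3) K,
      (ψ a : Matrix (Fin 3) (Fin 3) K) = stA z ∧ (ψ b : Matrix (Fin 3) (Fin 3) K) = stB ∧
      (ψ ⁅a, b⁆ : Matrix (Fin 3) (Fin 3) K) = z • 1 := by
  set A := ρ a with hA
  set B := ρ b with hB
  have hA3 : ∀ v, A (A (A v)) = v := fun v => by
    have := congrArg (fun f : Module.End K V => f v) (congrArg ρ ha)
    simpa [pow_succ, map_mul] using this
  have hB3 : ∀ v, B (B (B v)) = v := fun v => by
    have := congrArg (fun f : Module.End K V => f v) (congrArg ρ hb)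
    simpa [pow_succ, map_mul] using this
  have hAB : ∀ v, A (B v) = z • B (A v) := fun v => by
    have e : a * b = ⁅a, b⁆ * (b * a) := by rw [commutatorElement_def]; group
    have := congrArg (fun f : Module.End K V => f v) (congrArg ρ e)
    simp only [map_mul, Module.End.mul_apply] at this
    rw [this, hw]
  have hz3 := hz.cube
  -- a fixed vector
  have : Nontrivial V := Module.nontrivial_of_finrank_eq_succ hV
  obtain ⟨u₀, hu₀⟩ := exists_ne (0 : V)
  obtain ⟨u, hu, hu0⟩ : ∃ u, A u = u ∧ u ≠ 0 := by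
    obtain ⟨j, hj⟩ : ∃ j : Fin 3,
        u₀ + (z ^ (j : ℕ)) • A u₀ + (z ^ (j : ℕ) * z ^ (j : ℕ)) • A (A u₀) ≠ 0 := by
      by_contra! hall
      have h0 := hall 0; have h1 := hall 1; have h2 := hall 2
      apply hu₀
      refine smul_right_injective V hz.three ?_
      simp only [smul_zero]
      calc (3 : K) • u₀ = (u₀ + (z ^ ((0 : Fin 3) : ℕ)) • A u₀ +
              (z ^ ((0 : Fin 3) : ℕ) * z ^ ((0 : Fin 3) : ℕ)) • A (A u₀)) +
            (u₀ + (z ^ ((1 : Fin 3) : ℕ)) • A u₀ +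
              (z ^ ((1 : Fin 3) : ℕ) * z ^ ((1 : Fin 3) : ℕ)) • A (A u₀)) +
            (u₀ + (z ^ ((2 : Fin 3) : ℕ)) • A u₀ +
              (z ^ ((2 : Fin 3) : ℕ) * z ^ ((2 : Fin 3) : ℕ)) • A (A u₀)) := by
            match_scalars <;> simp <;>
              first
              | ring1
              | linear_combination -hz.rel
              | linear_combination -hz.rel - z * hz3
        _ = 0 := by rw [h0, h1, h2, add_zero, add_zero]
    set w := u₀ + (z ^ (j : ℕ)) • A u₀ + (z ^ (j : ℕ) * z ^ (j : ℕ)) • A (A u₀) with hwdef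
    have hj3 : (z ^ (j : ℕ)) ^ 3 = 1 := by rw [← pow_mul, mul_comm, pow_mul, hz3, one_pow]
    have hAw : A w = (z ^ (j : ℕ)) ^ 2 • w := by
      simp only [hwdef, map_add, map_smul, hA3, smul_add, smul_smul]
      match_scalars <;>
        first
        | ring1
        | linear_combination -hj3
        | linear_combination -(z ^ (j : ℕ)) * hj3
    have hne : ∀ v, v ≠ 0 → B v ≠ 0 := fun v hv h => hv (by rw [← hB3 v, h, map_zero, map_zero])
    fin_cases j
    · exact ⟨w, by simpa using hAw, hj⟩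
    · refine ⟨B w, ?_, hne _ hj⟩
      rw [hAB, hAw, map_smul, smul_smul]
      simp [pow_two]
      rw [show z * (z * z) = 1 by linear_combination hz3, one_smul]
    · refine ⟨B (B w), ?_, hne _ (hne _ hj)⟩
      rw [hAB, hAB, hAw, map_smul, map_smul, map_smul, smul_smul, smul_smul]
      simp
      rw [show z * z * (z ^ 2) ^ 2 = 1 by linear_combination (z ^ 3 + 1) * hz3, one_smul]
  -- the basis
  let T : (Fin 3 → K) →ₗ[K] V := Fintype.linearCombination K ![u, B u, B (B u)]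
  have hT : ∀ x, T x = x 0 • u + x 1 • B u + x 2 • B (B u) := fun x => by
    simp [T, Fintype.linearCombination_apply, Fin.sum_univ_three]
  have hAB' : A (B u) = z • B u := by rw [hAB, hu]
  have hABB : A (B (B u)) = (z * z) • B (B u) := by rw [hAB, hAB', map_smul, smul_smul]
  have hTA : ∀ x, A (T x) = T (stA z *ᵥ x) := fun x => by
    rw [hT, hT, map_add, map_add, map_smul, map_smul, map_smul, hu, hAB', hABB]
    simp [stA, Matrix.mulVec, dotProduct, Fin.sum_univ_three, smul_smul, pow_two, mul_comm]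
  have hTB : ∀ x, B (T x) = T (stB *ᵥ x) := fun x => by
    rw [hT, hT, map_add, map_add, map_smul, map_smul, map_smul, hB3]
    simp [stB, Matrix.mulVec, dotProduct, Fin.sum_univ_three]
    abel
  have hTi : Function.Injective T := by
    rw [← LinearMap.ker_eq_bot, LinearMap.ker_eq_bot']
    intro x hx
    have h1 : T (stA z *ᵥ x) = 0 := by rw [← hTA, hx, map_zero]
    have h2 : T (stA z *ᵥ (stA z *ᵥ x)) = 0 := by rw [← hTA, h1, map_zero]
    have hB0 : ∀ v, B v = 0 → v = 0 := fun v h => by rw [← hB3 v, h, map_zero, map_zero]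
    rw [hT] at hx h1 h2
    simp [stA, Matrix.mulVec, dotProduct, Fin.sum_univ_three] at h1 h2
    have e0 : (3 * x 0) • u = 0 := by
      calc (3 * x 0) • u = (x 0 • u + x 1 • B u + x 2 • B (B u)) +
            (x 0 • u + (z * x 1) • B u + (z ^ 2 * x 2) • B (B u)) +
            (x 0 • u + (z * (z * x 1)) • B u + (z ^ 2 * (z ^ 2 * x 2)) • B (B u)) := by
            match_scalars <;>
              first
              | ring1
              | linear_combination -(x 1) * hz.rel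
              | linear_combination -(x 2) * hz.rel - x 2 * z * hz3
        _ = 0 := by rw [hx, h1, h2, add_zero, add_zero]
    have e1 : (3 * x 1) • B u = 0 := by
      calc (3 * x 1) • B u = (x 0 • u + x 1 • B u + x 2 • B (B u)) +
            (z ^ 2) • (x 0 • u + (z * x 1) • B u + (z ^ 2 * x 2) • B (B u)) +
            z • (x 0 • u + (z * (z * x 1)) • B u + (z ^ 2 * (z ^ 2 * x 2)) • B (B u)) := by
            match_scalars <;>
              first
              | linear_combination -(x 0) * hz.rel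
              | linear_combination -(2 * x 1) * hz3
              | linear_combination -(x 2) * hz.rel - (x 2) * (z + z ^ 2) * hz3
        _ = 0 := by rw [hx, h1, h2, smul_zero, smul_zero, add_zero, add_zero]
    have x0 : x 0 = 0 := by
      rcases smul_eq_zero.1 e0 with h | h
      · exact (mul_eq_zero.1 h).resolve_left hz.three
      · exact absurd h hu0
    have x1 : x 1 = 0 := by
      rcases smul_eq_zero.1 e1 with h | h
      · exact (mul_eq_zero.1 h).resolve_left hz.three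
      · exact absurd (hB0 _ h) hu0
    rw [x0, x1, zero_smul, zero_smul, zero_add, zero_add] at hx
    have x2 : x 2 = 0 := (smul_eq_zero.1 hx).resolve_right fun h => hu0 (hB0 _ (hB0 _ h))
    ext i; fin_cases i <;> simp [x0, x1, x2]
  let e : (Fin 3 → K) ≃ₗ[K] V :=
    LinearMap.linearEquivOfInjective T hTi (by rw [Module.finrank_fin_fun, hV])
  have he : ∀ x, e x = T x := fun x => rfl
  let μ : G →* Matrix (Fin 3) (Fin 3) K :=
    { toFun := fun g => LinearMap.toMatrix' (e.symm.conj (ρ g))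
      map_one' := by
        rw [map_one, ← LinearMap.toMatrix'_id]
        congr 1
        ext x; simp [LinearEquiv.conj_apply]
      map_mul' := fun g h => by
        rw [← LinearMap.toMatrix'_mul]
        congr 1
        ext x; simp [LinearEquiv.conj_apply] }
  have hμ : ∀ (g : G) (N : Matrix (Fin 3) (Fin 3) K), (∀ x, ρ g (T x) = T (N *ᵥ x)) →
      μ g = N := fun g N h => by
    refine Matrix.toLin'.injective (LinearMap.ext fun x => ?_)
    simp only [μ, MonoidHom.coe_mk, OneHom.coe_mk, Matrix.toLin'_toMatrix', Matrix.toLin'_apply,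
      LinearEquiv.conj_apply_apply, LinearEquiv.symm_symm, he, h x]
    rw [← he, LinearEquiv.symm_apply_apply]
  refine ⟨μ.toHomUnits, ?_, ?_, ?_⟩
  · rw [MonoidHom.coe_toHomUnits]; exact hμ a _ hTA
  · rw [MonoidHom.coe_toHomUnits]; exact hμ b _ hTB
  · rw [MonoidHom.coe_toHomUnits]
    exact hμ _ _ fun x => by rw [hw, Matrix.smul_mulVec, Matrix.one_mulVec, map_smul]

section Lift

variable {p : ℕ} [Fact p.Prime]

/-- For `p ≡ 2 (mod 3)` there is no root of `X² + X + 1` in the `p`-adic field. -/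
theorem no_root (h3 : p % 3 = 2) (x : ℚ_[p]) : x ^ 2 + x + 1 ≠ 0 := by
  intro hx
  have hx3 : x ^ 3 = 1 := by linear_combination (x - 1) * hx
  have hnorm : ‖x‖ ≤ 1 := by
    have : ‖x‖ ^ 3 = 1 := by rw [← norm_pow, hx3, norm_one]
    nlinarith [norm_nonneg x, sq_nonneg (‖x‖ - 1), sq_nonneg (‖x‖ + 1)]
  obtain ⟨y, rfl⟩ : ∃ y : ℤ_[p], (y : ℚ_[p]) = x := ⟨⟨x, hnorm⟩, rfl⟩
  have hy : y ^ 2 + y + 1 = 0 := PadicInt.ext (by push_cast; exact hx)
  set w := PadicInt.toZMod y with hwdef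
  have hw : w ^ 2 + w + 1 = 0 := by
    rw [hwdef, ← map_pow, ← map_one (PadicInt.toZMod (p := p)), ← map_add, ← map_add, hy, map_zero]
  have hw3 : w ^ 3 = 1 := by linear_combination (w - 1) * hw
  have hd : orderOf w ∣ p - 1 :=
    orderOf_dvd_of_pow_eq_one (ZMod.pow_card_sub_one_eq_one fun h0 => by rw [h0] at hw3; simp at hw3)
  have hd3 : orderOf w ∣ 3 := orderOf_dvd_of_pow_eq_one hw3
  rcases (Nat.prime_three.eq_one_or_self_of_dvd _ hd3) with h | h
  · rw [orderOf_eq_one_iff] at h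
    rw [h] at hw
    have : ((3 : ℕ) : ZMod p) = 0 := by push_cast; linear_combination hw
    rw [ZMod.natCast_eq_zero_iff, Nat.prime_dvd_prime_iff_eq Fact.out Nat.prime_three] at this
    omega
  · rw [h] at hd
    have := (Fact.out : p.Prime).two_le
    omega

variable {G : Type*} [Group G] [Finite G]

/-- A six-dimensional representation over `ZMod p` in which a central commutator has no fixed vector gives a
three-dimensional one in characteristic zero in which the commutator is a scalar. -/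
theorem exists_std6 (h3 : p % 3 = 2) (hG : ¬ p ∣ Nat.card G) (φ : G →* GL (Fin 6) (ZMod p)) {a b : G}
    (ha : a ^ 3 = 1) (hb : b ^ 3 = 1) (hwc : ∀ g : G, ⁅a, b⁆ * g = g * ⁅a, b⁆)
    (hw : (φ ⁅a, b⁆ : Matrix (Fin 6) (Fin 6) (ZMod p)) ^ 2 +
      (φ ⁅a, b⁆ : Matrix (Fin 6) (Fin 6) (ZMod p)) + 1 = 0)
    (hw3 : ⁅a, b⁆ ^ 3 = 1) :
    ∃ (z : AlgebraicClosure ℚ_[p]) (_ : CubeRoot z) (ψ : G →* GL (Fin 3) (AlgebraicClosure ℚ_[p])),
      (ψ a : Matrix (Fin 3) (Fin 3) (AlgebraicClosure ℚ_[p])) = stA z ∧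
      (ψ b : Matrix (Fin 3) (Fin 3) (AlgebraicClosure ℚ_[p])) = stB ∧
      (ψ ⁅a, b⁆ : Matrix (Fin 3) (Fin 3) (AlgebraicClosure ℚ_[p])) = z • 1 := by
  obtain ⟨Ψ, hΨ⟩ := SL3Geo60.exists_lift hG φ
  set W₀ : Matrix (Fin 6) (Fin 6) ℤ_[p] :=
    ((Ψ ⁅a, b⁆ : GL (Fin 6) ℤ_[p]) : Matrix (Fin 6) (Fin 6) ℤ_[p]) with hW₀
  have hred : W₀.map PadicInt.toZMod = (φ ⁅a, b⁆ : Matrix (Fin 6) (Fin 6) (ZMod p)) :=
    congrArg (fun f : G →* GL (Fin 6) (ZMod p) => (f ⁅a, b⁆ : Matrix (Fin 6) (Fin 6) (ZMod p))) hΨ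
  have hW3 : W₀ ^ 3 = 1 := by rw [hW₀, ← Units.val_pow_eq_pow_val, ← map_pow, hw3, map_one, Units.val_one]
  -- `W₀ - 1` is invertible
  have hrel₀ : W₀ ^ 2 + W₀ + 1 = 0 := by
    have hu : IsUnit (W₀ - 1) := by
      refine (Matrix.isUnit_iff_isUnit_det _).2 (isUnit_of_map_unit (PadicInt.toZMod (p := p)) _ ?_)
      rw [RingHom.map_det, map_sub, map_one, RingHom.mapMatrix_apply, hred]
      set U := (φ ⁅a, b⁆ : Matrix (Fin 6) (Fin 6) (ZMod p))
      have e : (U - 1) * (-(U + 1 + 1)) = (3 : ZMod p) • 1 := by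
        rw [show (3 : ZMod p) • (1 : Matrix (Fin 6) (Fin 6) (ZMod p)) = 1 + 1 + 1 by module]
        have : (U - 1) * (-(U + 1 + 1)) = 1 + 1 + 1 - (U ^ 2 + U + 1) := by noncomm_ring
        rw [this, hw, sub_zero]
      have h30 : (3 : ZMod p) ≠ 0 := by
        intro h
        have : ((3 : ℕ) : ZMod p) = 0 := by simpa using h
        rw [ZMod.natCast_eq_zero_iff, Nat.prime_dvd_prime_iff_eq Fact.out Nat.prime_three] at this
        omega
      have := congrArg Matrix.det e
      rw [Matrix.det_mul, Matrix.det_smul, Matrix.det_one, mul_one] at this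
      exact isUnit_iff_ne_zero.2 (left_ne_zero_of_mul (this ▸ pow_ne_zero _ h30))
    refine hu.mul_right_eq_zero.1 ?_
    have : (W₀ - 1) * (W₀ ^ 2 + W₀ + 1) = W₀ ^ 3 - 1 := by noncomm_ring
    rw [this, hW3, sub_self]
  set K := AlgebraicClosure ℚ_[p]
  let i₀ : ℚ_[p] →+* K := algebraMap ℚ_[p] K
  let ι : ℤ_[p] →+* K := i₀.comp PadicInt.Coe.ringHom
  let ρ₆ : G →* Matrix (Fin 6) (Fin 6) K :=
    (ι.mapMatrix.toMonoidHom).comp ((Units.coeHom _).comp Ψ)
  set W := ρ₆ ⁅a, b⁆ with hW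
  have hrel : W ^ 2 + W + 1 = 0 := by
    have := congrArg ι.mapMatrix hrel₀
    rw [map_add, map_add, map_pow, map_one, map_zero] at this
    exact this
  obtain ⟨z, hz⟩ := IsAlgClosed.exists_root
    (Polynomial.X ^ 2 + Polynomial.X + 1 : Polynomial K) (by
      have : (Polynomial.X ^ 2 + Polynomial.X + 1 : Polynomial K).degree = 2 := by compute_degree!
      rw [this]; decide)
  have hzr : z ^ 2 + z + 1 = 0 := by simpa using hz
  have hcz : CubeRoot z := ⟨hzr, three_ne_zero⟩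
  -- the projection on the eigenspace
  set P : Matrix (Fin 6) (Fin 6) K := (2 * z + 1)⁻¹ • (W - z ^ 2 • 1) with hP
  have hW2 : W * W = -W - 1 := by
    rw [← sub_eq_zero, ← hrel, sq]; abel
  have hWP : W * P = z • P := by
    rw [hP, Matrix.mul_smul, smul_comm z, mul_sub, hW2, Matrix.mul_smul, mul_one, smul_sub, smul_smul]
    congr 1
    match_scalars <;>
      first
      | linear_combination -(2 * z + 1)⁻¹ * hzr
      | linear_combination (2 * z + 1)⁻¹ * hcz.cube
  have hPP : P * P = P := by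
    calc P * P = (2 * z + 1)⁻¹ • (W * P - z ^ 2 • P) := by
          nth_rw 1 [hP]
          rw [Matrix.smul_mul, sub_mul, Matrix.smul_mul, one_mul]
      _ = P := by
          rw [hWP, ← sub_smul, smul_smul, show z - z ^ 2 = 2 * z + 1 by linear_combination -hzr,
            inv_mul_cancel₀ hcz.two_ne, one_smul]
  set f : Module.End K (Fin 6 → K) := Matrix.toLin' P with hf
  have hfp : LinearMap.IsProj (LinearMap.range f) f := by
    refine ⟨fun x => LinearMap.mem_range_self f x, ?_⟩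
    rintro _ ⟨x, rfl⟩
    rw [hf, Matrix.toLin'_apply, Matrix.toLin'_apply, Matrix.mulVec_mulVec, hPP]
  -- the eigenspace has dimension three
  have hE : Module.finrank K (LinearMap.range f) = 3 := by
    have ht : (f : Module.End K (Fin 6 → K)).trace K _ = (Module.finrank K (LinearMap.range f) : K) :=
      hfp.trace
    rw [hf, Matrix.trace_toLin'_eq] at ht
    set e := Module.finrank K (LinearMap.range f)
    obtain ⟨t, htq⟩ : ∃ t : ℚ_[p], i₀ t = W.trace := by
      refine ⟨((W₀.trace : ℤ_[p]) : ℚ_[p]), ?_⟩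
      show ι W₀.trace = _
      exact AddMonoidHom.map_trace ι.toAddMonoidHom W₀
    rw [hP, Matrix.trace_smul, Matrix.trace_sub, Matrix.trace_smul, Matrix.trace_one, smul_eq_mul,
      smul_eq_mul, Fintype.card_fin, ← htq, inv_mul_eq_iff_eq_mul₀ hcz.two_ne] at ht
    by_contra he
    have hne : (2 * (e : ℚ_[p]) - 6) ≠ 0 := by
      intro h
      apply he
      have : ((2 * e : ℕ) : ℚ_[p]) = ((6 : ℕ) : ℚ_[p]) := by push_cast; linear_combination h
      have := Nat.cast_injective this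
      omega
    have hze : z = i₀ ((t + 6 - e) / (2 * e - 6)) := by
      have h' : i₀ (2 * (e : ℚ_[p]) - 6) ≠ 0 := (map_ne_zero i₀).2 hne
      rw [map_div₀, eq_div_iff h', map_sub, map_sub, map_add, map_mul, map_ofNat, map_ofNat,
        map_natCast]
      push_cast at ht
      linear_combination -ht - 6 * hzr
    apply no_root h3 ((t + 6 - e) / (2 * e - 6))
    apply i₀.injective
    rw [map_add, map_add, map_pow, map_one, map_zero, ← hze, hzr]
  -- the representation on it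
  have hinv : ∀ g : G, ∀ v ∈ LinearMap.range f, Matrix.toLin' (ρ₆ g) v ∈ LinearMap.range f := by
    rintro g _ ⟨x, rfl⟩
    refine ⟨Matrix.toLin' (ρ₆ g) x, ?_⟩
    have hc : W * ρ₆ g = ρ₆ g * W := by rw [hW, ← map_mul, hwc, map_mul]
    simp only [hf, Matrix.toLin'_apply]
    rw [Matrix.mulVec_mulVec, Matrix.mulVec_mulVec]
    congr 1
    simp only [hP, Matrix.smul_mul, Matrix.mul_smul, sub_mul, mul_sub, hc, one_mul, mul_one]
  let ρ : G →* Module.End K (LinearMap.range f) :=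
    { toFun := fun g => (Matrix.toLin' (ρ₆ g)).restrict (hinv g)
      map_one' := by ext v; simp [LinearMap.restrict_apply]
      map_mul' := fun g h => by ext v; simp [LinearMap.restrict_apply] }
  have hρ : ∀ v, ρ ⁅a, b⁆ v = z • v := by
    rintro ⟨_, x, rfl⟩
    refine Subtype.ext ?_
    show Matrix.toLin' W (f x) = z • f x
    rw [hf, Matrix.toLin'_apply, Matrix.toLin'_apply, Matrix.mulVec_mulVec, hWP, Matrix.smul_mulVec]
  obtain ⟨ψ, hψ⟩ := exists_normal hcz hE ρ ha hb hρ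
  exact ⟨z, hcz, ψ, hψ⟩

end Lift

section Main

variable {F : Type*} [Field F] [Fintype F]

theorem exists_setup {p : ℕ} [Fact p.Prime] (hF : Fintype.card F = p ^ 2) (h3 : p % 3 = 2) {ω : F}
    (h : CubeRoot ω) {M : Subgroup (GL (Fin 3) F)} (hM : ¬ p ∣ Nat.card M) (hA : h.gA ∈ M)
    (hB : gB ∈ M) (hZ : gZ ∈ M) (hQ : ∀ k, h.gQ k ∈ M) :
    ∃ (z : AlgebraicClosure ℚ_[p]) (_ : CubeRoot z) (ψ : M →* GL (Fin 3) (AlgebraicClosure ℚ_[p])),
      ((ψ ⟨h.gA, hA⟩ : Matrix (Fin 3) (Fin 3) (AlgebraicClosure ℚ_[p])) = stA z) ∧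
      ((ψ ⟨gB, hB⟩ : Matrix (Fin 3) (Fin 3) (AlgebraicClosure ℚ_[p])) = stB) ∧
      ((ψ ⟨gZ, hZ⟩ : Matrix (Fin 3) (Fin 3) (AlgebraicClosure ℚ_[p])) = -stS) ∧
      ∀ k, ∃ c : AlgebraicClosure ℚ_[p], 3 * c ^ 2 = -1 ∧
        (ψ ⟨h.gQ k, hQ k⟩ : Matrix (Fin 3) (Fin 3) (AlgebraicClosure ℚ_[p])) = c • stPhi z k := by
  have : CharP F p := charP_of_card_eq_prime_pow hF
  let := ZMod.algebra F p
  have hdim : Module.finrank (ZMod p) F = 2 := by
    have := Module.card_eq_pow_finrank (K := ZMod p) (V := F)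
    rw [ZMod.card, hF] at this
    exact (Nat.pow_right_injective (Fact.out : p.Prime).two_le this).symm
  let bF : Module.Basis (Fin 2) (ZMod p) F := Module.finBasisOfFinrankEq _ _ hdim
  let R : Matrix (Fin 3) (Fin 3) F →+* Matrix (Fin 6) (Fin 6) (ZMod p) :=
    ((Matrix.reindexRingEquiv (ZMod p) finProdFinEquiv).toRingHom.comp
      (Matrix.compRingEquiv (Fin 3) (Fin 2) (ZMod p)).toRingHom).comp
      ((Algebra.leftMulMatrix bF).toRingHom.mapMatrix)
  let φ : M →* GL (Fin 6) (ZMod p) := (Units.map R.toMonoidHom).comp M.subtype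
  set a : M := ⟨h.gA, hA⟩ with ha
  set b : M := ⟨gB, hB⟩ with hb
  set s : M := ⟨gZ, hZ⟩ with hs
  obtain ⟨z, hz, ψ, hψa, hψb, hψw⟩ := exists_std6 h3 hM φ (a := a) (b := b)
    (Subtype.ext h.gA_cube) (Subtype.ext gB_cube) (fun g => Subtype.ext (h.gW_central g.1))
    (by
      show R ((gW h : GL (Fin 3) F) : Matrix (Fin 3) (Fin 3) F) ^ 2 +
        R ((gW h : GL (Fin 3) F) : Matrix (Fin 3) (Fin 3) F) + 1 = 0
      rw [h.gW_val, ← map_pow, ← map_one R, ← map_add, ← map_add, _root_.smul_pow, one_pow,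
        ← add_smul, show (ω ^ 2 + ω) • (1 : Matrix (Fin 3) (Fin 3) F) + 1 = (ω ^ 2 + ω + 1) • 1 by
          rw [add_smul (ω ^ 2 + ω), one_smul], h.rel, zero_smul, map_zero])
    (Subtype.ext h.gW_cube)
  have hs2 : s * s = 1 := Subtype.ext gZ_sq
  have conj : ∀ {u v : M}, s * u * s = v → s * u = v * s := fun {u v} huv => by
    rw [← huv, mul_assoc (s * u), hs2, mul_one]
  have hsa : s * a * s = a ^ 2 := Subtype.ext (Units.ext (by
    simp [hs, ha, gZ_val, CubeRoot.gA_val, h.rel_SA]))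
  have hsb : s * b * s = b ^ 2 := Subtype.ext (Units.ext (by
    simp [hs, hb, gZ_val, gB_val, rel_SB]))
  obtain ⟨d, hd⟩ := hz.eq_smul_stS (X := (ψ s : Matrix (Fin 3) (Fin 3) (AlgebraicClosure ℚ_[p])))
    (by rw [← hψa, ← Units.val_mul, ← map_mul, conj hsa]; simp)
    (by rw [← hψb, ← Units.val_mul, ← map_mul, conj hsb]; simp)
  have key : ∀ k, ∃ c : AlgebraicClosure ℚ_[p], 3 * c ^ 2 = d ∧
      (ψ ⟨h.gQ k, hQ k⟩ : Matrix (Fin 3) (Fin 3) (AlgebraicClosure ℚ_[p])) = c • stPhi z k := by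
    intro k
    set q : M := ⟨h.gQ k, hQ k⟩ with hq
    have hqa : q * a = ⁅a, b⁆ ^ (k : ℕ) * b ^ 2 * a ^ (k : ℕ) * q := Subtype.ext (h.gQ_A k)
    have hqb : q * b = ⁅a, b⁆ ^ (expB k).1 * b ^ (expB k).2.1 * a ^ (expB k).2.2 * q :=
      Subtype.ext (h.gQ_B k)
    obtain ⟨c, hc⟩ := hz.eq_smul_stPhi k (X := (ψ q : Matrix (Fin 3) (Fin 3) (AlgebraicClosure ℚ_[p])))
      (by
        rw [← hψa, ← Units.val_mul, ← map_mul, hqa]
        simp only [map_mul, map_pow, Units.val_mul, Units.val_pow_eq_pow_val, hψa, hψb, hψw,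
          _root_.smul_pow, one_pow, Matrix.smul_mul, one_mul])
      (by
        rw [← hψb, ← Units.val_mul, ← map_mul, hqb]
        simp only [map_mul, map_pow, Units.val_mul, Units.val_pow_eq_pow_val, hψa, hψb, hψw,
          _root_.smul_pow, one_pow, Matrix.smul_mul, one_mul])
    refine ⟨c, ?_, hc⟩
    have hq2 : q * q = s := Subtype.ext (h.gQ_sq k)
    have := congrArg (fun u : M => (ψ u : Matrix (Fin 3) (Fin 3) (AlgebraicClosure ℚ_[p])) 0 0) hq2
    simp only [map_mul, Units.val_mul, hc, hd, Matrix.smul_mul, Matrix.mul_smul, smul_smul,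
      hz.phi_sq] at this
    simp [stS] at this
    linear_combination this
  have hd2 : d ^ 2 = 1 := by
    have := congrArg (fun u : M => (ψ u : Matrix (Fin 3) (Fin 3) (AlgebraicClosure ℚ_[p])) 0 0) hs2
    simpa [hd, Matrix.smul_mul, Matrix.mul_smul, sq_S, smul_smul, sq] using this
  have hd0 : d ≠ 0 := fun e => by simp [e] at hd2
  -- the sign
  have hd1 : d = -1 := by
    obtain ⟨c₀, e₀, h0⟩ := key 0
    obtain ⟨c₁, e₁, h1⟩ := key 1
    have hc : c₀ * c₁ * (2 * z + 1) ≠ 0 := by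
      refine mul_ne_zero (mul_ne_zero ?_ ?_) hz.two_ne <;> intro e
      · exact hd0 (by rw [← e₀, e]; ring)
      · exact hd0 (by rw [← e₁, e]; ring)
    have hq : (⟨h.gQ 1, hQ 1⟩ : M) * ⟨h.gQ 0, hQ 0⟩ = s * (⟨h.gQ 0, hQ 0⟩ * ⟨h.gQ 1, hQ 1⟩) := by
      refine Subtype.ext (Units.ext ?_)
      simp only [hs, Subgroup.coe_mul, Units.val_mul, CubeRoot.gQ_val, gZ_val, Matrix.smul_mul,
        Matrix.mul_smul, h.phi_mul.1, h.phi_mul.2, neg_mul, smul_smul, smul_neg, neg_smul, mul_neg]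
    have := congrArg (fun u : M => (ψ u : Matrix (Fin 3) (Fin 3) (AlgebraicClosure ℚ_[p])) 0 0) hq
    simp only [map_mul, Units.val_mul, h0, h1, hd, Matrix.smul_mul, Matrix.mul_smul, smul_smul,
      hz.phi_mul.1, hz.phi_mul.2] at this
    simp [stS, stPhi, Matrix.mul_apply, Fin.sum_univ_three] at this
    have h2 : (d + 1) * (c₀ * c₁ * (2 * z + 1)) = 0 := by linear_combination -this
    exact eq_neg_of_add_eq_zero_left ((mul_eq_zero.1 h2).resolve_right hc)
  refine ⟨z, hz, ψ, hψa, hψb, by rw [hd, hd1, neg_one_smul], fun k => ?_⟩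
  obtain ⟨c, hc, hc'⟩ := key k
  exact ⟨c, by rw [hc, hd1], hc'⟩

/-- No element squares to the involution and commutes with the quaternion group. -/
theorem false_pauli {p : ℕ} (hp : p.Prime) (hF : Fintype.card F = p ^ 2) (h3 : p % 3 = 2) {ω : F}
    (h : CubeRoot ω) {M : Subgroup (GL (Fin 3) F)} (hM : ¬ p ∣ Nat.card M) (hA : h.gA ∈ M)
    (hB : gB ∈ M) (hQ : ∀ k, h.gQ k ∈ M) {y : GL (Fin 3) F} (hy : y ∈ M)
    (h0 : y * h.gQ 0 = h.gQ 0 * y) (h1 : y * h.gQ 1 = h.gQ 1 * y) (h2 : y * y = gZ) : False := by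
  have := Fact.mk hp
  obtain ⟨z, hz, ψ, ha, hb, hs, hq⟩ :=
    exists_setup hF h3 h hM hA hB (h2 ▸ M.mul_mem hy hy) hQ
  set Y : M := ⟨y, hy⟩ with hY
  have hne : ∀ {c : (AlgebraicClosure ℚ_[p])}, 3 * c ^ 2 = -1 → c ≠ 0 := fun {c} hc h0 => by simp [h0] at hc
  have hcomm : ∀ k, y * h.gQ k = h.gQ k * y →
      (ψ Y : Matrix (Fin 3) (Fin 3) (AlgebraicClosure ℚ_[p])) * stPhi z k =
        stPhi z k * (ψ Y : Matrix (Fin 3) (Fin 3) (AlgebraicClosure ℚ_[p])) := fun k hk => by
    obtain ⟨c, hc, hc'⟩ := hq k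
    have := congrArg (fun u : M => (ψ u : Matrix (Fin 3) (Fin 3) (AlgebraicClosure ℚ_[p])))
      (show Y * ⟨h.gQ k, hQ k⟩ = ⟨h.gQ k, hQ k⟩ * Y from Subtype.ext hk)
    simp only [map_mul, Units.val_mul, hc', Matrix.smul_mul, Matrix.mul_smul] at this
    exact smul_right_injective _ (hne hc) this
  have hsq : (ψ Y : Matrix (Fin 3) (Fin 3) (AlgebraicClosure ℚ_[p])) * (ψ Y : Matrix (Fin 3) (Fin 3) (AlgebraicClosure ℚ_[p])) = -stS := by
    rw [← hs, ← Units.val_mul, ← map_mul]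
    exact congrArg (fun u : M => (ψ u : Matrix (Fin 3) (Fin 3) (AlgebraicClosure ℚ_[p]))) (Subtype.ext h2)
  have hS : (ψ Y : Matrix (Fin 3) (Fin 3) (AlgebraicClosure ℚ_[p])) * stS = stS * (ψ Y : Matrix (Fin 3) (Fin 3) (AlgebraicClosure ℚ_[p])) :=
    neg_injective (by rw [← mul_neg, ← neg_mul, ← hsq, mul_assoc])
  have key := hz.pauli hS (hcomm 0 h0) (hcomm 1 h1) hsq
  have hd : (4 : ℤ) ∣ -81 := SL3Geo60.int_of_isIntegral
    ((SL3Geo60.isIntegral_three_mul hz ψ ha hb Y).2.pow 4) (by norm_num) (by push_cast; linear_combination 81 * key)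
  norm_num at hd

/-- No element squares to an axis of the quaternion group and commutes with it. -/
theorem false_quarter {p : ℕ} (hp : p.Prime) (hF : Fintype.card F = p ^ 2) (h3 : p % 3 = 2) {ω : F}
    (h : CubeRoot ω) {M : Subgroup (GL (Fin 3) F)} (hM : ¬ p ∣ Nat.card M) (hA : h.gA ∈ M)
    (hB : gB ∈ M) (hQ : ∀ k, h.gQ k ∈ M) {y : GL (Fin 3) F} (hy : y ∈ M) (k : Fin 3)
    (hk : y * h.gQ k = h.gQ k * y) (h2 : y * y = h.gQ k) : False := by
  have := Fact.mk hp
  obtain ⟨z, hz, ψ, ha, hb, hs, hq⟩ :=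
    exists_setup hF h3 h hM hA hB (h.gQ_sq k ▸ M.mul_mem (hQ k) (hQ k)) hQ
  set Y : M := ⟨y, hy⟩ with hY
  obtain ⟨c, hc, hc'⟩ := hq k
  have hc0 : c ≠ 0 := fun h0 => by simp [h0] at hc
  have hsq : (ψ Y : Matrix (Fin 3) (Fin 3) (AlgebraicClosure ℚ_[p])) * (ψ Y : Matrix (Fin 3) (Fin 3) (AlgebraicClosure ℚ_[p])) =
      c • stPhi z k := by
    rw [← hc', ← Units.val_mul, ← map_mul]
    exact congrArg (fun u : M => (ψ u : Matrix (Fin 3) (Fin 3) (AlgebraicClosure ℚ_[p]))) (Subtype.ext h2)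
  have hcomm : (ψ Y : Matrix (Fin 3) (Fin 3) (AlgebraicClosure ℚ_[p])) * stPhi z k =
      stPhi z k * (ψ Y : Matrix (Fin 3) (Fin 3) (AlgebraicClosure ℚ_[p])) :=
    smul_right_injective _ hc0 (by
      show c • _ = c • _
      rw [← Matrix.mul_smul, ← Matrix.smul_mul, ← hsq, mul_assoc])
  have hS : (ψ Y : Matrix (Fin 3) (Fin 3) (AlgebraicClosure ℚ_[p])) * stS = stS * (ψ Y : Matrix (Fin 3) (Fin 3) (AlgebraicClosure ℚ_[p])) := by
    refine smul_right_injective _ (three_ne_zero (α := (AlgebraicClosure ℚ_[p]))) ?_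
    show (3 : (AlgebraicClosure ℚ_[p])) • _ = (3 : (AlgebraicClosure ℚ_[p])) • _
    rw [← Matrix.mul_smul, ← Matrix.smul_mul, ← hz.phi_sq k, ← mul_assoc, hcomm, mul_assoc, hcomm, mul_assoc]
  have key := hz.dcase k hS hcomm hc hsq
  have hd : (64 : ℤ) ∣ 729 := SL3Geo60.int_of_isIntegral
    ((SL3Geo60.isIntegral_three_mul hz ψ ha hb Y).1.pow 12) (by norm_num) (by push_cast; exact key)
  norm_num at hd

end Main

end Cfsg.Agent.SU3Geo98.C6
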