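import Cfsg.Agent.SL3Geo34.Rel
import Cfsg.Agent.ZStar.Main
import Cfsg.Agent.PF14.Compose
import Mathlib.GroupTheory.PGroup

/-!
Class six of S5777, case of an isolated involution (helper93).

By the Z*-theorem and the odd order theorem the group has a non-scalar normal subgroup which is abelian
or of class two modulo scalars. An abelian one is centralised by `gZ`, because the square of an element of
order four acts trivially on a commutative algebra without nilpotent elements; one of class two is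
inverted by `gZ` modulo scalars, because a non-scalar element has commutative centraliser. In both cases
the standard generators act by scalars, so the subgroup is the standard group of order 27.
-/

set_option autoImplicit false
set_option linter.unusedSectionVars false
set_option linter.unusedSimpArgs false
set_option linter.style.haveILetI false
open Cfsg

namespace Cfsg.Agent.SU3Geo98.C6.Isolated

open Matrix SL3Geo34

variable {F : Type*} [Field F]

local notation "Mt" => Matrix (Fin 3) (Fin 3) F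

theorem mem_scalars_of_val {g : GL (Fin 3) F} {c : F} (hg : (g : Mt) = c • 1) :
    g ∈ Geo.scalars (Fin 3) F := by
  refine (Geo.mem_scalars_iff g).mpr ⟨Units.mk0 c ?_, hg⟩
  rintro rfl
  exact g.ne_zero (by rw [hg, zero_smul])

theorem cube_one_of_det {g : GL (Fin 3) F} {c : F} (hg : (g : Mt) = c • 1) (hd : (g : Mt).det = 1) :
    c ^ 3 = 1 := by
  rw [hg, det_smul, det_one, mul_one, Fintype.card_fin] at hd
  exact hd

theorem cayley (x : Mt) :
    (2 : F) • (x * x * x) + (x.trace ^ 2 - (x * x).trace) • x =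
      (2 * x.trace) • (x * x) + (2 * x.det) • (1 : Mt) := by
  ext i j
  fin_cases i <;> fin_cases j <;>
    simp [Matrix.mul_apply, Fin.sum_univ_three, Matrix.trace, Matrix.det_fin_three, Matrix.one_apply] <;>
    ring

theorem cube_eq_det {x : Mt} (h2 : (2 : F) ≠ 0) (h1 : x.trace = 0) (hs : (x * x).trace = 0) :
    x * x * x = x.det • 1 := by
  refine smul_right_injective _ h2 ?_
  have h := cayley x
  simp only [h1, hs, mul_zero, zero_smul, zero_pow two_ne_zero, sub_zero, add_zero, zero_add] at h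
  simpa [mul_smul] using h

theorem trace_eq_zero_of_twist {g : GL (Fin 3) F} {x : Mt} {c : F} (hc : c ≠ 1)
    (h : x * (g : Mt) = c • ((g : Mt) * x)) : x.trace = 0 := by
  have e : (((g⁻¹ : GL (Fin 3) F) : Mt) * (x * (g : Mt))).trace = x.trace := by
    rw [← mul_assoc, trace_units_conj']
  rw [h, Matrix.mul_smul, ← mul_assoc, Units.inv_mul, one_mul, trace_smul, smul_eq_mul] at e
  by_contra h0
  exact hc ((mul_eq_right₀ h0).mp e)

theorem trace_sq_eq_zero_of_twist {g : GL (Fin 3) F} {x : Mt} {c : F} (hc : c ^ 2 ≠ 1)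
    (h : x * (g : Mt) = c • ((g : Mt) * x)) : (x * x).trace = 0 := by
  refine trace_eq_zero_of_twist (g := g) hc ?_
  rw [mul_assoc, h, Matrix.mul_smul, ← mul_assoc, h, Matrix.smul_mul, smul_smul, pow_two, mul_assoc]

theorem diag_comm {ω : F} (h : CubeRoot ω) {X Y : Mt} (hX : X * stA ω = stA ω * X)
    (hY : Y * stA ω = stA ω * Y) : X * Y = Y * X := by
  have hw := h.ne_one
  have hw0 := h.ne_zero
  have d : ∀ {Z : Mt}, Z * stA ω = stA ω * Z → ∀ i j : Fin 3, i ≠ j → Z i j = 0 := by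
    intro Z hZ i j hij
    have e := congrArg (fun M : Mt => M i j) hZ
    have hr := h.rel
    fin_cases i <;> fin_cases j <;>
      simp [stA, Matrix.mul_apply, Fin.sum_univ_three] at e hij ⊢ <;> grind
  have a := d hX
  have b := d hY
  ext i j
  fin_cases i <;> fin_cases j <;>
    simp [Matrix.mul_apply, Fin.sum_univ_three, a 0 1 (by decide), a 0 2 (by decide), a 1 0 (by decide),
      a 1 2 (by decide), a 2 0 (by decide), a 2 1 (by decide), b 0 1 (by decide), b 0 2 (by decide),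
      b 1 0 (by decide), b 1 2 (by decide), b 2 0 (by decide), b 2 1 (by decide), mul_comm]

/-- A Heisenberg pair is conjugate to the standard one. -/
theorem exists_frame_pair {c : F} (hc : CubeRoot c) (h2 : (2 : F) ≠ 0) {l m : GL (Fin 3) F}
    (hl : (l : Mt).det = 1) (hm : (m : Mt).det = 1)
    (h : (l : Mt) * (m : Mt) = c • ((m : Mt) * (l : Mt))) :
    ∃ (T : GL (Fin 3) F) (μ : F), μ ≠ 0 ∧ (l : Mt) * (T : Mt) = μ • ((T : Mt) * stA c) ∧
      (m : Mt) * (T : Mt) = (T : Mt) * stB := by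
  have hc1 := hc.ne_one
  have hc2 : c ^ 2 ≠ 1 := fun e => hc1 (by linear_combination hc.cube - c * e)
  have hl3 : (l : Mt) * l * l = 1 := by
    rw [cube_eq_det h2 (trace_eq_zero_of_twist hc1 h) (trace_sq_eq_zero_of_twist hc2 h), hl, one_smul]
  have hm' : (m : Mt) * (l : Mt) = c⁻¹ • ((l : Mt) * (m : Mt)) := by
    rw [h, smul_smul, inv_mul_cancel₀ hc.ne_zero, one_smul]
  have hm3 : (m : Mt) * m * m = 1 := by
    rw [cube_eq_det h2 (trace_eq_zero_of_twist (by rwa [ne_eq, inv_eq_one]) hm')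
      (trace_sq_eq_zero_of_twist (by rwa [inv_pow, ne_eq, inv_eq_one]) hm'), hm, one_smul]
  have hk : ∀ μ : F, μ ^ 3 = 1 → (l : Mt) * (1 + μ • (l : Mt) + μ ^ 2 • ((l : Mt) * l)) =
      μ ^ 2 • (1 + μ • (l : Mt) + μ ^ 2 • ((l : Mt) * l)) := by
    intro μ hμ
    simp only [mul_add, mul_one, Matrix.mul_smul, ← mul_assoc, hl3, smul_add, smul_smul, ← pow_succ,
      ← pow_add]
    rw [hμ, show μ ^ (2 + 2) = μ * μ ^ 3 by ring, hμ, mul_one]
    module
  obtain ⟨e, μ, he, hle, hμ0⟩ : ∃ (e : Fin 3 → F) (μ : F), e ≠ 0 ∧ (l : Mt) *ᵥ e = μ • e ∧ μ ≠ 0 := by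
    have hsum : (1 + (1 : F) • (l : Mt) + (1 : F) ^ 2 • ((l : Mt) * l)) +
        (1 + c • (l : Mt) + c ^ 2 • ((l : Mt) * l)) +
        (1 + c ^ 2 • (l : Mt) + (c ^ 2) ^ 2 • ((l : Mt) * l)) = (3 : F) • 1 := by
      rw [show (c ^ 2) ^ 2 = c by linear_combination c * hc.cube]
      have e1 : c ^ 2 • (l : Mt) = (-1 - c) • (l : Mt) := by
        congr 1; linear_combination hc.rel
      have e2 : c ^ 2 • ((l : Mt) * l) = (-1 - c) • ((l : Mt) * l) := by
        congr 1; linear_combination hc.rel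
      rw [e1, e2]
      module
    obtain ⟨μ, hμ, hne⟩ : ∃ μ : F, μ ^ 3 = 1 ∧ 1 + μ • (l : Mt) + μ ^ 2 • ((l : Mt) * l) ≠ 0 := by
      by_contra hcon
      simp only [not_exists, not_and, not_not] at hcon
      rw [hcon 1 (one_pow 3), hcon c hc.cube,
        hcon (c ^ 2) (by rw [← pow_mul]; linear_combination (c ^ 3 + 1) * hc.cube)] at hsum
      have := congrArg (fun M : Mt => M 0 0) hsum
      simp at this
      exact hc.three this.symm
    set E : Mt := 1 + μ • (l : Mt) + μ ^ 2 • ((l : Mt) * l)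
    obtain ⟨j, hj⟩ : ∃ j, E *ᵥ Pi.single j 1 ≠ 0 := by
      by_contra hcon
      simp only [not_exists, not_not] at hcon
      exact hne (Matrix.ext_of_mulVec_single fun j => by rw [hcon j, Matrix.zero_mulVec])
    refine ⟨_, μ ^ 2, hj, ?_, pow_ne_zero _ fun h0 => by simp [h0] at hμ⟩
    rw [Matrix.mulVec_mulVec, hk μ hμ, Matrix.smul_mulVec]
  let T : Mt := Matrix.of fun i j => (((m : Mt) ^ (j : ℕ)) *ᵥ e) i
  have hT : ∀ j, T *ᵥ Pi.single j 1 = ((m : Mt) ^ (j : ℕ)) *ᵥ e := fun j => by ext i; simp [T]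
  have heig : ∀ k : ℕ, (l : Mt) *ᵥ (((m : Mt) ^ k) *ᵥ e) = (μ * c ^ k) • (((m : Mt) ^ k) *ᵥ e) := by
    intro k
    induction k with
    | zero => simp [hle]
    | succ k ih =>
      rw [pow_succ', ← Matrix.mulVec_mulVec, Matrix.mulVec_mulVec _ (l : Mt), h, Matrix.smul_mulVec,
        ← Matrix.mulVec_mulVec, ih, Matrix.mulVec_smul, smul_smul]
      congr 1
      ring
  have hli : LinearIndependent F (fun j : Fin 3 => T *ᵥ Pi.single j 1) := by
    refine Module.End.eigenvectors_linearIndependent' (Matrix.toLin' (l : Mt))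
      (fun j : Fin 3 => μ * c ^ (j : ℕ)) ?_ _ fun j => ⟨?_, ?_⟩
    · intro a b hab
      have hab' := mul_left_cancel₀ hμ0 hab
      have hc0 := hc.ne_zero
      fin_cases a <;> fin_cases b <;> first | rfl | (simp at hab' ⊢; grind)
    · rw [Module.End.mem_eigenspace_iff, Matrix.toLin'_apply, hT]
      exact heig j
    · rw [hT, ← Units.val_pow_eq_pow_val]
      intro h0
      apply he
      have := congrArg (fun v => ((m ^ (j : ℕ))⁻¹ : GL (Fin 3) F).1 *ᵥ v) h0
      simpa [Matrix.mulVec_mulVec] using this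
  have hTu : IsUnit T := by
    refine Matrix.linearIndependent_cols_iff_isUnit.mp ?_
    convert hli using 1
    funext j i
    simp [Matrix.col]
  refine ⟨hTu.unit, μ, hμ0, ?_, ?_⟩
  · refine Matrix.ext_of_mulVec_single fun j => ?_
    rw [IsUnit.unit_spec, ← Matrix.mulVec_mulVec, hT, heig, Matrix.smul_mulVec, ← Matrix.mulVec_mulVec]
    have hs : stA c *ᵥ Pi.single j 1 = c ^ (j : ℕ) • Pi.single j 1 := by
      ext i; fin_cases j <;> fin_cases i <;> simp [stA]
    rw [hs, Matrix.mulVec_smul, hT, smul_smul]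
  · refine Matrix.ext_of_mulVec_single fun j => ?_
    rw [IsUnit.unit_spec, ← Matrix.mulVec_mulVec, hT, ← Matrix.mulVec_mulVec]
    have hs : stB *ᵥ Pi.single j 1 = Pi.single (j + 1) (1 : F) := by
      ext i; fin_cases j <;> fin_cases i <;> simp [stB]
    rw [hs, hT, Matrix.mulVec_mulVec, ← pow_succ']
    have hm3' : (m : Mt) * ((m : Mt) * (m : Mt)) = 1 := by rw [← mul_assoc, hm3]
    fin_cases j <;> simp [pow_succ, mul_assoc, hm3']

variable {ω : F} (h : CubeRoot ω)

section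

include h

theorem irr {W : Submodule F (Fin 3 → F)} (hA : ∀ v ∈ W, stA ω *ᵥ v ∈ W)
    (hB : ∀ v ∈ W, stB *ᵥ v ∈ W) : W = ⊥ ∨ W = ⊤ := by
  refine or_iff_not_imp_left.mpr fun hW => ?_
  obtain ⟨x, hx, hx0⟩ := W.ne_bot_iff.mp hW
  obtain ⟨v, hv, hv0⟩ : ∃ v ∈ W, v 0 ≠ 0 := by
    obtain ⟨i, hi⟩ := Function.ne_iff.mp hx0
    fin_cases i
    · exact ⟨x, hx, hi⟩
    · refine ⟨_, hB _ (hB _ hx), ?_⟩
      simpa [stB, Matrix.mulVec, dotProduct, Fin.sum_univ_three] using hi
    · refine ⟨_, hB _ hx, ?_⟩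
      simpa [stB, Matrix.mulVec, dotProduct, Fin.sum_univ_three] using hi
  have he : (Pi.single 0 1 : Fin 3 → F) ∈ W := by
    have hs : (3 * v 0) • (Pi.single 0 1 : Fin 3 → F) = v + stA ω *ᵥ v + stA ω *ᵥ (stA ω *ᵥ v) := by
      have hr := h.rel
      ext i
      fin_cases i <;> simp [stA, Matrix.mulVec, dotProduct, Fin.sum_univ_three, Matrix.vecHead, Matrix.vecTail] <;> grind
    rw [← Submodule.smul_mem_iff W (mul_ne_zero h.three hv0), hs]
    exact W.add_mem (W.add_mem hv (hA _ hv)) (hA _ (hA _ hv))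
  refine eq_top_iff.mpr fun y _ => ?_
  have hy : y = y 0 • (Pi.single 0 1 : Fin 3 → F) + y 1 • (stB *ᵥ Pi.single 0 1) +
      y 2 • (stB *ᵥ (stB *ᵥ Pi.single 0 1)) := by
    ext i
    fin_cases i <;> simp [stB, Matrix.mulVec, dotProduct, Fin.sum_univ_three]
  rw [hy]
  exact W.add_mem (W.add_mem (W.smul_mem _ he) (W.smul_mem _ (hB _ he))) (W.smul_mem _ (hB _ (hB _ he)))

theorem mem_scalars_of_commute {g : GL (Fin 3) F} (hA : g * h.gA = h.gA * g) (hB : g * gB = gB * g) :
    g ∈ Geo.scalars (Fin 3) F := by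
  obtain ⟨c, hc⟩ := h.eq_smul_one (X := (g : Mt))
    (by rw [← h.gA_val, ← Units.val_mul, hA, Units.val_mul])
    (by rw [← gB_val, ← Units.val_mul, hB, Units.val_mul])
  exact mem_scalars_of_val hc

theorem gZ_conj_A : h.gA * gZ * h.gA⁻¹ * gZ = h.gA * h.gA := by
  have := h.gZ_A
  rw [show h.gA * gZ * h.gA⁻¹ * gZ = h.gA * (gZ * h.gA⁻¹ * gZ) by group, ← this]
  simp [mul_assoc, gZ_sq]
  rw [← mul_assoc gZ gZ, gZ_sq, one_mul]

theorem gZ_conj_B : gB * gZ * gB⁻¹ * gZ = gB * (gB : GL (Fin 3) F) := by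
  rw [show gB * gZ * gB⁻¹ * gZ = gB * (gZ * gB⁻¹ * (gZ : GL (Fin 3) F)) by group, ← h.gZ_B]
  simp [mul_assoc, gZ_sq]
  rw [← mul_assoc gZ gZ, gZ_sq, one_mul]

theorem mem_stR_of_scalar {g : GL (Fin 3) F} {c : F} (hg : (g : Mt) = c • 1) (hc : c ^ 3 = 1) :
    g ∈ stR h := by
  have : c = 1 ∨ c = ω ∨ c = ω ^ 2 := by
    have e : (c - 1) * ((c - ω) * (c - ω ^ 2)) = 0 := by
      linear_combination hc + (-(c ^ 2) + c) * h.rel + (c - 1) * h.cube
    simpa [mul_eq_zero, sub_eq_zero] using e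
  rcases this with rfl | rfl | rfl
  · have : g = 1 := Units.ext (by simpa using hg)
    exact this ▸ one_mem _
  · have : g = gW h := Units.ext (by rw [hg, h.gW_val])
    exact this ▸ h.gW_mem
  · have : g = gW h ^ 2 := Units.ext (by rw [hg, h.gW_pow_val])
    exact this ▸ pow_mem h.gW_mem 2

theorem mem_stR_of_twist {l : GL (Fin 3) F} (hl : (l : Mt).det = 1) {a b : F} (ha : a ^ 3 = 1)
    (hb : b ^ 3 = 1) (hA : (h.gA : Mt) * (l : Mt) = a • ((l : Mt) * (h.gA : Mt)))
    (hB : (gB : GL (Fin 3) F).1 * (l : Mt) = b • ((l : Mt) * (gB : GL (Fin 3) F).1)) :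
    l ∈ stR h := by
  have roots : ∀ {c : F}, c ^ 3 = 1 → ∃ k : ℕ, c = ω ^ k := by
    intro c hc
    have e : (c - 1) * ((c - ω) * (c - ω ^ 2)) = 0 := by
      linear_combination hc + (-(c ^ 2) + c) * h.rel + (c - 1) * h.cube
    simp [mul_eq_zero, sub_eq_zero] at e
    rcases e with e | e | e
    · exact ⟨0, by simpa using e⟩
    · exact ⟨1, by simpa using e⟩
    · exact ⟨2, e⟩
  obtain ⟨j, rfl⟩ := roots ha
  obtain ⟨i, rfl⟩ := roots hb
  have eAB : stA ω * stB = ω • (stB * stA ω) := by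
    rw [h.rel_BA, smul_smul, show ω * ω ^ 2 = 1 by linear_combination h.cube, one_smul]
  have pw : ∀ (X Y : Mt) (c : F), X * Y = c • (Y * X) → ∀ n : ℕ, X * Y ^ n = c ^ n • (Y ^ n * X) := by
    intro X Y c hXY n
    induction n with
    | zero => simp
    | succ n ih =>
      rw [pow_succ, ← mul_assoc, ih, Matrix.smul_mul, mul_assoc, hXY, Matrix.mul_smul, smul_smul,
        mul_assoc, ← pow_succ]
  set r : GL (Fin 3) F := h.gA ^ (2 * i) * gB ^ j with hr
  have hrm : r ∈ stR h := mul_mem (pow_mem h.gA_mem _) (pow_mem h.gB_mem _)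
  have rA : (h.gA : Mt) * (r : Mt) = ω ^ j • ((r : Mt) * (h.gA : Mt)) := by
    rw [hr, Units.val_mul, Units.val_pow_eq_pow_val, Units.val_pow_eq_pow_val, h.gA_val, gB_val,
      ← mul_assoc, ← pow_succ', pow_succ, mul_assoc, pw _ _ _ eAB, Matrix.mul_smul, ← mul_assoc]
  have rB : (gB : GL (Fin 3) F).1 * (r : Mt) = ω ^ i • ((r : Mt) * (gB : GL (Fin 3) F).1) := by
    rw [hr, Units.val_mul, Units.val_pow_eq_pow_val, Units.val_pow_eq_pow_val, h.gA_val, gB_val,
      ← mul_assoc, pw _ _ _ h.rel_BA, Matrix.smul_mul, mul_assoc (stA ω ^ (2 * i)),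
      mul_assoc (stA ω ^ (2 * i)), ← pow_succ, ← pow_succ', ← pow_mul]
    congr 1
    rw [show 2 * (2 * i) = 3 * i + i by ring, pow_add, pow_mul, h.cube, one_pow, one_mul]
  have comm : ∀ (X : GL (Fin 3) F) (c : F), (X : Mt) * (l : Mt) = c • ((l : Mt) * (X : Mt)) →
      (X : Mt) * (r : Mt) = c • ((r : Mt) * (X : Mt)) → c ≠ 0 → l * r⁻¹ * X = X * (l * r⁻¹) := by
    intro X c h1 h2 hc
    apply Units.ext
    have h3 : ((r⁻¹ : GL (Fin 3) F) : Mt) * (X : Mt) =
        c • ((X : Mt) * ((r⁻¹ : GL (Fin 3) F) : Mt)) := by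
      calc ((r⁻¹ : GL (Fin 3) F) : Mt) * (X : Mt)
          = ((r⁻¹ : GL (Fin 3) F) : Mt) * ((X : Mt) * (r : Mt)) * ((r⁻¹ : GL (Fin 3) F) : Mt) := by
            rw [mul_assoc, mul_assoc (X : Mt), Units.mul_inv, mul_one]
        _ = _ := by
            rw [h2, Matrix.mul_smul, ← mul_assoc, Units.inv_mul, one_mul, Matrix.smul_mul]
    rw [Units.val_mul, Units.val_mul, Units.val_mul, Units.val_mul, mul_assoc, h3, Matrix.mul_smul,
      ← mul_assoc (l : Mt), ← Matrix.smul_mul, ← h1, mul_assoc]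
  obtain ⟨c, hc⟩ := h.eq_smul_one (X := ((l * r⁻¹ : GL (Fin 3) F) : Mt))
    (by rw [← h.gA_val, ← Units.val_mul, comm _ _ hA rA (pow_ne_zero _ h.ne_zero), Units.val_mul])
    (by rw [← gB_val, ← Units.val_mul, comm _ _ hB rB (pow_ne_zero _ h.ne_zero), Units.val_mul])
  have hrd : (r : Mt).det = 1 := congrArg Units.val (h.le_special hrm)
  have hd : ((l * r⁻¹ : GL (Fin 3) F) : Mt).det = 1 := by
    have hri : ((r⁻¹ : GL (Fin 3) F) : Mt).det = 1 := congrArg Units.val (h.le_special (inv_mem hrm))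
    rw [Units.val_mul, det_mul, hl, hri, mul_one]
  have := mul_mem (mem_stR_of_scalar h hc (cube_one_of_det hc hd)) hrm
  rwa [inv_mul_cancel_right] at this

end

variable {M L : Subgroup (GL (Fin 3) F)}

/-- The hypotheses on the group. -/
structure Setup (h : CubeRoot ω) (M : Subgroup (GL (Fin 3) F)) : Prop where
  det : ∀ g ∈ M, (g : Mt).det = 1
  two : (2 : F) ≠ 0
  gA : h.gA ∈ M
  gB : gB ∈ M
  gQ : h.gQ 0 ∈ M
  root : ∃ τ : F, τ ^ 2 = -1

namespace Setup

variable {h} (C : Setup h M)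
include C

theorem gZ_mem : gZ ∈ M := h.gQ_sq 0 ▸ mul_mem C.gQ C.gQ

/-- An abelian normal subgroup is scalar. -/
theorem comm_case (hn : ∀ g ∈ M, ∀ x ∈ L, g * x * g⁻¹ ∈ L) (hc : ∀ x ∈ L, ∀ y ∈ L, x * y = y * x) :
    L ≤ Geo.scalars (Fin 3) F := by
  classical
  set K : Submodule F Mt := Submodule.span F ((fun g : GL (Fin 3) F => (g : Mt)) '' L) with hK
  have hKc : ∀ x ∈ K, ∀ y ∈ K, x * y = y * x := by
    intro x hx
    induction hx using Submodule.span_induction with
    | mem x hx =>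
      obtain ⟨a, ha, rfl⟩ := hx
      intro y hy
      induction hy using Submodule.span_induction with
      | mem y hy =>
        obtain ⟨b, hb, rfl⟩ := hy
        exact congrArg Units.val (hc a ha b hb)
      | zero => simp
      | add u v _ _ hu hv => rw [mul_add, add_mul, hu, hv]
      | smul t u _ hu => rw [Matrix.mul_smul, Matrix.smul_mul, hu]
    | zero => simp
    | add u v _ _ hu hv => intro y hy; rw [mul_add, add_mul, hu y hy, hv y hy]
    | smul t u _ hu => intro y hy; rw [Matrix.mul_smul, Matrix.smul_mul, hu y hy]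
  have hKn : ∀ g ∈ M, ∀ x ∈ K, (g : Mt) * x * ((g⁻¹ : GL (Fin 3) F) : Mt) ∈ K := by
    intro g hg x hx
    induction hx using Submodule.span_induction with
    | mem x hx =>
      obtain ⟨a, ha, rfl⟩ := hx
      exact Submodule.subset_span ⟨g * a * g⁻¹, hn g hg a ha, by simp⟩
    | zero => simp
    | add u v _ _ hu hv => rw [mul_add, add_mul]; exact K.add_mem hu hv
    | smul t u _ hu => rw [Matrix.mul_smul, Matrix.smul_mul]; exact K.smul_mem t hu
  have hz : ∀ l ∈ L, gZ * l = l * gZ := by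
    intro l hl
    by_contra hne
    obtain ⟨τ, hτ⟩ := C.root
    set φ : Mt → Mt := fun x => (h.gQ 0 : Mt) * x * (((h.gQ 0)⁻¹ : GL (Fin 3) F) : Mt) with hφ
    have hzi : ((gZ : GL (Fin 3) F)⁻¹) = gZ := inv_eq_of_mul_eq_one_right gZ_sq
    have hφ2 : ∀ x, φ (φ x) = (gZ : GL (Fin 3) F).1 * x * (gZ : GL (Fin 3) F).1 := by
      intro x
      have e : ((h.gQ 0)⁻¹ * (h.gQ 0)⁻¹ : GL (Fin 3) F) = gZ := by
        rw [← _root_.mul_inv_rev, h.gQ_sq, hzi]
      conv_rhs => rw [show ((gZ : GL (Fin 3) F).1 * x * (gZ : GL (Fin 3) F).1) =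
        ((h.gQ 0 * h.gQ 0 : GL (Fin 3) F) : Mt) * x *
          (((h.gQ 0)⁻¹ * (h.gQ 0)⁻¹ : GL (Fin 3) F) : Mt) by rw [h.gQ_sq, e]]
      simp only [hφ, Units.val_mul, mul_assoc]
    set y : Mt := (l : Mt) - (gZ : GL (Fin 3) F).1 * l * (gZ : GL (Fin 3) F).1 with hy
    have hyK : y ∈ K := by
      refine K.sub_mem (Submodule.subset_span ⟨l, hl, rfl⟩) ?_
      have := hKn _ C.gZ_mem _ (Submodule.subset_span ⟨l, hl, rfl⟩)
      rwa [hzi] at this
    have hy0 : y ≠ 0 := fun e => hne (Units.ext (by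
      rw [sub_eq_zero] at e
      rw [Units.val_mul, Units.val_mul]
      conv_lhs => rw [e]
      rw [← mul_assoc, ← mul_assoc, ← Units.val_mul gZ gZ, gZ_sq, Units.val_one, one_mul]))
    have hφy : φ (φ y) = -y := by
      have hzz : (gZ : GL (Fin 3) F).1 * (gZ : GL (Fin 3) F).1 = 1 := by
        rw [← Units.val_mul, gZ_sq, Units.val_one]
      rw [hφ2, hy, mul_sub, sub_mul, neg_sub]
      congr 1
      simp only [mul_assoc, hzz, mul_one]
      simp only [← mul_assoc, hzz, one_mul]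
    have hφl : ∀ (t : F) (a b : Mt), φ (a - t • b) = φ a - t • φ b := fun t a b => by
      simp [hφ, mul_sub, sub_mul]
    obtain ⟨x, hx, hx0, t, ht, hxt⟩ :
        ∃ x ∈ K, x ≠ 0 ∧ ∃ t : F, t ^ 2 = -1 ∧ φ x = t • x := by
      by_cases e : y - τ • φ y = 0
      · refine ⟨y, hyK, hy0, -τ, by rw [neg_sq, hτ], ?_⟩
        rw [sub_eq_zero] at e
        conv_rhs => rw [e]
        rw [smul_smul, show -τ * τ = 1 by linear_combination -hτ, one_smul]
      · refine ⟨_, K.sub_mem hyK (K.smul_mem τ (hKn _ C.gQ _ hyK)), e, τ, hτ, ?_⟩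
        rw [hφl, hφy, smul_sub, smul_smul, show τ * τ = -1 by linear_combination hτ, smul_neg]
        module
    have ht1 : t ≠ 1 := fun e => C.two (by rw [e] at ht; linear_combination ht)
    have htw : x * (h.gQ 0 : Mt) = t⁻¹ • ((h.gQ 0 : Mt) * x) := by
      have ht0 : t ≠ 0 := fun e => by simp [e] at ht
      have := congrArg (· * (h.gQ 0 : Mt)) hxt
      simp only [hφ, mul_assoc, Units.inv_mul, mul_one, Matrix.smul_mul] at this
      rw [this, smul_smul, inv_mul_cancel₀ ht0, one_smul]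
    have hd : x.det = 0 := by
      have e := congrArg Matrix.det hxt
      simp only [hφ, det_units_conj, det_smul, Fintype.card_fin] at e
      by_contra h0
      have e1 : t ^ 3 = 1 := (mul_eq_right₀ h0).mp e.symm
      have e2 : t = -1 := by linear_combination t * ht - e1
      exact C.two (by rw [e2] at ht; linear_combination ht)
    have hx3 : x * x * x = 0 := by
      rw [cube_eq_det C.two (trace_eq_zero_of_twist (g := h.gQ 0) (by rwa [ne_eq, inv_eq_one]) htw)
        (trace_sq_eq_zero_of_twist (g := h.gQ 0) ?_ htw), hd, zero_smul]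
      rw [inv_pow, ht, ne_eq, inv_eq_one]
      exact fun e => C.two (by linear_combination -e)
    set S : Set Mt := {s | s ∈ K ∧ s * s * s = 0}
    obtain ⟨U, hU⟩ := exists_minimal_of_wellFoundedLT
      (fun U : Submodule F (Fin 3 → F) => U ≠ ⊥ ∧ ∀ s ∈ S, ∀ v ∈ U, s *ᵥ v ∈ U)
      ⟨⊤, top_ne_bot, fun s _ v _ => Submodule.mem_top⟩
    obtain ⟨⟨hU0, hUS⟩, hUmin⟩ := hU
    have hker : ∀ s ∈ S, ∀ v ∈ U, s *ᵥ v = 0 := by
      intro s hs
      have hle : U ⊓ LinearMap.ker (Matrix.toLin' s) ≤ U := inf_le_left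
      refine fun v hv => LinearMap.mem_ker.mp (((le_inf_iff.mp (hUmin ?_ hle)).2) hv)
      refine ⟨?_, fun r hr w hw => ⟨hUS r hr w hw.1, ?_⟩⟩
      · intro hb
        obtain ⟨u, hu, hu0⟩ := U.ne_bot_iff.mp hU0
        have inj : ∀ w ∈ U, s *ᵥ w = 0 → w = 0 := fun w hw e => by
          have : w ∈ U ⊓ LinearMap.ker (Matrix.toLin' s) := ⟨hw, by simpa using e⟩
          rwa [hb, Submodule.mem_bot] at this
        refine hu0 (inj _ hu (inj _ (hUS s hs _ hu) (inj _ (hUS s hs _ (hUS s hs _ hu)) ?_)))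
        rw [Matrix.mulVec_mulVec, Matrix.mulVec_mulVec, hs.2, Matrix.zero_mulVec]
      · have e : s *ᵥ w = 0 := by simpa using hw.2
        simp [Matrix.mulVec_mulVec, hKc s hs.1 r hr.1]
        rw [← Matrix.mulVec_mulVec, e, Matrix.mulVec_zero]
    let W : Submodule F (Fin 3 → F) :=
      { carrier := {v | ∀ s ∈ S, s *ᵥ v = 0}
        add_mem' := fun {a b} ha hb s hs => by rw [Matrix.mulVec_add, ha s hs, hb s hs, add_zero]
        zero_mem' := fun s _ => Matrix.mulVec_zero s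
        smul_mem' := fun c a ha s hs => by rw [Matrix.mulVec_smul, ha s hs, smul_zero] }
    have hWg : ∀ g ∈ M, ∀ v ∈ W, (g : Mt) *ᵥ v ∈ W := by
      intro g hg v hv s hs
      have hs' : ((g⁻¹ : GL (Fin 3) F) : Mt) * s * (g : Mt) ∈ S := by
        refine ⟨by simpa using hKn g⁻¹ (inv_mem hg) s hs.1, ?_⟩
        calc _ = ((g⁻¹ : GL (Fin 3) F) : Mt) * (s * s * s) * (g : Mt) := by
              simp only [mul_assoc, Units.mul_inv_cancel_left]
          _ = 0 := by rw [hs.2]; simp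
      have := congrArg ((g : Mt) *ᵥ ·) (hv _ hs')
      simp only [Matrix.mulVec_mulVec, Matrix.mulVec_zero, ← mul_assoc, Units.mul_inv, one_mul] at this
      rw [Matrix.mulVec_mulVec]
      exact this
    rcases irr h (W := W) (fun v hv => h.gA_val ▸ hWg _ C.gA v hv)
        (fun v hv => gB_val (F := F) ▸ hWg _ C.gB v hv) with hW | hW
    · exact hU0 (le_bot_iff.mp (hW ▸ fun v hv s hs => hker s hs v hv))
    · refine hx0 (Matrix.ext_of_mulVec_single fun j => ?_)
      rw [Matrix.zero_mulVec]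
      exact (hW ▸ Submodule.mem_top : Pi.single j 1 ∈ W) x ⟨hx, hx3⟩
  intro l hl
  have hgz : ∀ g ∈ M, g * gZ * g⁻¹ * l = l * (g * gZ * g⁻¹) := by
    intro g hg
    have := hz _ (by simpa using hn g⁻¹ (inv_mem hg) l hl)
    calc g * gZ * g⁻¹ * l = g * (gZ * (g⁻¹ * l * g)) * g⁻¹ := by group
      _ = g * (g⁻¹ * l * g * gZ) * g⁻¹ := by rw [this]
      _ = _ := by group
  have key : ∀ g ∈ M, ∀ x, g * gZ * g⁻¹ * gZ = x * x → x ^ 3 = 1 → l * x = x * l := by
    intro g hg x e h3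
    have h1 : Commute l (x * x) := e ▸ Commute.mul_right (hgz g hg).symm (hz l hl).symm
    have h2 : x = x * x * (x * x) := by
      rw [show x * x * (x * x) = x ^ 3 * x by simp [pow_succ, mul_assoc], h3, one_mul]
    rw [h2]
    exact (h1.mul_right h1).eq
  exact mem_scalars_of_commute h (key _ C.gA _ (gZ_conj_A h) h.gA_cube)
    (key _ C.gB _ (gZ_conj_B h) gB_cube)

/-- A normal subgroup with scalar commutators and scalar centre lies in the standard group. -/
theorem two_case (hL : L ≤ M) (hn : ∀ g ∈ M, ∀ x ∈ L, g * x * g⁻¹ ∈ L)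
    (hsc : ∀ x ∈ L, ∀ y ∈ L, x * y * x⁻¹ * y⁻¹ ∈ Geo.scalars (Fin 3) F)
    (hZ : ∀ x ∈ L, (∀ y ∈ L, x * y = y * x) → x ∈ Geo.scalars (Fin 3) F)
    (hodd : ∀ x ∈ L, x * x = 1 → x = 1) : L ≤ stR h := by
  have hrel : ∀ x ∈ L, ∀ y ∈ L, ∃ c : F, c ^ 3 = 1 ∧ (x : Mt) * y = c • ((y : Mt) * x) := by
    intro x hx y hy
    obtain ⟨c, hc⟩ := (Geo.mem_scalars_iff _).mp (hsc x hx y hy)
    refine ⟨c, cube_one_of_det hc (C.det _ (mul_mem (mul_mem (mul_mem (hL hx) (hL hy))
      (inv_mem (hL hx))) (inv_mem (hL hy)))), ?_⟩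
    have e : x * y = x * y * x⁻¹ * y⁻¹ * (y * x) := by group
    rw [← Units.val_mul, e, Units.val_mul, hc, Matrix.smul_mul, one_mul, Units.val_mul]
  have hzne : ∀ c : F, (gZ : GL (Fin 3) F).1 ≠ c • (1 : Mt) := fun c e => by
    have e1 := congrArg (fun M : Mt => M 1 2) e
    simp [gZ_val, stS] at e1
  have hzi : ((gZ : GL (Fin 3) F)⁻¹) = gZ := inv_eq_of_mul_eq_one_right gZ_sq
  -- fixed point free
  have hfpf : ∀ l ∈ L, gZ * l = l * gZ → l ∈ Geo.scalars (Fin 3) F := by
    intro l hl hzl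
    by_contra hls
    obtain ⟨m₀, hm₀, hne⟩ : ∃ m ∈ L, l * m ≠ m * l := by
      by_contra hcon
      simp only [not_exists, not_and, not_not] at hcon
      exact hls (hZ l hl hcon)
    obtain ⟨c, hc3, hrc⟩ := hrel l hl m₀ hm₀
    have hc1 : c ≠ 1 := fun e => hne (Units.ext (by simpa [e] using hrc))
    have hcr : CubeRoot c := ⟨by
      refine mul_left_cancel₀ (sub_ne_zero.mpr hc1) ?_
      linear_combination hc3, h.three⟩
    obtain ⟨T, μ, hμ, hTl, hTm⟩ := exists_frame_pair hcr C.two (C.det _ (hL hl)) (C.det _ (hL hm₀)) hrc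
    have pull : ∀ X : GL (Fin 3) F, X * l = l * X →
        ((T⁻¹ * X * T : GL (Fin 3) F) : Mt) * stA c = stA c * ((T⁻¹ * X * T : GL (Fin 3) F) : Mt) := by
      intro X hX
      have eA : stA c = μ⁻¹ • ((T⁻¹ * l * T : GL (Fin 3) F) : Mt) := by
        rw [Units.val_mul, Units.val_mul, mul_assoc, hTl, Matrix.mul_smul, ← mul_assoc, Units.inv_mul,
          one_mul, smul_smul, inv_mul_cancel₀ hμ, one_smul]
      rw [eA, Matrix.mul_smul, Matrix.smul_mul, ← Units.val_mul, ← Units.val_mul]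
      congr 2
      calc T⁻¹ * X * T * (T⁻¹ * l * T) = T⁻¹ * (X * l) * T := by group
        _ = T⁻¹ * (l * X) * T := by rw [hX]
        _ = _ := by group
    have hcen : ∀ X Y : GL (Fin 3) F, X * l = l * X → Y * l = l * Y → X * Y = Y * X := by
      intro X Y hX hY
      have := diag_comm hcr (pull X hX) (pull Y hY)
      rw [← Units.val_mul, ← Units.val_mul] at this
      have e := Units.ext this
      calc X * Y = T * ((T⁻¹ * X * T) * (T⁻¹ * Y * T)) * T⁻¹ := by group
        _ = T * ((T⁻¹ * Y * T) * (T⁻¹ * X * T)) * T⁻¹ := by rw [e]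
        _ = _ := by group
    have hzm : ∀ m ∈ L, l * m ≠ m * l → gZ * m = m * gZ := by
      intro m hm hlm
      obtain ⟨d, -, hd⟩ := hrel l hl m hm
      set n := gZ * m * gZ * m⁻¹ with hndef
      have hnL : n ∈ L := mul_mem (by simpa [hzi] using hn _ C.gZ_mem m hm) (inv_mem hm)
      have hnl : n * l = l * n := by
        apply Units.ext
        have h1 : (l : Mt) * ((gZ * m * gZ : GL (Fin 3) F) : Mt) =
            d • (((gZ * m * gZ : GL (Fin 3) F) : Mt) * (l : Mt)) := by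
          have hzv := congrArg Units.val hzl
          simp only [Units.val_mul] at hzv ⊢
          rw [← mul_assoc, ← mul_assoc, ← hzv, mul_assoc (gZ : GL (Fin 3) F).1 (l : Mt) (m : Mt), hd,
            Matrix.mul_smul, Matrix.smul_mul]
          congr 1
          simp only [mul_assoc]
          rw [hzv]
        have h3 : ((m⁻¹ : GL (Fin 3) F) : Mt) * (l : Mt) = d • ((l : Mt) * ((m⁻¹ : GL (Fin 3) F) : Mt)) := by
          calc _ = ((m⁻¹ : GL (Fin 3) F) : Mt) * ((l : Mt) * (m : Mt)) * ((m⁻¹ : GL (Fin 3) F) : Mt) := by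
                rw [mul_assoc, mul_assoc (l : Mt), Units.mul_inv, mul_one]
            _ = _ := by rw [hd, Matrix.mul_smul, ← mul_assoc, Units.inv_mul, one_mul, Matrix.smul_mul]
        rw [hndef, Units.val_mul _ l, Units.val_mul l, Units.val_mul _ m⁻¹, mul_assoc, h3,
          Matrix.mul_smul, ← mul_assoc, ← mul_assoc, ← Matrix.smul_mul, ← h1]
      have e := hcen gZ n hzl hnl
      have hinv : gZ * n * gZ = n⁻¹ := by
        have : gZ * n * gZ = gZ * gZ * (m * gZ * m⁻¹ * gZ) := by rw [hndef]; group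
        rw [this, gZ_sq, one_mul, hndef]
        simp [_root_.mul_inv_rev, hzi, mul_assoc]
      have hn1 : n = 1 := by
        refine hodd n hnL ?_
        rw [e, mul_assoc, gZ_sq, mul_one] at hinv
        nth_rw 2 [hinv]
        exact mul_inv_cancel n
      calc gZ * m = n * (m * gZ⁻¹) := by rw [hndef]; group
        _ = m * gZ := by rw [hn1, one_mul, hzi]
    have hall : ∀ m ∈ L, gZ * m = m * gZ := by
      intro m hm
      by_cases hlm : l * m = m * l
      · have hne2 : l * (m * m₀) ≠ m * m₀ * l := fun e => hne (mul_left_cancel (a := m) (by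
          calc m * (l * m₀) = (m * l) * m₀ := by group
            _ = (l * m) * m₀ := by rw [hlm]
            _ = m * (m₀ * l) := by rw [mul_assoc, e]; group))
        have e1 := hzm _ (mul_mem hm hm₀) hne2
        have e2 := hzm _ hm₀ hne
        calc gZ * m = gZ * (m * m₀) * m₀⁻¹ := by group
          _ = m * (m₀ * gZ) * m₀⁻¹ := by rw [e1]; group
          _ = m * gZ := by rw [← e2]; group
      · exact hzm m hm hlm
    set Z' : GL (Fin 3) F := T⁻¹ * gZ * T with hZ'
    have hZB : (Z' : Mt) * stB = stB * (Z' : Mt) := by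
      have eB : stB = ((T⁻¹ * m₀ * T : GL (Fin 3) F) : Mt) := by
        rw [Units.val_mul, Units.val_mul, mul_assoc, hTm, ← mul_assoc, Units.inv_mul, one_mul]
      rw [eB, ← Units.val_mul, ← Units.val_mul]
      congr 1
      calc Z' * (T⁻¹ * m₀ * T) = T⁻¹ * (gZ * m₀) * T := by rw [hZ']; group
        _ = T⁻¹ * (m₀ * gZ) * T := by rw [hall m₀ hm₀]
        _ = _ := by rw [hZ']; group
    obtain ⟨a, ha⟩ := hcr.eq_smul_one (pull gZ hzl) hZB
    refine hzne a ?_
    rw [show (gZ : GL (Fin 3) F) = T * Z' * T⁻¹ by rw [hZ']; group, Units.val_mul, Units.val_mul, ha,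
      Matrix.mul_smul, mul_one, Matrix.smul_mul, Units.mul_inv]
  -- inversion
  have hinvert : ∀ l ∈ L, l * (gZ * l * gZ) ∈ Geo.scalars (Fin 3) F := by
    intro l hl
    have hl' : gZ * l * gZ ∈ L := by simpa [hzi] using hn _ C.gZ_mem l hl
    refine hfpf _ (mul_mem hl hl') ?_
    obtain ⟨c, hc3, hc⟩ := hrel _ hl' _ hl
    set n := l * (gZ * l * gZ) with hndef
    have hzn : gZ * n * gZ = gZ * l * gZ * l := by
      rw [hndef]
      simp only [mul_assoc]
      rw [gZ_sq, mul_one]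
    have e1 : ((gZ * n * gZ : GL (Fin 3) F) : Mt) = c • (n : Mt) := by
      rw [hzn, hndef, Units.val_mul, hc, Units.val_mul l]
    have e2 : (n : Mt) = (c * c) • (n : Mt) := by
      have hzz : (gZ : GL (Fin 3) F).1 * (gZ : GL (Fin 3) F).1 = 1 := by
        rw [← Units.val_mul, gZ_sq, Units.val_one]
      calc (n : Mt) = (gZ : GL (Fin 3) F).1 * ((gZ * n * gZ : GL (Fin 3) F) : Mt) * (gZ : GL (Fin 3) F).1 := by
            simp only [Units.val_mul, ← mul_assoc, hzz, one_mul]
            rw [mul_assoc, hzz, mul_one]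
        _ = c • ((gZ * n * gZ : GL (Fin 3) F) : Mt) := by
            rw [e1, Matrix.mul_smul, Matrix.smul_mul, ← e1, Units.val_mul (gZ * n) gZ, Units.val_mul gZ n]
        _ = _ := by rw [e1, smul_smul]
    have hcc : c * c = 1 := by
      have e3 : (c * c - 1) • (n : Mt) = 0 := by rw [sub_smul, one_smul, ← e2, sub_self]
      exact sub_eq_zero.mp ((smul_eq_zero.mp e3).resolve_right n.ne_zero)
    have hc1 : c = 1 := by linear_combination hc3 - c * hcc
    rw [hc1, one_smul] at e1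
    have e4 : gZ * n * gZ = n := Units.ext e1
    conv_rhs => rw [← e4]
    rw [mul_assoc, gZ_sq, mul_one]
  have hinv2 : ∀ g ∈ M, ∀ l ∈ L, l * (g * gZ * g⁻¹ * l * (g * gZ * g⁻¹)) ∈ Geo.scalars (Fin 3) F := by
    intro g hg l hl
    have := (Geo.scalars_normal (ι := Fin 3) (F := F)).conj_mem _
      (hinvert _ (by simpa using hn g⁻¹ (inv_mem hg) l hl)) g
    convert this using 1
    group
  have hscal : ∀ {s : GL (Fin 3) F}, s ∈ Geo.scalars (Fin 3) F → ∀ x, s * x = x * s := by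
    intro s hs x
    obtain ⟨a, ha⟩ := (Geo.mem_scalars_iff _).mp hs
    exact Units.ext (by simp [ha])
  intro l hl
  have key : ∀ g ∈ M, ∀ x : GL (Fin 3) F, g * gZ * g⁻¹ * gZ = x * x → x ^ 3 = 1 → x ∈ M →
      ∃ a : F, a ^ 3 = 1 ∧ (x : Mt) * (l : Mt) = a • ((l : Mt) * (x : Mt)) := by
    intro g hg x e h3 hx
    obtain ⟨z', hz'⟩ : ∃ z', z' = g * gZ * g⁻¹ := ⟨_, rfl⟩
    rw [← hz'] at e
    have hz'2 : z' * z' = 1 := by
      rw [hz', show g * gZ * g⁻¹ * (g * gZ * g⁻¹) = g * (gZ * gZ) * g⁻¹ by group, gZ_sq]; group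
    set u := x * x with hu
    -- `u` fixes every element of `L` modulo scalars
    have hfix : ∀ y ∈ L, u * y * u⁻¹ * y⁻¹ ∈ Geo.scalars (Fin 3) F := by
      intro y hy
      obtain ⟨s, hs, hs'⟩ : ∃ s ∈ Geo.scalars (Fin 3) F, gZ * y * gZ = y⁻¹ * s :=
        ⟨_, hinvert y hy, by group⟩
      obtain ⟨r, hr, hr'⟩ : ∃ r ∈ Geo.scalars (Fin 3) F, z' * y * z' = y⁻¹ * r :=
        ⟨_, hz' ▸ hinv2 g hg y hy, by group⟩
      have hr2 : z' * y⁻¹ * z' = y * r⁻¹ := by
        have := congrArg (fun v => v⁻¹) hr'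
        simp only [_root_.mul_inv_rev, inv_inv, inv_eq_of_mul_eq_one_right hz'2] at this
        rw [mul_assoc, this, hscal (inv_mem hr)]
      rw [← e]
      have e5 : z' * gZ * y * (z' * gZ)⁻¹ = y * (r⁻¹ * s) := by
        rw [_root_.mul_inv_rev, hzi, inv_eq_of_mul_eq_one_right hz'2,
          show z' * gZ * y * (gZ * z') = z' * (gZ * y * gZ) * z' by group, hs', mul_assoc, mul_assoc,
          hscal hs z', ← mul_assoc, ← mul_assoc, hr2, mul_assoc]
      rw [e5, show y * (r⁻¹ * s) * y⁻¹ = y * ((r⁻¹ * s) * y⁻¹) by group,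
        hscal (mul_mem (inv_mem hr) hs), ← mul_assoc, mul_inv_cancel, one_mul]
      exact mul_mem (inv_mem hr) hs
    have hxu : x = u * u := by
      rw [hu, show x * x * (x * x) = x ^ 3 * x by simp [pow_succ, mul_assoc], h3, one_mul]
    have huM : u ∈ M := mul_mem hx hx
    obtain ⟨a, ha⟩ := (Geo.mem_scalars_iff _).mp (hfix l hl)
    have ha3 : (a : F) ^ 3 = 1 := cube_one_of_det ha
      (C.det _ (mul_mem (mul_mem (mul_mem huM (hL hl)) (inv_mem huM)) (inv_mem (hL hl))))
    have hul : (u : Mt) * (l : Mt) = (a : F) • ((l : Mt) * (u : Mt)) := by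
      rw [← Units.val_mul, show u * l = u * l * u⁻¹ * l⁻¹ * (l * u) by group, Units.val_mul, ha,
        Matrix.smul_mul, one_mul, Units.val_mul]
    refine ⟨(a : F) * a, by rw [mul_pow, ha3, one_mul], ?_⟩
    rw [hxu, Units.val_mul, mul_assoc, hul, Matrix.mul_smul, ← mul_assoc, hul, Matrix.smul_mul,
      smul_smul, mul_assoc]
  obtain ⟨a, ha, hA⟩ := key _ C.gA _ (gZ_conj_A h) h.gA_cube C.gA
  obtain ⟨b, hb, hB⟩ := key _ C.gB _ (gZ_conj_B h) gB_cube C.gB
  exact mem_stR_of_twist h (C.det _ (hL hl)) ha hb hA hB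

/-- An isolated involution makes the standard group normal. -/
theorem le_normalizer [Finite F] (hcard : Nat.card (stR h) = 27) {t : GL (Fin 3) F} (ht : t ∈ M)
    (ht2 : t * t = 1) (ht1 : t ≠ 1)
    (hiso : ∀ g ∈ M, g * g = 1 → g * t = t * g → g = 1 ∨ g = t) :
    M ≤ Geo.subgroupNormalizer (stR h) := by
  classical
  have hu : orderOf (⟨t, ht⟩ : M) = 2 :=
    orderOf_eq_prime (Subtype.ext (by simpa [pow_two] using ht2))
      fun e => ht1 (congrArg Subtype.val e)
  have hti : t⁻¹ = t := inv_eq_of_mul_eq_one_right ht2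
  have hO : ZStar.OddComm (⟨t, ht⟩ : M) := by
    intro g
    rw [← Subgroup.orderOf_coe]
    simp only [Subgroup.coe_mul, Subgroup.coe_inv]
    set u := t * (g : GL (Fin 3) F) * t⁻¹ * (g : GL (Fin 3) F)⁻¹ with hudef
    have huM : u ∈ M := mul_mem (mul_mem (mul_mem ht g.2) (inv_mem ht)) (inv_mem g.2)
    have hut : t * u * t⁻¹ = u⁻¹ := by
      rw [hudef, hti]
      simp only [_root_.mul_inv_rev, inv_inv, hti, ← mul_assoc, ht2, one_mul]
    rcases Nat.even_or_odd (orderOf u) with ⟨k, hk⟩ | ho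
    swap
    · exact ho
    exfalso
    have hpos := orderOf_pos u
    have hv1 : u ^ k ≠ 1 := fun e => by
      have := Nat.le_of_dvd (by omega) (orderOf_dvd_of_pow_eq_one e)
      omega
    have hv2 : u ^ k * u ^ k = 1 := by rw [← pow_add, ← hk, pow_orderOf_eq_one]
    have hvt : u ^ k * t = t * u ^ k := by
      have : t * u ^ k * t⁻¹ = u ^ k := by
        rw [← conj_pow, hut, inv_pow, inv_eq_of_mul_eq_one_right hv2]
      rw [eq_comm, ← mul_inv_eq_iff_eq_mul]
      exact this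
    have hvt' := (hiso _ (pow_mem huM k) hv2 hvt).resolve_left hv1
    have hcu : t * u = u * t := by rw [← hvt']; exact (Commute.pow_self u k).eq
    have huu : u * u = 1 := by
      rw [hcu, mul_inv_cancel_right] at hut
      nth_rw 2 [hut]
      exact mul_inv_cancel u
    set t' := (g : GL (Fin 3) F) * t * (g : GL (Fin 3) F)⁻¹ with ht'
    have hu' : u = t * t' := by rw [hudef, ht', hti]; group
    have ht'M : t' ∈ M := mul_mem (mul_mem g.2 ht) (inv_mem g.2)
    have ht'2 : t' * t' = 1 := by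
      rw [ht', show (g : GL (Fin 3) F) * t * (g : GL (Fin 3) F)⁻¹ * (g * t * (g : GL (Fin 3) F)⁻¹) =
        g * (t * t) * (g : GL (Fin 3) F)⁻¹ by group, ht2]
      group
    have hct : t' * t = t * t' := by
      have e : (t * t') * (t' * t) = 1 := by
        rw [mul_assoc, ← mul_assoc t' t', ht'2, one_mul, ht2]
      rw [← hu'] at e
      rw [← hu']
      exact (inv_eq_of_mul_eq_one_right e).symm.trans (inv_eq_of_mul_eq_one_right huu)
    rcases hiso t' ht'M ht'2 hct with e | e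
    · rw [ht', conj_eq_one_iff] at e; exact ht1 e
    · rw [hu', e, ht2] at hv1; exact hv1 (one_pow k)
  obtain ⟨N, hN, hNodd, hNc⟩ := ZStar.zStar hu hO
  set N' : Subgroup (GL (Fin 3) F) := N.map M.subtype with hN'
  have hN'M : N' ≤ M := Subgroup.map_subtype_le N
  have hN'n : ∀ g ∈ M, ∀ x ∈ N', g * x * g⁻¹ ∈ N' := by
    rintro g hg _ ⟨x, hx, rfl⟩
    refine ⟨⟨g, hg⟩ * x * (⟨g, hg⟩ : M)⁻¹, hN.conj_mem x hx _, ?_⟩
    simp only [Subgroup.coe_subtype, Subgroup.coe_mul, Subgroup.coe_inv]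
  have hN'odd : Odd (Nat.card N') := by
    rwa [hN', Subgroup.card_map_of_injective Subtype.val_injective]
  have hns : ¬ N' ≤ Geo.scalars (Fin 3) F := by
    intro hle
    have hcen : ∀ g ∈ M, t * g = g * t := by
      intro g hg
      set u := t * g * t * g⁻¹ with hudef
      have huM : u ∈ M := mul_mem (mul_mem (mul_mem ht hg) ht) (inv_mem hg)
      obtain ⟨a, ha⟩ := (Geo.mem_scalars_iff u).mp (hle ⟨_, hNc ⟨g, hg⟩, by simp [hudef, hti]⟩)
      have ha3 := cube_one_of_det ha (C.det _ huM)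
      have hut : t * u = u * t := Units.ext (by simp [ha])
      have e : t * u * t = u⁻¹ := by
        rw [hudef]
        simp only [_root_.mul_inv_rev, inv_inv, hti, ← mul_assoc, ht2, one_mul]
      rw [hut, mul_assoc, ht2, mul_one] at e
      have ha2 : (a : F) * a = 1 := by
        have e2 : u * u = 1 := by nth_rw 2 [e]; exact mul_inv_cancel u
        have := congrArg (fun v : GL (Fin 3) F => (v : Mt) 0 0) e2
        simpa [ha] using this
      have ha1 : (a : F) = 1 := by linear_combination ha3 - (a : F) * ha2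
      have hu1 : u = 1 := Units.ext (by simp [ha, ha1])
      calc t * g = u * (g * t⁻¹) := by rw [hudef]; group
        _ = g * t := by rw [hu1, one_mul, hti]
    obtain ⟨a, ha⟩ := (Geo.mem_scalars_iff t).mp
      (mem_scalars_of_commute h (hcen _ C.gA) (hcen _ C.gB))
    have ha3 := cube_one_of_det ha (C.det _ ht)
    have ha2 : (a : F) * a = 1 := by
      have := congrArg (fun v : GL (Fin 3) F => (v : Mt) 0 0) ht2
      simpa [ha] using this
    have ha1 : (a : F) = 1 := by linear_combination ha3 - (a : F) * ha2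
    exact ht1 (Units.ext (by simp [ha, ha1]))
  obtain ⟨L, hL⟩ := exists_minimal_of_wellFoundedLT
    (fun L : Subgroup (GL (Fin 3) F) => L ≤ N' ∧ (∀ g ∈ M, ∀ x ∈ L, g * x * g⁻¹ ∈ L) ∧
      ¬ L ≤ Geo.scalars (Fin 3) F) ⟨N', le_rfl, hN'n, hns⟩
  obtain ⟨⟨hLN, hLn, hLs⟩, hLmin⟩ := hL
  have hLM : L ≤ M := hLN.trans hN'M
  have hLodd : Odd (Nat.card L) := hN'odd.of_dvd_nat (Subgroup.card_dvd_of_le hLN)
  have hcl : ⁅L, L⁆ ≤ L := Subgroup.commutator_le.mpr fun a ha b hb =>
    mul_mem (mul_mem (mul_mem ha hb) (inv_mem ha)) (inv_mem hb)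
  have hcs : ⁅L, L⁆ ≤ Geo.scalars (Fin 3) F := by
    by_contra hcon
    have hnor : ∀ g ∈ M, ∀ x ∈ ⁅L, L⁆, g * x * g⁻¹ ∈ ⁅L, L⁆ := by
      intro g hg x hx
      have hle : L.map (MulAut.conj g).toMonoidHom ≤ L := by
        rintro _ ⟨y, hy, rfl⟩; exact hLn g hg y hy
      have := Subgroup.mem_map_of_mem (MulAut.conj g).toMonoidHom hx
      rw [Subgroup.map_commutator] at this
      exact Subgroup.commutator_mono hle hle this
    have heq : ⁅L, L⁆ = L := le_antisymm hcl (hLmin ⟨hcl.trans hLN, hnor, hcon⟩ hcl)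
    haveI : Group.IsSolvable L := PF14.feitThompson L hLodd
    haveI : Nontrivial L := (Subgroup.nontrivial_iff_ne_bot L).mpr
      fun e => hLs (e ▸ bot_le)
    have hlt := Group.IsSolvable.commutator_lt_top_of_nontrivial L
    refine hlt.ne (Subgroup.map_injective L.subtype_injective ?_)
    rw [Subgroup.map_subtype_commutator, heq, ← MonoidHom.range_eq_map, Subgroup.range_subtype]
  have hsc : ∀ x ∈ L, ∀ y ∈ L, x * y * x⁻¹ * y⁻¹ ∈ Geo.scalars (Fin 3) F := fun x hx y hy =>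
    hcs (Subgroup.commutator_mem_commutator hx hy)
  have hZ : ∀ x ∈ L, (∀ y ∈ L, x * y = y * x) → x ∈ Geo.scalars (Fin 3) F := by
    intro x hx hxc
    refine C.comm_case (L := L ⊓ Subgroup.centralizer (L : Set (GL (Fin 3) F))) (fun g hg y hy => ?_)
      (fun a ha b hb => (Subgroup.mem_centralizer_iff.mp hb.2 a ha.1))
      ⟨hx, Subgroup.mem_centralizer_iff.mpr fun y hy => (hxc y hy).symm⟩
    refine ⟨hLn g hg y hy.1, Subgroup.mem_centralizer_iff.mpr fun w hw => ?_⟩
    have := Subgroup.mem_centralizer_iff.mp hy.2 _ (by simpa using hLn g⁻¹ (inv_mem hg) w hw)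
    calc w * (g * y * g⁻¹) = g * ((g⁻¹ * w * g) * y) * g⁻¹ := by group
      _ = g * (y * (g⁻¹ * w * g)) * g⁻¹ := by rw [this]
      _ = _ := by group
  have hodd : ∀ x ∈ L, x * x = 1 → x = 1 := by
    intro x hx hxx
    have h1 : orderOf x ∣ Nat.card L := Subgroup.orderOf_dvd_natCard L hx
    have h2 : orderOf x ∣ 2 := orderOf_dvd_of_pow_eq_one (by rw [pow_two, hxx])
    exact orderOf_eq_one_iff.mp (Nat.eq_one_of_dvd_coprimes
      (Nat.coprime_two_right.mpr hLodd) h1 h2)
  have hLR := C.two_case hLM hLn hsc hZ hodd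
  have hLeq : L = stR h := by
    refine Subgroup.eq_of_le_of_card_ge hLR ?_
    rw [hcard]
    have hdvd : Nat.card L ∣ 3 ^ 3 := by
      have := Subgroup.card_dvd_of_le hLR; rwa [hcard] at this
    obtain ⟨k, hk, hkc⟩ := (Nat.dvd_prime_pow Nat.prime_three).mp hdvd
    by_contra hlt
    have hk2 : k ≤ 2 := by
      by_contra hk3
      have : k = 3 := by omega
      rw [hkc, this] at hlt
      omega
    have hnc : ∃ x ∈ L, ∃ y ∈ L, x * y ≠ y * x := by
      by_contra hcon
      simp only [not_exists, not_and, not_not] at hcon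
      exact hLs fun x hx => hZ x hx fun y hy => hcon x hx y hy
    obtain ⟨x, hx, y, hy, hxy⟩ := hnc
    haveI : Fact (Nat.Prime 3) := ⟨Nat.prime_three⟩
    have hcomm : ∀ a b : L, a * b = b * a := by
      interval_cases k
      · have := (Nat.card_eq_one_iff_unique.mp hkc).1
        exact fun a b => Subsingleton.elim _ _
      · haveI := isCyclic_of_prime_card (p := 3) (α := L) (by simpa using hkc)
        intro a b
        obtain ⟨g, hg⟩ := IsCyclic.exists_generator (α := L)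
        obtain ⟨i, rfl⟩ := hg a
        obtain ⟨j, rfl⟩ := hg b
        exact ((Commute.refl g).zpow_zpow i j).eq
      · exact IsPGroup.commutative_of_card_eq_prime_sq (p := 3) hkc
    exact hxy (congrArg Subtype.val (hcomm ⟨x, hx⟩ ⟨y, hy⟩))
  intro g hg
  refine h.mem_normalizer ?_ ?_
  · have := hLn g hg h.gA (hLeq ▸ h.gA_mem)
    rwa [hLeq] at this
  · have := hLn g hg SL3Geo34.gB (hLeq ▸ h.gB_mem)
    rwa [hLeq] at this

end Setup

end Cfsg.Agent.SU3Geo98.C6.Isolated
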