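import Cfsg.Agent.SU3Geo98.C6.Frame
import Cfsg.Agent.MaxSub.HermStab

/-!
Class six of S5777, the characteristic (helper48 for helper98): a change of basis brings a group of
isometries without transvections, of order divisible by the characteristic, to the normal form `Ctx`.
-/

set_option autoImplicit false
set_option linter.unusedSectionVars false

namespace Cfsg.Agent.SU3Geo98.C6

open Matrix Cfsg.Agent.MaxSub
open SL3Geo34 (IsTransvec)
open SL3Geo32.Regular (TM TG TG_coe exists_basis)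

variable {F : Type*} [Field F] [Fintype F]

/-- Over `GF(p²)` the fixed points of an involution are the naturals. -/
theorem fixed_iff {σ : F ≃+* F} (hne : σ ≠ RingEquiv.refl F) (hinv : ∀ x, σ (σ x) = x) {p : ℕ}
    [Fact p.Prime] [CharP F p] (hcard : Fintype.card F = p ^ 2) (h2 : (2 : F) ≠ 0) (x : F) :
    σ x = x ↔ ∃ m : ℕ, (m : F) = x := by
  classical
  refine ⟨fun hx => ?_, fun ⟨m, hm⟩ => by rw [← hm, map_natCast]⟩
  obtain ⟨a, ha⟩ : ∃ a, σ a ≠ a := by
    by_contra h
    simp only [not_exists, not_not] at h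
    exact hne (RingEquiv.ext h)
  set s := a - σ a with hs
  have hs0 : s ≠ 0 := sub_ne_zero.mpr (Ne.symm ha)
  have hσs : σ s = -s := by rw [hs, map_sub, hinv, neg_sub]
  set S := Finset.univ.filter fun y : F => σ y = y with hS
  set P := Finset.univ.image fun m : Fin p => ((m : ℕ) : F) with hP
  have hsub : P ⊆ S := fun y hy => by
    obtain ⟨m, -, rfl⟩ := Finset.mem_image.mp hy
    simp [hS]
  have hPcard : P.card = p := by
    rw [hP, Finset.card_image_of_injective _ fun m m' e =>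
      Fin.ext (CharP.natCast_injOn_Iio F p m.2 m'.2 e), Finset.card_univ, Fintype.card_fin]
  have hScard : S.card * S.card ≤ p * p := by
    rw [← pow_two p, ← hcard, ← Finset.card_univ, ← Finset.card_product]
    refine Finset.card_le_card_of_injOn (fun u => u.1 + u.2 * s) (fun _ _ => Finset.mem_univ _) ?_
    rintro ⟨u, v⟩ huv ⟨u', v'⟩ huv' e
    simp [hS] at huv huv'
    simp only at e
    have e' := congrArg σ e
    simp only [map_add, map_mul, huv.1, huv.2, huv'.1, huv'.2, hσs] at e'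
    have hu : u = u' := mul_left_cancel₀ h2 (by linear_combination e + e')
    rw [hu, add_right_inj, mul_left_inj' hs0] at e
    rw [hu, e]
  have hPS : P = S := Finset.eq_of_subset_of_card_le hsub (by
    rw [hPcard]; exact Nat.mul_self_le_mul_self_iff.mp hScard)
  have hxP : x ∈ P := by rw [hPS]; simp [hS, hx]
  obtain ⟨m, -, hm⟩ := Finset.mem_image.mp hxP
  exact ⟨m, hm⟩

variable {σ : F ≃+* F} {f : (Fin 3 → F) → (Fin 3 → F) → F}

/-- The normal form of a unitary form invariant under `TG 1`. -/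
theorem exists_adapted (hf : Geo.IsUnitaryForm σ f) (h2 : (2 : F) ≠ 0)
    (hT : ∀ u v, f (TM 1 *ᵥ u) (TM 1 *ᵥ v) = f u v) :
    ∃ (K : GL (Fin 3) F) (c : F), c ≠ 0 ∧ K * TG 1 = TG 1 * K ∧
      ∀ u v, f ((K : Matrix (Fin 3) (Fin 3) F) *ᵥ u) ((K : Matrix (Fin 3) (Fin 3) F) *ᵥ v) =
        c * f0 σ u v := by
  set a0 : Fin 3 → F := ![1, 0, 0] with ha0
  set a1 : Fin 3 → F := ![0, 1, 0] with ha1
  set a2 : Fin 3 → F := ![0, 0, 1] with ha2
  have t0 : TM 1 *ᵥ a0 = a0 := by
    ext i; fin_cases i <;> simp [vec3, ha0]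
  have t1 : TM 1 *ᵥ a1 = (2 : F) • a0 + a1 := by
    ext i; fin_cases i <;> simp [vec3, ha0, ha1]
  have t2 : TM 1 *ᵥ a2 = a0 + a1 + a2 := by
    ext i; fin_cases i <;> simp [vec3, ha0, ha1, ha2]
  have e01 := hT a0 a1
  have e02 := hT a0 a2
  have e12 := hT a1 a2
  have e22 := hT a2 a2
  simp only [t0, t1, t2, hf.add_left, hf.smul_left, hadd_right hf, hsmul_right hf, map_ofNat]
    at e01 e02 e12 e22
  have f00 : f a0 a0 = 0 := mul_left_cancel₀ h2 (by linear_combination e01)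
  have f01 : f a0 a1 = 0 := by linear_combination e02 - f00
  have f10 : f a1 a0 = 0 := hswap_zero hf f01
  set c := f a1 a1 with hc
  have f02 : 2 * f a0 a2 = -c := by linear_combination e12 - 2 * f00 - 2 * f01 - f10
  have f20 : f a2 a0 = f a0 a2 := by
    refine mul_left_cancel₀ h2 ?_
    have := congrArg σ f02
    rw [map_mul, map_ofNat, map_neg, hc, ← hf.herm, ← hf.herm] at this
    rw [this, f02, hc]
  set d := f a1 a2 with hd
  have f21 : f a2 a1 = -d := by
    linear_combination e22 - f00 - f01 - f10 - f20 - f02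
  have hc0 : c ≠ 0 := by
    intro h0
    obtain ⟨x, hx⟩ := (hf.nondegenerate a0 (fun h => one_ne_zero (congrFun h 0))).2
    refine hx ?_
    have hx' : x = x 0 • a0 + x 1 • a1 + x 2 • a2 := by
      ext i; fin_cases i <;> simp [ha0, ha1, ha2]
    rw [hx', hadd_right hf, hadd_right hf, hsmul_right hf, hsmul_right hf, hsmul_right hf, f00, f01,
      (mul_eq_zero.mp (show 2 * f a0 a2 = 0 by rw [f02, h0, neg_zero])).resolve_left h2]
    ring
  have hσc : σ c = c := (hf.herm a1 a1).symm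
  have hσd : σ d = -d := by rw [← f21, hd]; exact (hf.herm a2 a1).symm
  obtain ⟨a, ha⟩ : ∃ a, a = d / (2 * c) := ⟨_, rfl⟩
  have hσa : σ a = -a := by
    rw [ha, map_div₀, map_mul, map_ofNat, hσc, hσd, neg_div]
  have had : 2 * c * a = d := by rw [ha, mul_div_cancel₀ _ (mul_ne_zero h2 hc0)]
  obtain ⟨b, hb⟩ := exists_trace hf (r := 2 * (f a2 a2 + 2 * a * d - a ^ 2 * c) / c) (by
    simp only [map_div₀, map_mul, map_ofNat, map_add, map_sub, map_pow, hσa, hσd, hσc, ← hf.herm]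
    ring)
  have hbc : c * (b + σ b) = 2 * (f a2 a2 + 2 * a * d - a ^ 2 * c) := by rw [hb]; field_simp
  obtain ⟨K, hK⟩ : ∃ K : GL (Fin 3) F,
      (K : Matrix (Fin 3) (Fin 3) F) = !![1, 2 * a, b; 0, 1, a; 0, 0, 1] :=
    ⟨Matrix.GeneralLinearGroup.mkOfDetNeZero !![1, 2 * a, b; 0, 1, a; 0, 0, 1]
      (by simp [Matrix.det_fin_three]), rfl⟩
  refine ⟨K, c / 2, div_ne_zero hc0 h2, Units.ext ?_, fun u v => ?_⟩
  · rw [Units.val_mul, Units.val_mul, hK, TG_coe]
    ext i j
    fin_cases i <;> fin_cases j <;> simp [mul3] <;> ring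
  · have hcol : ∀ w : Fin 3 → F, (K : Matrix (Fin 3) (Fin 3) F) *ᵥ w =
        (w 0 + 2 * a * w 1 + b * w 2) • a0 + (w 1 + a * w 2) • a1 + w 2 • a2 := fun w => by
      ext i; fin_cases i <;> simp [vec3, hK, ha0, ha1, ha2]
    simp only [hcol, hf.add_left, hf.smul_left, hadd_right hf, hsmul_right hf, f00, f01, f10, f20,
      f21, ← hc, ← hd, map_add, map_mul, map_ofNat, hσa, f0]
    have e02' : f a0 a2 = -(c / 2) := by field_simp; linear_combination f02
    rw [e02']
    field_simp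
    linear_combination -(u 2 * σ (v 2)) * hbc +
      (2 * u 2 * σ (v 1) - 2 * u 1 * σ (v 2)) * had

/-- A group of isometries without transvections, of order divisible by the characteristic, has a
conjugate in normal form. -/
theorem exists_ctx (hf : Geo.IsUnitaryForm σ f) {p : ℕ} (hp : p.Prime)
    (hcard : Fintype.card F = p ^ 2) (h3 : p % 3 = 2) (h11 : 11 ≤ p) {M : Subgroup (GL (Fin 3) F)}
    (hMG : M ≤ HermStab.su f) (hno : ∀ g ∈ M, ¬ IsTransvec g) (hdvd : p ∣ Nat.card M) :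
    ∃ k : GL (Fin 3) F, Ctx σ p (M.map (MulAut.conj k).toMonoidHom) := by
  have : Fact p.Prime := ⟨hp⟩
  have : CharP F p := charP_of_card_eq_prime_pow hcard
  have h2 : (2 : F) ≠ 0 := by
    intro h
    have h' : ((2 : ℕ) : F) = 0 := by exact_mod_cast h
    rw [CharP.cast_eq_zero_iff F p] at h'
    have := Nat.le_of_dvd (by omega) h'
    omega
  obtain ⟨⟨x, hxM⟩, hord⟩ := exists_prime_orderOf_dvd_card' (G := M) p hdvd
  rw [Subgroup.orderOf_mk] at hord
  set N := (x : Matrix (Fin 3) (Fin 3) F) - 1 with hN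
  have hnil : IsNilpotent N := ⟨p, by
    rw [hN, sub_pow_char_of_commute p (Commute.one_right _), one_pow, ← Units.val_pow_eq_pow_val,
      ← hord, pow_orderOf_eq_one, Units.val_one, sub_self]⟩
  have hN3 : N * N * N = 0 := by
    have h := (Matrix.isNilpotent_charpoly_sub_pow_of_isNilpotent hnil).eq_zero
    have h' := Matrix.aeval_self_charpoly N
    rw [sub_eq_zero.mp h, map_pow, Polynomial.aeval_X, Fintype.card_fin, pow_succ, pow_two] at h'
    exact h'
  have hN2 : N * N ≠ 0 := fun h => hno x hxM ⟨fun h1 => by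
    rw [h1, orderOf_one] at hord
    exact hp.one_lt.ne hord, h⟩
  obtain ⟨h, hh⟩ := exists_basis h2 x hN hN3 hN2
  have hiso : ∀ g ∈ M, ∀ u v, f ((g : Matrix (Fin 3) (Fin 3) F) *ᵥ u)
      ((g : Matrix (Fin 3) (Fin 3) F) *ᵥ v) = f u v := fun g hg => mem_isom.mp (hMG hg).1
  set f' : (Fin 3 → F) → (Fin 3 → F) → F := fun u v =>
    f ((h : Matrix (Fin 3) (Fin 3) F) *ᵥ u) ((h : Matrix (Fin 3) (Fin 3) F) *ᵥ v) with hf'
  have hinj : ∀ u : Fin 3 → F, (h : Matrix (Fin 3) (Fin 3) F) *ᵥ u = 0 → u = 0 := fun u hu => by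
    rw [← inv_mulVec_mulVec h u, hu, mulVec_zero]
  have hf'u : Geo.IsUnitaryForm σ f' :=
    { ne_refl := hf.ne_refl
      involutive := hf.involutive
      add_left := fun u v w => by simp only [hf', mulVec_add, hf.add_left]
      smul_left := fun r u v => by simp only [hf', mulVec_smul, hf.smul_left]
      herm := fun u v => hf.herm _ _
      nondegenerate := fun u hu => by
        obtain ⟨⟨y, hy⟩, ⟨z, hz⟩⟩ := hf.nondegenerate _ fun e => hu (hinj u e)
        exact ⟨⟨((h⁻¹ : GL (Fin 3) F) : Matrix (Fin 3) (Fin 3) F) *ᵥ y, by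
            simp only [hf', mulVec_inv_mulVec]; exact hy⟩,
          ⟨((h⁻¹ : GL (Fin 3) F) : Matrix (Fin 3) (Fin 3) F) *ᵥ z, by
            simp only [hf', mulVec_inv_mulVec]; exact hz⟩⟩ }
  have hxh : h * TG 1 = x * h := by rw [← hh]; group
  have hT : ∀ u v, f' (TM 1 *ᵥ u) (TM 1 *ᵥ v) = f' u v := fun u v => by
    simp only [hf', mulVec_mulVec, ← TG_coe, ← Units.val_mul, hxh]
    simp only [Units.val_mul, ← mulVec_mulVec, hiso x hxM]
  obtain ⟨K, c, hc, hKT, hKf⟩ := exists_adapted hf'u h2 hT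
  set k := (h * K)⁻¹ with hk
  have hf0 : ∀ u v, f (((h * K : GL (Fin 3) F) : Matrix (Fin 3) (Fin 3) F) *ᵥ u)
      (((h * K : GL (Fin 3) F) : Matrix (Fin 3) (Fin 3) F) *ᵥ v) = c * f0 σ u v := fun u v => by
    rw [← hKf, hf', Units.val_mul, ← mulVec_mulVec, ← mulVec_mulVec]
  refine ⟨k, ⟨hp, ‹_›, hf.involutive, fixed_iff hf.ne_refl hf.involutive hcard h2, h11, h3,
    ?_, ?_, ⟨x, hxM, ?_⟩, ?_⟩⟩
  · rintro _ ⟨g, hg, rfl⟩ u v
    refine mul_left_cancel₀ hc ?_
    rw [← hf0, ← hf0]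
    have e : h * K * (MulAut.conj k g) = g * (h * K) := by
      rw [MulAut.conj_apply, hk]; group
    simp only [MulEquiv.coe_toMonoidHom, mulVec_mulVec, ← Units.val_mul, e]
    simp only [Units.val_mul, ← mulVec_mulVec, hiso g hg]
  · rintro _ ⟨g, hg, rfl⟩
    have hd : (Matrix.GeneralLinearGroup.det g) = 1 := (hMG hg).2
    simp only [MulEquiv.coe_toMonoidHom, MulAut.conj_apply, Units.val_mul]
    rw [Matrix.det_units_conj]
    exact congrArg Units.val hd
  · show MulAut.conj k x = TG 1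
    rw [MulAut.conj_apply, hk, inv_inv, _root_.mul_inv_rev]
    calc K⁻¹ * h⁻¹ * x * (h * K) = K⁻¹ * (h⁻¹ * x * h * K) := by group
      _ = TG 1 := by rw [hh, ← hKT, inv_mul_cancel_left]
  · rintro _ ⟨g, hg, rfl⟩ ⟨h1, h1'⟩
    refine hno g hg ⟨fun e => h1 (by rw [e, map_one]), ?_⟩
    have e : (MulAut.conj k g : GL (Fin 3) F).1 - 1 = (k : Matrix (Fin 3) (Fin 3) F) *
        ((g : Matrix (Fin 3) (Fin 3) F) - 1) * ((k⁻¹ : GL (Fin 3) F) : Matrix (Fin 3) (Fin 3) F) := by
      rw [MulAut.conj_apply, Units.val_mul, Units.val_mul, Matrix.mul_sub, Matrix.sub_mul,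
        Matrix.mul_one, Units.mul_inv]
    rw [MulEquiv.coe_toMonoidHom, e] at h1'
    have h4 := congrArg (fun A => ((k⁻¹ : GL (Fin 3) F) : Matrix (Fin 3) (Fin 3) F) * A *
      (k : Matrix (Fin 3) (Fin 3) F)) h1'
    simpa [← Matrix.mul_assoc, Units.inv_mul_cancel_right] using h4

end Cfsg.Agent.SU3Geo98.C6
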