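import Cfsg.Agent.SU3Geo98.C6.Pair
import Mathlib.GroupTheory.GroupAction.Quotient

/-!
Class six of S5777 (helper98): with two opposite root groups the orbit of the fixed point is a union
of real conics; counting leaves one conic or all isotropic points, and both are impossible.
-/

set_option autoImplicit false
set_option linter.unusedSectionVars false

namespace Cfsg.Agent.SU3Geo98.C6

open Matrix
open SL3Geo34 (IsTransvec)
open SL3Geo32.Regular (TM TG TG_coe TG_mul TM_zero TM_mul)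

/-- A finite action all whose stabilisers have order dividing `h`. -/
theorem card_dvd_mul_of_stab {G α : Type*} [Group G] [Finite G] [MulAction G α] [Finite α] (h : ℕ)
    (hstab : ∀ x : α, Nat.card (MulAction.stabilizer G x) ∣ h) :
    Nat.card G ∣ h * Nat.card α := by
  classical
  have := Fintype.ofFinite (Quotient (MulAction.orbitRel G α))
  rw [Nat.card_congr (MulAction.selfEquivSigmaOrbitsQuotientStabilizer G α), Nat.card_sigma,
    Finset.mul_sum]
  refine Finset.dvd_sum fun c _ => ?_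
  obtain ⟨d, hd⟩ := hstab c.out
  have h1 := Subgroup.card_eq_card_quotient_mul_card_subgroup (MulAction.stabilizer G c.out)
  exact ⟨d, by rw [h1, hd]; ring⟩

/-- A finite subgroup of units killed by `k` has order dividing `k`. -/
theorem card_units_dvd {F : Type*} [Field F] [Finite F] (D : Subgroup Fˣ) (k : ℕ)
    (h : ∀ x ∈ D, x ^ k = 1) : Nat.card D ∣ k := by
  obtain ⟨g, hg⟩ := IsCyclic.exists_generator (α := D)
  rw [← orderOf_eq_card_of_forall_mem_zpowers hg]
  exact orderOf_dvd_of_pow_eq_one (Subtype.ext (by simpa using h g g.2))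

theorem small_cases : ∀ p < 114, ∀ k < 8, 11 ≤ p → p % 3 = 2 → Nat.Prime p → 1 ≤ k →
    8 ∣ k * p * (p - 1) → ¬ (k * p * (p - 1) + 8 ∣ 16 * (p + 1) * (8 - k)) := by
  intro p hp k hk
  interval_cases p <;> norm_num <;> interval_cases k <;> norm_num

variable {F : Type*} [Field F] [Fintype F]
variable {σ : F ≃+* F} {p : ℕ} {M : Subgroup (GL (Fin 3) F)}

/-- The point of a vector. -/
abbrev pnt (v : Fin 3 → F) : Submodule F (Fin 3 → F) := Submodule.span F {v}

theorem pnt_map (g : GL (Fin 3) F) (v : Fin 3 → F) :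
    (pnt v).map (g : Matrix (Fin 3) (Fin 3) F).mulVecLin = pnt (ap g v) := by
  rw [Submodule.map_span, Set.image_singleton, Matrix.mulVecLin_apply]

theorem pnt_smul {c : F} (hc : c ≠ 0) (v : Fin 3 → F) : pnt (c • v) = pnt v :=
  Submodule.span_singleton_smul_eq (IsUnit.mk0 c hc) v

theorem exists_of_pnt_eq {v w : Fin 3 → F} (h : pnt v = pnt w) : ∃ c : F, v = c • w := by
  have : v ∈ pnt w := h ▸ Submodule.mem_span_singleton_self v
  obtain ⟨c, hc⟩ := Submodule.mem_span_singleton.mp this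
  exact ⟨c, hc.symm⟩

/-- The action on subspaces. -/
noncomputable instance subspaceAction : MulAction M (Submodule F (Fin 3 → F)) where
  smul g Q := Q.map ((g : GL (Fin 3) F) : Matrix (Fin 3) (Fin 3) F).mulVecLin
  one_smul Q := by
    show Q.map _ = Q
    simp [Matrix.mulVecLin_one, Submodule.map_id]
  mul_smul g h Q := by
    show Q.map _ = (Q.map _).map _
    rw [← Submodule.map_comp, ← Matrix.mulVecLin_mul]
    simp

theorem smul_pnt (g : M) (v : Fin 3 → F) : g • pnt v = pnt (ap (g : GL (Fin 3) F) v) :=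
  pnt_map _ v

/-- The real conic. -/
def conic (σ : F ≃+* F) : Set (Submodule F (Fin 3 → F)) :=
  {Q | Q = pnt e0 ∨ ∃ t, σ t = t ∧ Q = pnt ![t ^ 2, t, 1]}

/-- The stabiliser of the fixed point. -/
noncomputable abbrev Mx (M : Subgroup (GL (Fin 3) F)) : Subgroup M := MulAction.stabilizer M (pnt (e0 : Fin 3 → F))

variable (C : Ctx σ p M)
include C

theorem charP' : CharP F p := C.char

theorem zmod_real : ∃ ι : ZMod p →+* F, Function.Injective ι ∧ ∀ x, σ x = x ↔ ∃ y, ι y = x := by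
  have := C.char
  have := Fact.mk C.prime
  refine ⟨ZMod.castHom dvd_rfl F, (ZMod.castHom dvd_rfl F).injective, fun x => ⟨fun h => ?_, ?_⟩⟩
  · obtain ⟨m, rfl⟩ := (C.real x).mp h
    exact ⟨m, map_natCast _ m⟩
  · rintro ⟨y, rfl⟩
    obtain ⟨m, rfl⟩ := ZMod.natCast_zmod_surjective y
    rw [map_natCast, map_natCast]

theorem card_real : Nat.card {t : F // σ t = t} = p := by
  obtain ⟨ι, hι, h⟩ := zmod_real C
  rw [← Nat.card_zmod p]
  refine (Nat.card_congr (Equiv.ofBijective (fun y => (⟨ι y, (h _).mpr ⟨y, rfl⟩⟩ : {t : F // σ t = t}))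
    ⟨fun a b e => hι (congrArg Subtype.val e), fun ⟨t, ht⟩ => ?_⟩)).symm
  obtain ⟨y, hy⟩ := (h t).mp ht
  exact ⟨y, Subtype.ext hy⟩

theorem mem_Mx {g : M} : g ∈ Mx M ↔ Up (g : GL (Fin 3) F) := by
  rw [MulAction.mem_stabilizer_iff, smul_pnt]
  constructor
  · intro h
    obtain ⟨c, hc⟩ := exists_of_pnt_eq h
    have h1 := congrFun hc 1
    have h2 := congrFun hc 2
    simp [ap, vec3] at h1 h2
    exact up_of_fix C g.2 h1 h2
  · intro hu
    have e : ap (g : GL (Fin 3) F) e0 = (g.1).1 0 0 • e0 := by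
      ext i
      fin_cases i <;> simp [ap, vec3, hu.1, hu.2.1]
    rw [e, pnt_smul (up_ne C g.2 hu).1]

section Pair

variable (hLM : LM 1 ∈ M)
include hLM

theorem LM_real {t : F} (ht : σ t = t) : LM t ∈ M := by
  obtain ⟨m, rfl⟩ := (C.real t).mp ht
  have h : ∀ k : ℕ, LM (k : F) ∈ M := by
    intro k
    induction k with
    | zero => rw [show LM ((0 : ℕ) : F) = 1 from Units.ext (by simp [LMm_zero])]; exact one_mem M
    | succ k ih => rw [Nat.cast_succ, ← LM_mul]; exact mul_mem ih hLM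
  exact h m

theorem exists_weyl : ∃ w ∈ M, (w : Matrix (Fin 3) (Fin 3) F) = !![0, 0, 1; 0, -1, 0; 1, 0, 0] := by
  refine ⟨TG 1 * LM (-1) * TG 1, mul_mem (mul_mem C.tg (LM_real C hLM (show σ (-1 : F) = -1 by rw [map_neg, map_one]))) C.tg, ?_⟩
  simp only [Units.val_mul, TG_coe, LM_coe]
  ext i j
  fin_cases i <;> fin_cases j <;> simp [TM, LMm, mul3] <;> ring_nf <;> simp

theorem exists_torus {u : F} (hu : σ u = u) (hu0 : u ≠ 0) :
    ∃ h ∈ M, (h : Matrix (Fin 3) (Fin 3) F) = !![u ^ 2, 0, 0; 0, 1, 0; 0, 0, (u ^ 2)⁻¹] := by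
  obtain ⟨w, hw, hwv⟩ := exists_weyl C hLM
  have hr : σ (-u⁻¹) = -u⁻¹ := by rw [map_neg, map_inv₀, hu]
  refine ⟨TG u * LM (-u⁻¹) * TG u * w,
    mul_mem (mul_mem (mul_mem (TG_real C hu) (LM_real C hLM hr)) (TG_real C hu)) hw, ?_⟩
  simp only [Units.val_mul, TG_coe, LM_coe, hwv]
  ext i j
  fin_cases i <;> fin_cases j <;>
    simp [TM, LMm, mul3, Matrix.vecMul, dotProduct, Fin.sum_univ_three] <;>
    field_simp <;> ring

theorem exists_four : ∃ h ∈ M, (h : Matrix (Fin 3) (Fin 3) F) = !![4, 0, 0; 0, 1, 0; 0, 0, 4⁻¹] ∧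
    (4 : F) ≠ 4⁻¹ ∧ (4 : F) ≠ 1 ∧ (1 : F) ≠ 4⁻¹ := by
  have := C.char
  have h2 := two C
  have h3 := three C
  have h4 : (4 : F) ≠ 0 := by
    rw [show (4 : F) = 2 * 2 by norm_num]; exact mul_ne_zero h2 h2
  have h5 : (5 : F) ≠ 0 := by
    intro h
    have h' : ((5 : ℕ) : F) = 0 := by exact_mod_cast h
    rw [CharP.cast_eq_zero_iff F p] at h'
    have := Nat.le_of_dvd (by norm_num) h'
    have := C.ge
    omega
  obtain ⟨h, hh, hv⟩ := exists_torus C hLM (u := 2) (map_ofNat σ 2) h2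
  refine ⟨h, hh, by rw [hv]; norm_num, fun e => ?_, fun e => h3 (by linear_combination e),
    fun e => h3 ?_⟩
  · have : (4 : F) * 4 = 1 := by
      nth_rewrite 2 [e]
      exact mul_inv_cancel₀ h4
    exact mul_ne_zero h3 h5 (by linear_combination this)
  · have : (4 : F) * 1 = 1 := (congrArg (4 * ·) e).trans (mul_inv_cancel₀ h4)
    linear_combination this

/-- Stabiliser elements are real up to a scalar. -/
theorem up_shape {g : GL (Fin 3) F} (hg : g ∈ M) (hu : Up g) :
    ∃ (u c s : F), σ u = u ∧ σ s = s ∧ s ≠ 0 ∧ s = sv g ∧ c ≠ 0 ∧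
      (g : Matrix (Fin 3) (Fin 3) F) = c • (TM u * !![s * s, 0, 0; 0, s, 0; 0, 0, 1]) := by
  obtain ⟨H, hH, hHv, hne, -, -⟩ := exists_four C hLM
  obtain ⟨u, h, hu', rfl, hh, huh, hsv, h01, h12⟩ := up_normal C hg hu
  obtain ⟨hβ, hα, hs, hs0, -, -⟩ := conj_TG C hh huh
  obtain ⟨d01, d02, d10, d12, d20, d21⟩ := dg_of_torus C hH
    (by refine ⟨?_, ?_, ?_, ?_, ?_, ?_⟩ <;> simp [hHv]) (by simpa [hHv] using hne) hh huh h01 h12
  refine ⟨u, h.1 2 2, sv h, hu', hs, hs0, hsv, (up_ne C hh huh).2.2, ?_⟩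
  have e : (h : Matrix (Fin 3) (Fin 3) F) = h.1 2 2 • !![sv h * sv h, 0, 0; 0, sv h, 0; 0, 0, 1] := by
    ext i j
    fin_cases i <;> fin_cases j <;>
      simp [d01, d02, d10, d12, d20, d21] <;>
      first
        | linear_combination hβ
        | linear_combination hα + sv h * hβ
  rw [Units.val_mul, TG_coe]
  conv_lhs => rw [e]
  rw [Matrix.mul_smul]

theorem conic_TG {u : F} (hu : σ u = u) {g : GL (Fin 3) F} (hg : g ∈ M) (hv : g.1 = TM u) :
    ∀ Q ∈ conic σ, (⟨g, hg⟩ : M) • Q ∈ conic σ := by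
  rintro Q (rfl | ⟨t, ht, rfl⟩) <;> rw [smul_pnt]
  · refine Or.inl ?_
    congr 1
    ext i
    fin_cases i <;> simp [ap, vec3, hv, TM]
  · refine Or.inr ⟨t + u, by rw [map_add, ht, hu], ?_⟩
    congr 1
    ext i
    fin_cases i <;> simp [ap, vec3, hv, TM] <;> ring

theorem conic_stable {g : M} (hg : g ∈ Mx M) : ∀ Q ∈ conic σ, g • Q ∈ conic σ := by
  obtain ⟨u, c, s, hu, hs, hs0, -, hc, hv⟩ := up_shape C hLM g.2 ((mem_Mx C).mp hg)
  rintro Q (rfl | ⟨t, ht, rfl⟩) <;> rw [smul_pnt]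
  · refine Or.inl ?_
    rw [show ap (g : GL (Fin 3) F) e0 = (c * (s * s)) • e0 from ?_, pnt_smul (mul_ne_zero hc (mul_ne_zero hs0 hs0))]
    ext i
    fin_cases i <;> simp [ap, vec3, hv, TM, mul3]
  · refine Or.inr ⟨s * t + u, by rw [map_add, map_mul, hs, ht, hu], ?_⟩
    rw [show ap (g : GL (Fin 3) F) ![t ^ 2, t, 1] = c • ![(s * t + u) ^ 2, s * t + u, 1] from ?_,
      pnt_smul hc]
    ext i
    fin_cases i <;> simp [ap, vec3, hv, TM, mul3] <;> ring

/-- The setwise stabiliser of the conic. -/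
noncomputable def conicStab : Subgroup M where
  carrier := {g | ∀ Q ∈ conic σ, g • Q ∈ conic σ}
  one_mem' := fun Q hQ => by simpa using hQ
  mul_mem' := fun {g h} hg hh Q hQ => by rw [mul_smul]; exact hg _ (hh Q hQ)
  inv_mem' := fun {g} hg Q hQ => by
    let f : conic σ → conic σ := fun R => ⟨g • R.1, hg R.1 R.2⟩
    have hf : Function.Injective f := fun a b e =>
      Subtype.ext (MulAction.injective g (congrArg Subtype.val e))
    obtain ⟨⟨R, hR⟩, he⟩ := Finite.surjective_of_injective hf ⟨Q, hQ⟩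
    have : g⁻¹ • Q = R := inv_smul_eq_iff.mpr (congrArg Subtype.val he).symm
    exact this ▸ hR

theorem conic_orbit : MulAction.orbit (conicStab (σ := σ) (M := M)) (pnt (e0 : Fin 3 → F)) = conic σ := by
  ext Q
  constructor
  · rintro ⟨⟨g, hg⟩, rfl⟩
    exact hg _ (Or.inl rfl)
  obtain ⟨w, hw, hwv⟩ := exists_weyl C hLM
  have hws : (⟨w, hw⟩ : M) ∈ conicStab (σ := σ) (M := M) := by
    rintro Q (rfl | ⟨t, ht, rfl⟩) <;> rw [smul_pnt]
    · refine Or.inr ⟨0, map_zero σ, ?_⟩
      congr 1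
      ext i
      fin_cases i <;> simp [ap, vec3, hwv]
    · by_cases h0 : t = 0
      · subst h0
        refine Or.inl ?_
        congr 1
        ext i
        fin_cases i <;> simp [ap, vec3, hwv]
      · refine Or.inr ⟨-t⁻¹, by rw [map_neg, map_inv₀, ht], ?_⟩
        rw [show ap w ![t ^ 2, t, 1] = t ^ 2 • ![(-t⁻¹) ^ 2, -t⁻¹, 1] from ?_, pnt_smul (pow_ne_zero 2 h0)]
        ext i
        fin_cases i <;> simp [ap, vec3, hwv] <;> field_simp
  rintro (rfl | ⟨t, ht, rfl⟩)
  · exact MulAction.mem_orbit_self _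
  · have hTs : (⟨TG t, TG_real C ht⟩ : M) ∈ conicStab (σ := σ) (M := M) := conic_TG C hLM ht _ rfl
    refine ⟨⟨_, mul_mem hTs hws⟩, ?_⟩
    show (⟨TG t, TG_real C ht⟩ * ⟨w, hw⟩ : M) • pnt e0 = _
    rw [smul_pnt]
    congr 1
    ext i
    fin_cases i <;> simp [ap, vec3, hwv, TM, mul3]

theorem card_conic : (conic σ).ncard = p + 1 := by
  have e : conic σ = insert (pnt e0) (Set.range fun t : {t : F // σ t = t} => pnt ![t.1 ^ 2, t.1, 1]) := by
    ext Q
    simp only [conic, Set.mem_setOf_eq, Set.mem_insert_iff, Set.mem_range, Subtype.exists, exists_prop]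
    constructor
    · rintro (h | ⟨t, ht, h⟩)
      · exact Or.inl h
      · exact Or.inr ⟨t, ht, h.symm⟩
    · rintro (h | ⟨t, ht, h⟩)
      · exact Or.inl h
      · exact Or.inr ⟨t, ht, h.symm⟩
  rw [e, Set.ncard_insert_of_notMem, Set.ncard_range_of_injective, card_real C]
  · intro a b hab
    obtain ⟨c, hc⟩ := exists_of_pnt_eq hab
    have h1 := congrFun hc 1
    have h2 := congrFun hc 2
    simp at h1 h2
    subst h2
    exact Subtype.ext (by simpa using h1)
  · rintro ⟨t, ht⟩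
    obtain ⟨c, hc⟩ := exists_of_pnt_eq ht
    have h2 := congrFun hc 2
    simp at h2

/-- The index of the point stabiliser. -/
theorem index_Mx : (Mx M).index = (p + 1) * (conicStab (σ := σ) (M := M)).index := by
  have hle : Mx M ≤ conicStab (σ := σ) (M := M) := fun g hg => conic_stable C hLM hg
  rw [← Subgroup.relIndex_mul_index hle]
  congr 1
  rw [← card_conic C hLM, ← conic_orbit C hLM, ← MulAction.index_stabilizer]
  rfl

end Pair

/-- The torus character. -/
noncomputable def svHom : Mx M →* Fˣ where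
  toFun g := Units.mk0 (sv ((g : M) : GL (Fin 3) F))
    (conj_TG C (g : M).2 ((mem_Mx C).mp g.2)).2.2.2.1
  map_one' := Units.ext (by simpa using up_one.2)
  map_mul' g h := Units.ext (by
    simpa using sv_mul ((mem_Mx C).mp g.2) ((mem_Mx C).mp h.2))

theorem card_ker {ω : F} (hω : ω ^ 2 + ω + 1 = 0) {s : GL (Fin 3) F} (hs : s ∈ M)
    (hsv : (s : Matrix (Fin 3) (Fin 3) F) = ω • 1) : Nat.card (svHom C).ker = 3 * p := by
  have h3 := three C
  have hω3 : ω ^ 3 = 1 := by linear_combination (ω - 1) * hω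
  have hω1 : ω ≠ 1 := fun e => h3 (by rw [e] at hω; linear_combination hω)
  have hω0 : ω ≠ 0 := fun e => by simp [e] at hω3
  have hord : orderOf ω = 3 := orderOf_eq_prime hω3 hω1
  have hpow : ∀ i : ℕ, (s ^ i : GL (Fin 3) F).1 = ω ^ i • (1 : Matrix (Fin 3) (Fin 3) F) := fun i => by
    rw [Units.val_pow_eq_pow_val, hsv, _root_.smul_pow, one_pow]
  have hmem : ∀ x : Fin 3 × {t : F // σ t = t},
      s ^ (x.1 : ℕ) * TG x.2.1 ∈ M := fun x => mul_mem (pow_mem hs _) (TG_real C x.2.2)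
  have hup : ∀ x : Fin 3 × {t : F // σ t = t}, Up (s ^ (x.1 : ℕ) * TG x.2.1) ∧
      sv (s ^ (x.1 : ℕ) * TG x.2.1) = 1 := fun x => by
    refine ⟨⟨?_, ?_, ?_⟩, ?_⟩ <;> simp [sv, hpow, TM, hω0]
  let f : Fin 3 × {t : F // σ t = t} → (svHom C).ker := fun x =>
    ⟨⟨⟨_, hmem x⟩, (mem_Mx C).mpr (hup x).1⟩, MonoidHom.mem_ker.mpr (Units.ext (hup x).2)⟩
  have hbij : Function.Bijective f := by
    constructor
    · rintro ⟨i, a⟩ ⟨j, b⟩ e
      have e' : (s ^ (i : ℕ) * TG a.1 : GL (Fin 3) F) = s ^ (j : ℕ) * TG b.1 :=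
        congrArg (fun z : (svHom C).ker => (((z : Mx M) : M) : GL (Fin 3) F)) e
      have e00 := congrArg (fun z : GL (Fin 3) F => z.1 0 0) e'
      have e12 := congrArg (fun z : GL (Fin 3) F => z.1 1 2) e'
      simp [hpow, TM] at e00 e12
      have hij : i = j := Fin.ext (pow_injOn_Iio_orderOf (by simp [hord, i.isLt])
        (by simp [hord, j.isLt]) e00)
      subst hij
      simp [hω0] at e12
      exact Prod.ext rfl (Subtype.ext e12)
    · rintro ⟨⟨g, hg⟩, hk⟩
      have hsv1 : sv (g : GL (Fin 3) F) = 1 := congrArg Units.val (MonoidHom.mem_ker.mp hk)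
      obtain ⟨u, r, hu, hr, hv⟩ := kernel_form C g.2 ((mem_Mx C).mp hg) hsv1
      obtain ⟨i, hi, rfl⟩ := IsPrimitiveRoot.eq_pow_of_pow_eq_one (hord ▸ IsPrimitiveRoot.orderOf ω)
        (hr : r ^ 3 = 1)
      exact ⟨(⟨i, hi⟩, ⟨u, hu⟩), Subtype.ext (Subtype.ext (Subtype.ext (Units.ext (by
        simp [f, hpow, hv]))))⟩
  rw [← Nat.card_congr (Equiv.ofBijective f hbij), Nat.card_prod, Nat.card_eq_fintype_card,
    Fintype.card_fin, card_real C]

theorem frob (hcard : Fintype.card F = p ^ 2) (x : F) : σ x = x ^ p := by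
  classical
  have := C.char
  have := Fact.mk C.prime
  obtain ⟨g, hg⟩ := IsCyclic.exists_generator (α := Fˣ)
  -- both automorphisms fix the prime field and square to the identity
  have hx0 : σ (g : F) ≠ 0 := (map_ne_zero σ).mpr g.ne_zero
  set N := (g : F) * σ (g : F)
  obtain ⟨m, hm⟩ := (C.real N).mp (show σ N = N by simp [N, map_mul, C.invol, mul_comm])
  have hN : N ^ p = N := by rw [← hm, ← frobenius_def, map_natCast]
  set T := (g : F) + σ (g : F)
  obtain ⟨m', hm'⟩ := (C.real T).mp (show σ T = T by simp [T, map_add, C.invol, add_comm])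
  have hT : T ^ p = T := by rw [← hm', ← frobenius_def, map_natCast]
  have hne : (g : F) ^ p ≠ g := by
    intro h
    have h1 : g ^ (p - 1) = 1 := by
      refine Units.ext (mul_left_cancel₀ g.ne_zero ?_)
      rw [Units.val_pow_eq_pow_val, ← pow_succ', Nat.sub_add_cancel C.prime.one_le, h, Units.val_one,
        mul_one]
    have hd := Nat.le_of_dvd (by have := C.ge; omega) (orderOf_dvd_of_pow_eq_one h1)
    rw [orderOf_eq_card_of_forall_mem_zpowers hg, Nat.card_eq_fintype_card, Fintype.card_units,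
      hcard] at hd
    have h2 : p ^ 2 ≥ p * 11 := by rw [pow_two]; exact Nat.mul_le_mul_left _ C.ge
    have := C.ge
    omega
  have hroot : ((g : F) ^ p - g) * ((g : F) ^ p - σ (g : F)) = 0 := by
    have e1 : (g : F) ^ p + σ (g : F) ^ p = T := by rw [← hT, add_pow_char]
    have e2 : (g : F) ^ p * σ (g : F) ^ p = N := by rw [← hN, mul_pow]
    linear_combination (g : F) ^ p * e1 - e2
  have hgp : σ (g : F) = (g : F) ^ p :=
    (sub_eq_zero.mp ((mul_eq_zero.mp hroot).resolve_left (sub_ne_zero.mpr hne))).symm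
  by_cases hx : x = 0
  · rw [hx, map_zero, zero_pow C.prime.ne_zero]
  obtain ⟨i, hi⟩ : ∃ i : ℕ, g ^ i = Units.mk0 x hx :=
    Submonoid.mem_powers_iff _ _ |>.mp (mem_powers_iff_mem_zpowers.mpr (hg _))
  have e : x = (g : F) ^ i := by rw [← Units.val_pow_eq_pow_val, hi, Units.val_mk0]
  rw [e, map_pow, hgp, ← pow_mul, ← pow_mul, mul_comm]

theorem exists_skew' (hcard : Fintype.card F = p ^ 2) : ∃ ε : F, ε ≠ 0 ∧ σ ε = -ε := by
  classical
  obtain ⟨x, hx⟩ : ∃ x : F, σ x ≠ x := by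
    by_contra hcon
    simp only [not_exists, not_not] at hcon
    have h := card_real C
    rw [Nat.card_congr (Equiv.subtypeUnivEquiv hcon), Nat.card_eq_fintype_card, hcard] at h
    nlinarith [C.ge]
  exact ⟨x - σ x, sub_ne_zero.mpr (Ne.symm hx), by rw [map_sub, C.invol, neg_sub]⟩

/-- Isotropic points are few. -/
theorem ncard_iso (hcard : Fintype.card F = p ^ 2) (O : Set (Submodule F (Fin 3 → F)))
    (hO : ∀ Q ∈ O, ∃ v, v ≠ 0 ∧ f0 σ v v = 0 ∧ Q = pnt v) :
    O.ncard ≤ p ^ 3 + 1 ∧ (O.ncard = p ^ 3 + 1 → ∀ v, v ≠ 0 → f0 σ v v = 0 → pnt v ∈ O) := by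
  classical
  have h2 := two C
  obtain ⟨ε, hε0, hε⟩ := exists_skew' C hcard
  let f : Option (F × {t : F // σ t = t}) → Submodule F (Fin 3 → F) := fun o =>
    o.elim (pnt e0) fun x => pnt ![x.1 * σ x.1 + x.2.1 * ε, x.1, 1]
  have hcov : ∀ v, v ≠ 0 → f0 σ v v = 0 → pnt v ∈ Set.range f := by
    intro v hv hf
    simp only [f0] at hf
    by_cases hz : v 2 = 0
    · rw [hz, map_zero, mul_zero, zero_mul, sub_zero, sub_zero] at hf
      have hy : v 1 = 0 := by
        rcases mul_eq_zero.mp hf with h | h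
        · exact (mul_eq_zero.mp h).resolve_left h2
        · exact (map_eq_zero σ).mp h
      have e : v = v 0 • e0 := by
        ext i; fin_cases i <;> simp [hy, hz]
      refine ⟨none, ?_⟩
      show pnt e0 = pnt v
      rw [e, pnt_smul]
      intro h; exact hv (by rw [e, h, zero_smul])
    · set y := v 1 / v 2
      set x := v 0 / v 2
      have hσz : σ (v 2) ≠ 0 := (map_ne_zero σ).mpr hz
      have hx : x + σ x = 2 * (y * σ y) := by
        simp only [x, y, map_div₀]
        field_simp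
        linear_combination -hf
      set r := (x - y * σ y) / ε with hr
      have hr' : σ r = r := by
        rw [hr, map_div₀, map_sub, map_mul, C.invol, hε]
        field_simp
        linear_combination -hx
      refine ⟨some (y, ⟨r, hr'⟩), ?_⟩
      show pnt ![y * σ y + r * ε, y, 1] = pnt v
      have e : v = v 2 • ![y * σ y + r * ε, y, 1] := by
        rw [hr, div_mul_cancel₀ _ hε0, add_sub_cancel]
        ext i; fin_cases i <;> simp [x, y] <;> field_simp
      conv_rhs => rw [e]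
      exact (pnt_smul hz _).symm
  have hsub : O ⊆ Set.range f := fun Q hQ => by
    obtain ⟨v, hv, hf, rfl⟩ := hO Q hQ
    exact hcov v hv hf
  have hr : (Set.range f).ncard ≤ p ^ 3 + 1 := by
    rw [← Set.image_univ]
    refine (Set.ncard_image_le (Set.toFinite _)).trans (le_of_eq ?_)
    rw [Set.ncard_univ, Finite.card_option, Nat.card_prod, card_real C, Nat.card_eq_fintype_card, hcard]
    ring
  refine ⟨(Set.ncard_le_ncard hsub (Set.toFinite _)).trans hr, fun he v hv hf => ?_⟩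
  rw [Set.eq_of_subset_of_ncard_le hsub (by omega) (Set.toFinite _)]
  exact hcov v hv hf

end Cfsg.Agent.SU3Geo98.C6
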