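import Cfsg.Agent.SU3Geo98.C6.Frame
import Mathlib.GroupTheory.Transfer
import Mathlib.GroupTheory.Nilpotent
import Mathlib.LinearAlgebra.Trace

/-!
Class six of S5777 (helper98): without transvections, a second root group in real position.

If the real torus parameter takes the value `-1`, a second involution centralising the corresponding
one moves the fixed point. Otherwise transfer removes the odd primes of the torus until some element
inverts it, and with a trivial torus there would be `p` commuting involutions.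
-/

set_option autoImplicit false
set_option linter.unusedSectionVars false

namespace Cfsg.Agent.SU3Geo98.C6

open Matrix
open SL3Geo34 (IsTransvec)
open SL3Geo32.Regular (TM TG TG_coe TG_mul TM_zero)

variable {F : Type*} [Field F] [Fintype F]
variable {σ : F ≃+* F} {p : ℕ} {M : Subgroup (GL (Fin 3) F)}

/-- The lower root elements. -/
def LMm (t : F) : Matrix (Fin 3) (Fin 3) F := !![1, 0, 0; t, 1, 0; t ^ 2, 2 * t, 1]

theorem LMm_mul (s t : F) : LMm s * LMm t = LMm (s + t) := by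
  ext i j
  fin_cases i <;> fin_cases j <;> simp [LMm, mul3] <;> ring

theorem LMm_zero : LMm (0 : F) = 1 := by
  ext i j
  fin_cases i <;> fin_cases j <;> simp [LMm]

/-- The lower root elements in the group. -/
def LM (t : F) : GL (Fin 3) F :=
  ⟨LMm t, LMm (-t), by rw [LMm_mul, add_neg_cancel, LMm_zero],
    by rw [LMm_mul, neg_add_cancel, LMm_zero]⟩

@[simp] theorem LM_coe (t : F) : (LM t : Matrix (Fin 3) (Fin 3) F) = LMm t := rfl

theorem LM_mul (s t : F) : LM s * LM t = LM (s + t) := Units.ext (LMm_mul s t)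

/-- Central unipotent matrices. -/
def WMm (w : F) : Matrix (Fin 3) (Fin 3) F := !![1, 0, w; 0, 1, 0; 0, 0, 1]

theorem WMm_mul (v w : F) : WMm v * WMm w = WMm (v + w) := by
  ext i j
  fin_cases i <;> fin_cases j <;> simp [WMm, mul3] <;> ring

theorem WMm_zero : WMm (0 : F) = 1 := by
  ext i j
  fin_cases i <;> fin_cases j <;> simp [WMm]

/-- Central unipotent elements. -/
def W (w : F) : GL (Fin 3) F :=
  ⟨WMm w, WMm (-w), by rw [WMm_mul, add_neg_cancel, WMm_zero],
    by rw [WMm_mul, neg_add_cancel, WMm_zero]⟩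

@[simp] theorem W_coe (w : F) : (W w : Matrix (Fin 3) (Fin 3) F) = WMm w := rfl

theorem W_inv_coe (w : F) : ((W w)⁻¹ : GL (Fin 3) F).1 = WMm (-w) := rfl

theorem up_W (w : F) : Up (W w) ∧ sv (W w) = 1 ∧ Up (W w)⁻¹ ∧ sv (W w)⁻¹ = 1 := by
  refine ⟨⟨?_, ?_, ?_⟩, ?_, ⟨?_, ?_, ?_⟩, ?_⟩ <;> simp only [sv, W_inv_coe, W_coe] <;> simp [WMm]

/-- Isometries of the normal form commuting with the standard element. -/
def Adm (σ : F ≃+* F) (k : GL (Fin 3) F) : Prop :=
  k * TG 1 = TG 1 * k ∧ ∀ u v : Fin 3 → F, f0 σ (ap k u) (ap k v) = f0 σ u v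

theorem adm_one : Adm σ (1 : GL (Fin 3) F) := ⟨by simp, fun u v => by simp [ap]⟩

theorem adm_mul {k l : GL (Fin 3) F} (hk : Adm σ k) (hl : Adm σ l) : Adm σ (k * l) :=
  ⟨by rw [mul_assoc, hl.1, ← mul_assoc, hk.1, mul_assoc],
    fun u v => by rw [ap_mul, ap_mul, hk.2, hl.2]⟩

theorem adm_inv {k : GL (Fin 3) F} (hk : Adm σ k) : Adm σ k⁻¹ := by
  refine ⟨(Commute.inv_left hk.1 : Commute k⁻¹ (TG 1)), fun u v => ?_⟩
  rw [← hk.2]
  simp [ap, mulVec_mulVec]

theorem adm_W {w : F} (hw : w + σ w = 0) : Adm σ (W w) := by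
  refine ⟨Units.ext ?_, fun u v => ?_⟩
  · simp only [Units.val_mul, W_coe, TG_coe]
    ext i j
    fin_cases i <;> fin_cases j <;> simp [WMm, TM, mul3] <;> ring
  · simp only [f0, ap, vec3, W_coe]
    simp [WMm]
    linear_combination -(u 2 * σ (v 2)) * hw

/-- Conjugation by `k`. -/
abbrev cj (k : GL (Fin 3) F) : GL (Fin 3) F →* GL (Fin 3) F := (MulAut.conj k).toMonoidHom

theorem cj_apply (k g : GL (Fin 3) F) : cj k g = k * g * k⁻¹ := rfl

theorem cj_cj (k l : GL (Fin 3) F) (g : GL (Fin 3) F) : cj k (cj l g) = cj (k * l) g := by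
  simp [cj_apply, mul_assoc]

theorem map_cj_cj (k l : GL (Fin 3) F) (M : Subgroup (GL (Fin 3) F)) :
    (M.map (cj l)).map (cj k) = M.map (cj (k * l)) := by
  rw [Subgroup.map_map]
  congr 1
  ext g : 1
  exact cj_cj k l g

theorem cj_transvec {k g : GL (Fin 3) F} (h : IsTransvec (cj k g)) : IsTransvec g := by
  refine ⟨fun e => h.1 (by rw [e, map_one]), ?_⟩
  have e : (cj k g : GL (Fin 3) F).1 - 1 = k.1 * (g.1 - 1) * (k⁻¹ : GL (Fin 3) F).1 := by
    rw [cj_apply, Units.val_mul, Units.val_mul, Matrix.mul_sub, Matrix.sub_mul, Matrix.mul_one,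
      Units.mul_inv]
  have h' := h.2
  rw [e] at h'
  have h3 := congrArg (fun A => (k⁻¹ : GL (Fin 3) F).1 * A * k.1) h'
  simpa [Matrix.mul_assoc] using h3

/-- The normal form survives conjugation by admissible elements. -/
theorem Ctx.conj (C : Ctx σ p M) {k : GL (Fin 3) F} (hk : Adm σ k) :
    Ctx σ p (M.map (cj k)) where
  prime := C.prime
  char := C.char
  invol := C.invol
  real := C.real
  ge := C.ge
  mod := C.mod
  iso := by
    rintro _ ⟨g, hg, rfl⟩ u v
    show f0 σ (ap (cj k g) u) (ap (cj k g) v) = _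
    rw [cj_apply, ap_mul, ap_mul, ap_mul, ap_mul, hk.2, C.iso g hg, (adm_inv hk).2]
  det := by
    rintro _ ⟨g, hg, rfl⟩
    rw [cj_apply, Units.val_mul, Units.val_mul, Matrix.det_mul, Matrix.det_mul, C.det g hg, mul_one,
      ← Matrix.det_mul, Units.mul_inv, Matrix.det_one]
  tg := ⟨TG 1, C.tg, by rw [cj_apply, hk.1, mul_inv_cancel_right]⟩
  no := by
    rintro _ ⟨g, hg, rfl⟩ h
    exact C.no g hg (cj_transvec h)

/-- A lower root element, after a change of frame. -/
def Good (σ : F ≃+* F) (M : Subgroup (GL (Fin 3) F)) : Prop :=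
  ∃ k, Adm σ k ∧ LM 1 ∈ M.map (cj k)

theorem good_of_conj {k : GL (Fin 3) F} (hk : Adm σ k) (h : Good σ (M.map (cj k))) : Good σ M := by
  obtain ⟨l, hl, hm⟩ := h
  exact ⟨l * k, adm_mul hl hk, by rwa [map_cj_cj] at hm⟩

/-- An element exchanging the outer coordinate lines. -/
def Swap (g : GL (Fin 3) F) : Prop :=
  g.1 0 0 = 0 ∧ g.1 0 1 = 0 ∧ g.1 1 0 = 0 ∧ g.1 1 2 = 0 ∧ g.1 2 1 = 0 ∧ g.1 2 2 = 0

theorem dg_up {g : GL (Fin 3) F} (h : Dg g) : Up g := ⟨h.2.2.1, h.2.2.2.2.1, h.2.2.2.2.2⟩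

theorem dg_mul {g h : GL (Fin 3) F} (hg : Dg g) (hh : Dg h) : Dg (g * h) := by
  obtain ⟨a1, a2, a3, a4, a5, a6⟩ := hg
  obtain ⟨b1, b2, b3, b4, b5, b6⟩ := hh
  refine ⟨?_, ?_, ?_, ?_, ?_, ?_⟩ <;>
    simp [Units.val_mul, mul3, a1, a2, a3, a4, a5, a6, b1, b2, b3, b4, b5, b6]

theorem dg_one : Dg (1 : GL (Fin 3) F) := by
  refine ⟨?_, ?_, ?_, ?_, ?_, ?_⟩ <;> simp

theorem dg_comm {g h : GL (Fin 3) F} (hg : Dg g) (hh : Dg h) : g * h = h * g := by
  obtain ⟨a1, a2, a3, a4, a5, a6⟩ := hg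
  obtain ⟨b1, b2, b3, b4, b5, b6⟩ := hh
  apply Units.ext
  ext i j
  fin_cases i <;> fin_cases j <;>
    simp [mul3, a1, a2, a3, a4, a5, a6, b1, b2, b3, b4, b5, b6, mul_comm]

theorem dg_pow {g : GL (Fin 3) F} (hg : Dg g) (n : ℕ) : Dg (g ^ n) := by
  induction n with
  | zero => simpa using dg_one
  | succ n ih => rw [pow_succ]; exact dg_mul ih hg

theorem sv_pow {g : GL (Fin 3) F} (hg : Up g) (n : ℕ) : Up (g ^ n) ∧ sv (g ^ n) = sv g ^ n := by
  induction n with
  | zero => simpa using up_one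
  | succ n ih =>
    rw [pow_succ]
    exact ⟨(up_mul ih.1 hg).1, by rw [sv_mul ih.1 hg, ih.2, pow_succ]⟩

theorem sv_cj_W (w : F) {g : GL (Fin 3) F} (hg : Up g) :
    Up (cj (W w) g) ∧ sv (cj (W w) g) = sv g := by
  obtain ⟨h1, h2, h3, h4⟩ := up_W w
  have h5 := (up_mul h1 hg).1
  rw [cj_apply]
  exact ⟨(up_mul h5 h3).1, by rw [sv_mul h5 h3, sv_mul h1 hg, h2, h4, one_mul, mul_one]⟩

variable (C : Ctx σ p M)
include C

theorem natCast_p : (p : F) = 0 := have := C.char; CharP.cast_eq_zero F p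

theorem sv_pow_eq_one {g : GL (Fin 3) F} (hg : g ∈ M) (hu : Up g) : sv g ^ (p - 1) = 1 := by
  have := C.char
  have := Fact.mk C.prime
  obtain ⟨-, -, hr, hne, -, -⟩ := conj_TG C hg hu
  obtain ⟨m, hm⟩ := (C.real _).mp hr
  have h : sv g ^ p = sv g := by rw [← hm, ← frobenius_def, map_natCast]
  refine mul_right_cancel₀ hne ?_
  rw [← pow_succ, one_mul, Nat.sub_add_cancel C.prime.one_le, h]

theorem LM_one_of {t : F} (ht : σ t = t) (ht0 : t ≠ 0) (hm : LM t ∈ M) : LM 1 ∈ M := by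
  have hr : σ t⁻¹ = t⁻¹ := by rw [map_inv₀, ht]
  obtain ⟨m, hm'⟩ := (C.real _).mp hr
  have h : ∀ k : ℕ, LM ((k : F) * t) ∈ M := by
    intro k
    induction k with
    | zero => rw [show LM ((0 : ℕ) * t : F) = 1 from Units.ext (by simp [LMm_zero])]; exact one_mem M
    | succ k ih => rw [Nat.cast_succ, add_one_mul, ← LM_mul]; exact mul_mem ih hm
  have := h m
  rwa [hm', inv_mul_cancel₀ ht0] at this

/-- An element exchanging the fixed point and the other end of the torus. -/
theorem LM_of_swap {g : GL (Fin 3) F} (hg : g ∈ M) (hs : Swap g)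
    (hsq : g.1 0 2 * g.1 2 0 = g.1 1 1 * g.1 1 1) : LM 1 ∈ M := by
  obtain ⟨h00, h01, h10, h12, h21, h22⟩ := hs
  have a := C.iso g hg e0 ![0, 0, 1]
  have b := C.iso g hg ![0, 1, 0] ![0, 1, 0]
  simp [f0, vec3, h00, h01, h10, h12, h21, h22] at a b
  set lam := g.1 0 2
  set nu := g.1 1 1
  set mu := g.1 2 0
  have hμ : mu * σ lam = 1 := by linear_combination a
  have hν : nu * σ nu = 1 := mul_left_cancel₀ (two C) (by linear_combination b)
  have hlam : lam ≠ 0 := fun h => by simp [h] at hμ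
  have hnu : nu ≠ 0 := fun h => by simp [h] at hν
  have hσl : σ lam ≠ 0 := (map_ne_zero σ).mpr hlam
  have ht : σ (nu / lam) = nu / lam := by
    rw [map_div₀, div_eq_div_iff hσl hlam]
    refine mul_left_cancel₀ (a := mu * nu) (mul_ne_zero (fun h => by simp [h] at hμ) hnu) ?_
    linear_combination (lam * mu) * hν + hsq - nu * nu * hμ
  refine LM_one_of C ht (div_ne_zero hnu hlam) ?_
  have h : g * TG 1 = LM (nu / lam) * g := by
    apply Units.ext
    simp only [Units.val_mul, TG_coe, LM_coe]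
    ext i j
    fin_cases i <;> fin_cases j <;>
      simp [TM, LMm, mul3, h00, h01, h10, h12, h21, h22] <;>
      simp only [lam, nu, mu] at hsq hlam ⊢ <;>
      field_simp
    all_goals first
      | linear_combination hsq
      | linear_combination -hsq
      | linear_combination 2 * hsq
      | linear_combination -2 * hsq
  rw [show LM (nu / lam) = g * TG 1 * g⁻¹ by rw [h, mul_inv_cancel_right]]
  exact mul_mem (mul_mem hg C.tg) (inv_mem hg)

/-- An element conjugating a torus element with three eigenvalues to a diagonal one is monomial. -/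
theorem mono_of_conj {g τ Δ : GL (Fin 3) F} (hg : g ∈ M) (hτ : Dg τ) (hΔ : Dg Δ)
    (h : g * τ = Δ * g) (h01 : τ.1 0 0 ≠ τ.1 1 1) (h02 : τ.1 0 0 ≠ τ.1 2 2)
    (h12 : τ.1 1 1 ≠ τ.1 2 2) : Dg g ∨ Swap g := by
  obtain ⟨a1, a2, a3, a4, a5, a6⟩ := hτ
  obtain ⟨b1, b2, b3, b4, b5, b6⟩ := hΔ
  have E : ∀ i j : Fin 3, g.1 i j * (τ.1 j j - Δ.1 i i) = 0 := by
    intro i j
    have := congrArg (fun x : GL (Fin 3) F => x.1 i j) h
    fin_cases i <;> fin_cases j <;>
      simp [mul3, a1, a2, a3, a4, a5, a6, b1, b2, b3, b4, b5, b6] at this ⊢ <;>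
      first
        | linear_combination this
        | (by_contra hc; simp only [not_or] at hc; exact hc.2 (sub_eq_zero.mpr
            (mul_left_cancel₀ hc.1 (by linear_combination this))))
  have two_zero : ∀ i j k : Fin 3, τ.1 j j ≠ τ.1 k k → g.1 i j = 0 ∨ g.1 i k = 0 := by
    intro i j k hjk
    rcases mul_eq_zero.mp (E i j) with h' | h'
    · exact Or.inl h'
    rcases mul_eq_zero.mp (E i k) with h'' | h''
    · exact Or.inr h''
    exact absurd ((sub_eq_zero.mp h').trans (sub_eq_zero.mp h'').symm) hjk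
  have b := C.iso g hg ![0, 1, 0] ![0, 1, 0]
  have hdet := C.det g hg
  rw [Matrix.det_fin_three] at hdet
  simp [f0, vec3] at b
  have h11 : g.1 1 1 ≠ 0 := fun e => by
    rcases two_zero 0 0 1 h01 with u | u <;> rcases two_zero 2 0 1 h01 with v | v <;>
      rcases two_zero 0 2 1 h12.symm with u' | u' <;> rcases two_zero 2 2 1 h12.symm with v' | v' <;>
      simp [e, u, v, u', v'] at b hdet <;>
      first
        | exact two C (by linear_combination b)
        | exact two C (by linear_combination -b)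
  have h10 : g.1 1 0 = 0 := (two_zero 1 0 1 h01).resolve_right h11
  have h12' : g.1 1 2 = 0 := (two_zero 1 2 1 h12.symm).resolve_right h11
  rcases two_zero 0 0 2 h02 with u | u
  · -- the first column lands in the last line
    have h20 : g.1 2 0 ≠ 0 := fun e => by simp [u, h10, e] at hdet
    have h21 : g.1 2 1 = 0 := (two_zero 2 0 1 h01).resolve_left h20
    have h22 : g.1 2 2 = 0 := (two_zero 2 0 2 h02).resolve_left h20
    have h02' : g.1 0 2 ≠ 0 := fun e => by simp [h12', e, h22] at hdet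
    have h01' : g.1 0 1 = 0 := (two_zero 0 2 1 h12.symm).resolve_left h02'
    exact Or.inr ⟨u, h01', h10, h12', h21, h22⟩
  · have h22 : g.1 2 2 ≠ 0 := fun e => by simp [h12', e, u] at hdet
    have h20 : g.1 2 0 = 0 := (two_zero 2 0 2 h02).resolve_right h22
    have h21 : g.1 2 1 = 0 := (two_zero 2 2 1 h12.symm).resolve_left h22
    have h00 : g.1 0 0 ≠ 0 := fun e => by simp [h10, h20, e] at hdet
    have h01' : g.1 0 1 = 0 := (two_zero 0 0 1 h01).resolve_left h00
    exact Or.inl ⟨h01', u, h10, h12', h20, h21⟩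

/-- A second involution commuting with `diag(-1, 1, -1)` exchanges the outer lines in a frame. -/
theorem swap_frame {t : GL (Fin 3) F} (htM : t ∈ M)
    (htv : (t : Matrix (Fin 3) (Fin 3) F) = !![-1, 0, 0; 0, 1, 0; 0, 0, -1])
    {w : GL (Fin 3) F} (hwM : w ∈ M) (hww : w * w = 1) (hw1 : w ≠ 1) (hwt : w ≠ t)
    (hwc : w * t = t * w) :
    ∃ c, c + σ c = 0 ∧ c = -(w.1 0 0 / w.1 2 0) ∧ Swap (cj (W c) w) ∧
      (cj (W c) w).1 0 2 * (cj (W c) w).1 2 0 = (cj (W c) w).1 1 1 * (cj (W c) w).1 1 1 := by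
  have h2 := two C
  have htt : t * t = 1 := by
    apply Units.ext
    rw [Units.val_mul, htv]
    ext i j
    fin_cases i <;> fin_cases j <;> simp [mul3]
  have E := fun i j => congrArg (fun x : GL (Fin 3) F => x.1 i j) hwc
  have w01 : w.1 0 1 = 0 := by
    have := E 0 1; simp [mul3, htv] at this
    exact (mul_eq_zero.mp (show (2 : F) * w.1 0 1 = 0 by linear_combination this)).resolve_left h2
  have w10 : w.1 1 0 = 0 := by
    have := E 1 0; simp [mul3, htv] at this
    exact (mul_eq_zero.mp (show (2 : F) * w.1 1 0 = 0 by linear_combination -this)).resolve_left h2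
  have w12 : w.1 1 2 = 0 := by
    have := E 1 2; simp [mul3, htv] at this
    exact (mul_eq_zero.mp (show (2 : F) * w.1 1 2 = 0 by linear_combination -this)).resolve_left h2
  have w21 : w.1 2 1 = 0 := by
    have := E 2 1; simp [mul3, htv] at this
    exact (mul_eq_zero.mp (show (2 : F) * w.1 2 1 = 0 by linear_combination this)).resolve_left h2
  have sq3 : ∀ {x : GL (Fin 3) F} {r : F}, x * x = 1 → r ^ 3 = 1 → x.1 = r • 1 → x = 1 :=
    fun {x r} hx hr hv => by
      have := congrArg (fun y : GL (Fin 3) F => y.1 0 0) hx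
      simp [hv] at this
      have hr1 : r = 1 := by linear_combination hr - r * this
      exact Units.ext (by rw [hv, hr1, one_smul, Units.val_one])
  by_cases hm : w.1 2 0 = 0
  · exfalso
    have huw := up_of_fix C hwM w10 hm
    have hsq : sv w * sv w = 1 := by rw [← sv_mul huw huw, hww]; exact up_one.2
    rcases mul_self_eq_one_iff.mp hsq with e | e
    · obtain ⟨r, hr, hv⟩ := scalar_of_sv C hwM huw w01 w12 e
      exact hw1 (sq3 hww hr hv)
    · have hut : Up t := by refine ⟨?_, ?_, ?_⟩ <;> simp [htv]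
      have hst : sv t = -1 := by simp [sv, htv]
      obtain ⟨r, hr, hv⟩ := scalar_of_sv C (mul_mem hwM htM) (up_mul huw hut).1
        (by simp [Units.val_mul, mul3, htv, w01]) (by simp [Units.val_mul, mul3, htv, w12])
        (by rw [sv_mul huw hut, e, hst]; ring)
      have hsq' : w * t * (w * t) = 1 := by
        rw [mul_assoc, ← mul_assoc t, ← hwc, mul_assoc w t t, htt, mul_one, hww]
      exact hwt (mul_right_cancel (b := t) ((sq3 hsq' hr hv).trans htt.symm))
  have i1 := C.iso w hwM e0 e0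
  simp [f0, vec3, w10] at i1
  set c := -(w.1 0 0 / w.1 2 0) with hcdef
  have hc : c + σ c = 0 := by
    have hσm : σ (w.1 2 0) ≠ 0 := (map_ne_zero σ).mpr hm
    rw [hcdef, map_neg, map_div₀]
    field_simp
    linear_combination i1
  have C' := C.conj (adm_W hc)
  set w' := cj (W c) w with hw'
  have hwM' : w' ∈ M.map (cj (W c)) := Subgroup.mem_map_of_mem _ hwM
  have hv' : w'.1 = WMm c * w.1 * WMm (-c) := by rw [hw', cj_apply]; rfl
  have hw00 : w'.1 0 0 = 0 := by
    simp [hv', mul3, WMm, Matrix.vecMul, dotProduct, Fin.sum_univ_three, w10, hcdef]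
    field_simp
    ring
  have hw20 : w'.1 2 0 = w.1 2 0 := by simp [hv', mul3, WMm, Matrix.vecMul, dotProduct, Fin.sum_univ_three]
  have ww : w' * w' = 1 := by rw [hw', ← map_mul, hww, map_one]
  have o01 : w'.1 0 1 = 0 := by simp [hv', mul3, WMm, Matrix.vecMul, dotProduct, Fin.sum_univ_three, w01, w21]
  have o10 : w'.1 1 0 = 0 := by simp [hv', mul3, WMm, Matrix.vecMul, dotProduct, Fin.sum_univ_three, w10]
  have o12 : w'.1 1 2 = 0 := by simp [hv', mul3, WMm, Matrix.vecMul, dotProduct, Fin.sum_univ_three, w10, w12]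
  have o21 : w'.1 2 1 = 0 := by simp [hv', mul3, WMm, Matrix.vecMul, dotProduct, Fin.sum_univ_three, w21]
  have q00 := congrArg (fun x : GL (Fin 3) F => x.1 0 0) ww
  have q20 := congrArg (fun x : GL (Fin 3) F => x.1 2 0) ww
  have q11 := congrArg (fun x : GL (Fin 3) F => x.1 1 1) ww
  simp [mul3, hw00, o01, o10, o12, o21] at q00 q20 q11
  have o22 : w'.1 2 2 = 0 := q20.resolve_right (by rw [hw20]; exact hm)
  exact ⟨c, hc, hcdef, ⟨hw00, o01, o10, o12, o21, o22⟩, by rw [q00, q11]⟩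

/-- The even case. -/
theorem good_even (hinv : ∀ t ∈ M, t * t = 1 → t ≠ 1 →
      ∃ g ∈ M, g * g = 1 ∧ g ≠ 1 ∧ g ≠ t ∧ g * t = t * g)
    {g : GL (Fin 3) F} (hg : g ∈ M) (hu : Up g) (hs : sv g = -1) : Good σ M := by
  obtain ⟨u, h, -, rfl, hh, huh, hsv, h01, h12⟩ := up_normal C hg hu
  have hsh : sv h = -1 := hsv.trans hs
  have hd := dg_of_neg C hh huh h01 h12 hsh
  obtain ⟨hβ, hα, -, -, -, -⟩ := conj_TG C hh huh
  obtain ⟨-, -, hdet, -, -⟩ := up_diag C hh huh
  obtain ⟨d01, d02, d10, d12, d20, d21⟩ := hd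
  rw [hsh] at hβ hα
  set a := h.1 2 2 with hadef
  have ha : a ^ 3 = -1 := by rw [hα, hβ] at hdet; linear_combination -hdet
  set t := h ^ 3 with htdef
  have htv : (t : Matrix (Fin 3) (Fin 3) F) = !![-1, 0, 0; 0, 1, 0; 0, 0, -1] := by
    rw [htdef, Units.val_pow_eq_pow_val, pow_three]
    ext i j
    fin_cases i <;> fin_cases j <;>
      simp [mul3, d01, d02, d10, d12, d20, d21, hα, hβ, ← hadef] <;>
      first | linear_combination ha | linear_combination -ha
  have htM : t ∈ M := pow_mem hh 3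
  have htt : t * t = 1 := by
    apply Units.ext
    rw [Units.val_mul, htv]
    ext i j
    fin_cases i <;> fin_cases j <;> simp [mul3]
  have h2 := two C
  have hne : (-1 : F) ≠ 1 := fun e => h2 (by linear_combination -e)
  have ht1 : t ≠ 1 := fun e => by
    have := congrArg (fun x : GL (Fin 3) F => x.1 0 0) e
    simp [htv] at this
    exact hne this
  obtain ⟨w, hwM, hww, hw1, hwt, hwc⟩ := hinv t htM htt ht1
  obtain ⟨c, hc, -, hsw, hsq⟩ := swap_frame C htM htv hwM hww hw1 hwt hwc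
  refine good_of_conj (adm_W hc) ⟨1, adm_one, ?_⟩
  rw [show cj (1 : GL (Fin 3) F) = MonoidHom.id _ by ext g : 1; simp [cj_apply], Subgroup.map_id]
  exact LM_of_swap (C.conj (adm_W hc)) (Subgroup.mem_map_of_mem _ hwM) hsw hsq

end Cfsg.Agent.SU3Geo98.C6
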